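import Cfsg.Agent.UM6.K4

/-!
# Generation lemmas for the field case
-/

set_option autoImplicit false
set_option linter.unusedSectionVars false
set_option linter.unusedVariables false

namespace Cfsg.Lib.UM6

open Subgroup Module Cfsg.Lib.Trans Cfsg.Lib.Gold Cfsg.Lib.Class.Form Cfsg.Lib.Class.FAut
open scoped commutatorElement

variable {E M : Type*} [Field E] [Finite E] [AddCommGroup M] [Module E M] [FiniteDimensional E M]
  {σ : E →+* E} {B : M →ₛₗ[σ] M →ₗ[E] E}

namespace GN

/-- The isometries of `N` whose extension by the identity lies in `H`. -/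
def res (H : Subgroup (sIsom B)) (N : Submodule E M) : Subgroup (isomGroup (restr B N)) where
  carrier := {g | ∃ a ∈ H, (∀ x : N, lin a x = (g : N ≃ₗ[E] N) x) ∧ ∀ y ∈ orth B N, lin a y = y}
  one_mem' := ⟨1, one_mem _, fun _ => rfl, fun _ _ => rfl⟩
  mul_mem' := by
    rintro g g' ⟨a, ha, h1, h2⟩ ⟨b, hb, h3, h4⟩
    exact ⟨a * b, mul_mem ha hb, fun x => by rw [lin_mul, h3, h1]; rfl,
      fun y hy => by rw [lin_mul, h4 y hy, h2 y hy]⟩
  inv_mem' := by
    rintro g ⟨a, ha, h1, h2⟩
    refine ⟨a⁻¹, inv_mem ha, fun x => ?_, fun y hy => ?_⟩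
    · obtain ⟨x, rfl⟩ := (g : N ≃ₗ[E] N).surjective x
      rw [← h1, lin_inv_lin, isom_inv_apply]
    · conv_lhs => rw [← h2 y hy]
      exact lin_inv_lin a y

theorem res_eq_1' : type_of% @res.eq_1 := @res.eq_1

theorem witt (h : Herm B) (h3 : 5 ≤ finrank E M) {ι : Type*} [Fintype ι] (hc : Fintype.card ι ≤ 2)
    {x y : ι → M} (hx : LinearIndependent E x) (hy : LinearIndependent E y)
    (hB : ∀ i j, B (y i) (y j) = B (x i) (x j)) : ∃ g : sIsom B, ∀ i, lin g (x i) = y i := by
  have h1 := finrank_range_le_card (R := E) y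
  obtain ⟨d, h2, hd⟩ := h.exists_nonisotropic_orth_of_lt
    (W := Submodule.span E (Set.range y)) (by unfold Set.finrank at h1; omega)
  obtain ⟨g, hg⟩ := h.toGood.witt_family hx hy hB
  obtain ⟨μ, hμ, e⟩ := h.exists_mul_qrefl_mem hd g⁻¹
  refine ⟨(⟨_, e⟩ : sIsom B)⁻¹, fun i => ?_⟩
  have : lin (⟨_, e⟩ : sIsom B) (y i) = x i := by
    rw [lin_mk, isom_mul_apply, h.qrefl_apply_of_orth hd μ hμ
      (h.comm (mem_orth_span.1 h2 _ ⟨i, rfl⟩)), ← hg, isom_inv_apply]
  rw [← this, lin_inv_lin]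

theorem wittN (h : Mo B) {N : Submodule E M} (hN : NondegOn B N) (h3 : 5 ≤ finrank E N)
    {H : Subgroup (sIsom B)} (hH : sIsom (restr B N) ≤ res H N) {ι : Type*} [Fintype ι]
    (hc : Fintype.card ι ≤ 2) {x y : ι → M} (xN : ∀ i, x i ∈ N) (yN : ∀ i, y i ∈ N)
    (hx : LinearIndependent E x) (hy : LinearIndependent E y)
    (hB : ∀ i j, B (y i) (y j) = B (x i) (x j)) :
    ∃ a ∈ H, (∀ i, lin a (x i) = y i) ∧ ∀ z ∈ orth B N, lin a z = z := by
  obtain ⟨g, hg⟩ := witt (h.toHerm.restrict hN) h3 hc (x := fun i => ⟨x i, xN i⟩)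
    (y := fun i => ⟨y i, yN i⟩) (LinearIndependent.of_comp N.subtype hx)
    (LinearIndependent.of_comp N.subtype hy) hB
  obtain ⟨a, ha, h1, h2⟩ := hH g.2
  exact ⟨a, ha, fun i => (h1 ⟨x i, xN i⟩).trans (congrArg Subtype.val (hg i)), h2⟩

section dual
variable {ι : Type*} [Fintype ι] [DecidableEq ι] {b d : ι → M}

theorem coef (hb : ∀ i j, B (d j) (b i) = if i = j then 1 else 0) (c : ι → E) (j : ι) :
    B (d j) (∑ i, c i • b i) = c j := by
  simp [hb]

theorem lind (hb : ∀ i j, B (d j) (b i) = if i = j then 1 else 0) : LinearIndependent E b :=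
  Fintype.linearIndependent_iff.2 fun c hc j => by rw [← coef hb c j, hc, map_zero]

theorem nondeg (h : Mo B) (hb : ∀ i j, B (d j) (b i) = if i = j then 1 else 0)
    (hd : ∀ j, d j ∈ Submodule.span E (Set.range b)) :
    NondegOn B (Submodule.span E (Set.range b)) := fun u hu k => by
  obtain ⟨c, rfl⟩ := (Submodule.mem_span_range_iff_exists_fun E).1 hu
  exact Finset.sum_eq_zero fun j _ => by rw [← coef hb c j, h.swap (k _ (hd j)), zero_smul]

end dual

theorem gram (h : Mo B) {ι : Type*} [DecidableEq ι] {e f : ι → M} (ee : ∀ i j, B (e i) (e j) = 0)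
    (ff : ∀ i j, B (f i) (f j) = 0) (ef : ∀ i j, B (e i) (f j) = if i = j then 1 else 0)
    (a c : ι ⊕ ι) : B (Sum.elim e f c.swap) (Sum.elim e f a) = if a = c then 1 else 0 := by
  have fe : ∀ i j, B (f i) (e j) = if j = i then 1 else 0 := fun i j => by
    rw [← h.toHerm.conj, ef]; split_ifs <;> simp
  rcases a with a | a <;> rcases c with c | c <;> simp [ee, ff, ef, fe, eq_comm]

theorem hyp (h : Mo B) {N : Submodule E M} (hN : NondegOn B N) {n : ℕ} (hn : finrank E N = 2 * n) :
    ∃ e f : Fin n → M, (∀ i j, B (e i) (e j) = 0) ∧ (∀ i j, B (f i) (f j) = 0) ∧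
      (∀ i j, B (e i) (f j) = if i = j then 1 else 0) ∧
      Submodule.span E (Set.range (Sum.elim e f)) = N := by
  obtain ⟨W, hW, ti⟩ := (h.toHerm.restrict hN).exists_totIso n hn.ge
  obtain ⟨e, li1, he⟩ := exists_basis hW
  obtain ⟨s, li2, hs⟩ := exists_basis (W := orth B N) rfl
  have eW : ∀ i, e i ∈ W := fun i => he ▸ Submodule.subset_span ⟨i, rfl⟩
  have sO : ∀ k, s k ∈ orth B N := fun k => hs ▸ Submodule.subset_span ⟨k, rfl⟩
  have ee : ∀ i j, B (e i : M) (e j : M) = 0 := fun i j => ti _ (eW i) _ (eW j)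
  obtain ⟨f, ff, ef, sf⟩ := h.dual (e := fun i => (e i : M)) (s := s)
    ((li1.map' N.subtype N.ker_subtype).sum_type li2 (by
      rw [hs]
      exact (h.toGood.nondegOn_iff_disjoint.1 hN).mono_left (Submodule.span_le.2 (by
        rintro _ ⟨i, rfl⟩; exact (e i).2)))) ee
    fun i k => h.swap (mem_orth.1 (sO k) _ (e i).2)
  refine ⟨_, f, ee, ff, ef, Submodule.eq_of_le_of_finrank_eq (Submodule.span_le.2 ?_) ?_⟩
  · rintro _ ⟨i | i, rfl⟩
    · exact (e i).2
    · refine (h.toGood.orth_orth N).le (?_ : f i ∈ _)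
      rw [← hs]
      exact mem_orth_span.2 (by rintro _ ⟨k, rfl⟩; exact sf k i)
  · rw [finrank_span_eq_card (lind (gram h ee ff ef)), hn]
    simp [two_mul]

end GN

open GN

theorem Mo.kap (h : Mo B) {ι : Type*} [Fintype ι] [DecidableEq ι] {b d : ι → M}
    (hb : ∀ i j, B (d j) (b i) = if i = j then 1 else 0) :
    ∃ κ : Matrix.SpecialLinearGroup ι E →* (M ≃ₗ[E] M), Function.Injective κ ∧
      (∀ i j s, i ≠ j → κ (Chev.slE i j s) = tv B (s • b i) (d j)) ∧
      ∀ u ∈ Submodule.span E (Set.range b), ∀ w ∈ Submodule.span E (Set.range d), B w u = 0 →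
        tv B u w ∈ κ.range := by
  let P : M →ₗ[E] ι → E := LinearMap.pi fun j => B (d j)
  let Q : (ι → E) →ₗ[E] M := Fintype.linearCombination E b
  have PQ : ∀ v, P (Q v) = v := fun v => funext fun j => coef hb v j
  let φ : Matrix.SpecialLinearGroup ι E →* Module.End E M :=
    { toFun := fun g => 1 + Q ∘ₗ Matrix.toLin' (g.1 - 1) ∘ₗ P
      map_one' := by simp
      map_mul' := fun g g' => LinearMap.ext fun x => by
        simp [PQ]; abel }
  let κ : Matrix.SpecialLinearGroup ι E →* (M ≃ₗ[E] M) :=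
    (LinearMap.GeneralLinearGroup.generalLinearEquiv E M).toMonoidHom.comp φ.toHomUnits
  have hκ : ∀ g x, κ g x = x + Q ((g.1 - 1).mulVec (P x)) := fun g x => rfl
  refine ⟨κ, (injective_iff_map_eq_one _).2 fun g e => Subtype.ext ?_, fun i j s hij => ?_,
    fun u hu w hw e => ?_⟩
  · refine sub_eq_zero.1 (Matrix.ext_iff_mulVec.2 fun v => ?_)
    have := congrArg P (hκ g (Q v))
    rw [e, map_add, PQ, PQ] at this
    simpa [PQ] using this
  · ext x
    rw [hκ, tv_apply (by simp [hb, hij]), Chev.coe_slE hij, add_sub_cancel_left,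
      Matrix.single_mulVec]
    simp [Q, P, Fintype.linearCombination_apply, Function.update_apply, smul_smul, mul_comm]
  · obtain ⟨α, rfl⟩ := (Submodule.mem_span_range_iff_exists_fun E).1 hu
    obtain ⟨β, rfl⟩ := (Submodule.mem_span_range_iff_exists_fun E).1 hw
    have k : ∀ x, B (∑ j, β j • d j) x = (fun j => σ (β j)) ⬝ᵥ P x := fun x => by
      simp [P, dotProduct]
    obtain ⟨g, hg⟩ : ∃ g : Matrix.SpecialLinearGroup ι E,
        g.1 = 1 + Matrix.vecMulVec α fun j => σ (β j) := ⟨⟨_, by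
      rw [Matrix.vecMulVec_eq Unit, Matrix.det_one_add_replicateCol_mul_replicateRow,
        ← PQ α, ← k]
      exact (congrArg _ e).trans (add_zero _)⟩, rfl⟩
    refine ⟨g, LinearEquiv.ext fun x => ?_⟩
    rw [hκ, tv_apply e, hg, add_sub_cancel_left, k, Matrix.vecMulVec_mulVec, op_smul_eq_smul,
      map_smul]
    rfl

theorem Fr3.genN (h : Mo B) {e f : Fin 3 → M} (k : Fr3 B e f) {H : Subgroup (sIsom B)}
    (hH : ∀ i j (s : E), i ≠ j → tE B (s • Sum.elim e f i) (Sum.elim e f j.swap) ∈ H) {u w : M}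
    (hu : u ∈ Submodule.span E (Set.range (Sum.elim e f)))
    (hw : w ∈ Submodule.span E (Set.range (Sum.elim e f))) (w0 : w ≠ 0) (k' : I2 B u w) :
    ∃ g ∈ H, ∃ a b : E, lin g (b • e 0) = w ∧ (lin g (a • e 1) = u ∨ lin g (a • e 0) = u) := by
  have gr := gram h k.ee k.ff k.ef
  set v := Sum.elim e f with hv
  set N := Submodule.span E (Set.range v)
  have vN : ∀ a, v a ∈ N := fun a => Submodule.subset_span ⟨a, rfl⟩
  have hN : NondegOn B N := nondeg h gr fun j => vN _
  have h6 : finrank E N = 6 := by rw [finrank_span_eq_card (lind gr)]; simp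
  have hN' := h.toHerm.restrict hN
  have gr' : ∀ a c, B (v a) (v c) = if c = a.swap then 1 else 0 := fun a c => by
    rw [← gr, Sum.swap_swap]
  have vv : ∀ a, B (v a) (v a) = 0 := fun a => by rw [gr']; rcases a with a | a <;> simp
  have full : ∀ a, hN'.Full (res H N) ⟨v a, vN a⟩ := fun a => by
    refine hN'.full_of_forall (by omega) (vv a) fun x hx => ⟨0, ?_⟩
    obtain ⟨c, hc⟩ := (Submodule.mem_span_range_iff_exists_fun E).1 x.2
    have c0 : c a.swap = 0 := by
      rw [← coef gr c a.swap, hc, Sum.swap_swap]; exact hx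
    have e1 : x = ∑ i, c i • (⟨v i, vN i⟩ : N) := Subtype.ext (by
      rw [← hc, AddSubmonoidClass.coe_finsetSum]; rfl)
    rw [zero_smul, add_zero, e1]
    refine AddSubgroup.sum_mem _ fun i _ => ?_
    by_cases hi : i = a.swap
    · rw [hi, c0, zero_smul]; exact zero_mem _
    have i2 : I2 B (v a) (v i) := ⟨vv a, vv i, by rw [gr', if_neg hi]⟩
    have i3 : I2 B (v a) (c i • v i) := by simpa using i2.smul 1 (c i)
    refine ⟨i3.uw, 0, by rw [map_zero, add_zero]; exact i3.ww.symm, tE B (v a) (c i • v i), ?_, fun y => ?_,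
      fun y hy => ?_⟩
    · have := hH a i.swap (σ (c i)) fun e => hi (by rw [e, Sum.swap_swap])
      rwa [Sum.swap_swap, h.tE_smul i2, h.ss] at this
    · refine Eq.trans ?_ (congrArg Subtype.val (hN'.eich_apply _ _ _ _ y)).symm
      rw [h.isE i3, one_mul, zero_mul]
      simp only [zero_mul]
      rfl
    · rw [h.lin_tE i3, mem_orth.1 hy _ (vN a), mem_orth.1 hy _ (N.smul_mem _ (vN i))]
      simp
  have hle := hN'.sIsom_le_of_full (by omega) (full (Sum.inl 0)) (full (Sum.inr 0))
    (by rw [restr_apply, gr']; simp)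
  by_cases hd : ∃ a : E, a • w = u
  · obtain ⟨a, rfl⟩ := hd
    obtain ⟨g, hg, h1, -⟩ := wittN h hN (by omega) hle (ι := Unit) (by simp) (x := fun _ => e 0)
      (y := fun _ => w) (fun _ => vN (Sum.inl 0)) (fun _ => hw)
      (linearIndependent_unique_iff.2 ((k.li1 h).ne_zero 0)) (linearIndependent_unique_iff.2 w0)
      fun _ _ => by rw [k'.ww, k.ee]
    exact ⟨g, hg, a, 1, by rw [one_smul, h1 ()], Or.inr (by rw [map_smul, h1 ()])⟩
  · obtain ⟨g, hg, h1, -⟩ := wittN h hN (by omega) hle (ι := Fin 2) (by simp)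
      (x := e ∘ Fin.castSucc) (y := ![w, u]) (fun i => vN (Sum.inl _))
      (fun i => by fin_cases i; exacts [hw, hu]) ((k.li1 h).comp _ (Fin.castSucc_injective _))
      ((LinearIndependent.pair_iff' w0).2 fun a e => hd ⟨a, e⟩) fun i j => by
        rw [Function.comp, Function.comp, k.ee]
        fin_cases i <;> fin_cases j
        exacts [k'.ww, h.swap k'.uw, k'.uw, k'.uu]
    exact ⟨g, hg, 1, 1, by rw [one_smul]; exact h1 0, Or.inl (by rw [one_smul]; exact h1 1)⟩

theorem Mo.fr_of (h : Mo B) {N : Submodule E M} (hN : NondegOn B N) (h6 : finrank E N = 6) :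
    ∃ e f, Fr3 B e f ∧ Submodule.span E (Set.range (Sum.elim e f)) = N := by
  obtain ⟨e, f, h1, h2, h3, h4⟩ := hyp h hN (n := 3) h6
  exact ⟨e, f, ⟨h1, h2, h3⟩, h4⟩

theorem Mo.gen4 (h : Mo B) {N : Submodule E M} (hN : NondegOn B N) (h4 : finrank E N = 4)
    {H : Subgroup (M ≃ₗ[E] M)} (hH : ∀ u ∈ N, ∀ w ∈ N, I2 B u w → tv B u w ∈ H) {u w : M}
    (hu : u ∈ N) (hw : w ∈ N) (e : B w u = 0) : tv B u w ∈ H := by
  obtain ⟨a, b, h1, h2, h3, rfl⟩ := hyp h hN (n := 2) h4
  have gr := gram h h1 h2 h3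
  have vv : ∀ c, B (Sum.elim a b c) (Sum.elim a b c) = 0 := by rintro (c | c) <;> simp [h1, h2]
  obtain ⟨κ, -, k1, k2⟩ := h.kap gr
  have top := Chev.closure_slE (H.comap κ) fun i j hij s => by
    rw [mem_comap, k1 i j s hij]
    refine hH _ (Submodule.smul_mem _ _ (Submodule.subset_span ⟨i, rfl⟩)) _
      (Submodule.subset_span ⟨_, rfl⟩) ?_
    simpa using (I2.mk (vv i) (vv j.swap) (h.swap (by rw [gr, if_neg hij]))).smul s 1
  obtain ⟨g, hg⟩ := k2 u hu w (by
    rwa [show (fun j : Fin 2 ⊕ Fin 2 => Sum.elim a b j.swap) = Sum.elim a b ∘ Sum.swap from rfl,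
      Sum.swap_leftInverse.surjective.range_comp]) e
  exact hg ▸ (top.ge (mem_top g) : κ g ∈ H)

theorem Mo.supp (h : Mo B) {n : ℕ} (d : Basis (Fin n) E M)
    (hd : ∀ i j, B (d i) (d j) = if i = j then 1 else 0) {H : Subgroup (sIsom B)}
    (hH : ∀ S : Finset (Fin n), S.card = 6 → ∀ u ∈ Submodule.span E (d '' S), B u u = 0 →
      tT B u 1 ∈ H) : H = ⊤ := by
  have hn : 6 ≤ n := by simpa [finrank_eq_card_basis d] using h.six
  have key : ∀ (k : ℕ) (T : Finset (Fin n)), T.card = k → ∀ u ∈ Submodule.span E (d '' T),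
      B u u = 0 → tT B u 1 ∈ H := by
    intro k
    induction k with
    | zero =>
      intro T hT u hu uu
      obtain ⟨S, h1, h2⟩ := T.exists_superset_card_eq (n := 6) (by omega) (by simpa using hn)
      exact hH S h2 u (Submodule.span_mono (Set.image_mono h1) hu) uu
    | succ k ih =>
      intro T hT u hu uu
      by_cases h6 : T.card ≤ 6
      · obtain ⟨S, h1, h2⟩ := T.exists_superset_card_eq (n := 6) h6 (by simpa using hn)
        exact hH S h2 u (Submodule.span_mono (Set.image_mono h1) hu) uu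
      obtain ⟨S, hS, cS⟩ := T.exists_subset_card_eq (n := 6) (by omega)
      obtain ⟨i, j, l, hi, hj, hl, ij, il, jl⟩ := Finset.two_lt_card_iff.1 (by omega : 2 < S.card)
      have gr : ∀ a c : S, B (d c) (d a) = if a = c then 1 else 0 := fun a c => by
        rw [hd]; exact if_congr (Subtype.coe_inj.trans eq_comm) rfl rfl
      have eN : Submodule.span E (Set.range fun a : S => d a) = Submodule.span E (d '' S) := by
        rw [Set.image_eq_range]; rfl
      have hN := nondeg h gr fun a => Submodule.subset_span ⟨a, rfl⟩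
      have c6 := finrank_span_eq_card (lind gr)
      rw [eN] at hN c6
      rw [Fintype.card_coe, cS] at c6
      set N := Submodule.span E (d '' S)
      have hN' := h.toHerm.restrict hN
      have hle : sIsom (restr B N) ≤ res H N := by
        rw [← hN'.transvGroup_eq_sIsom (by omega), transvGroup, closure_le]
        intro t ht
        obtain ⟨x, hx, c, hc, rfl⟩ := IsTransv.eq_transv hN' ht
        have hc' : σ c = c := by linear_combination hc - c * h.two
        have hx' : B x x = 0 := hx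
        obtain ⟨a, ha⟩ := h.exists_nm hc'
        refine ⟨tT B x c, ?_, fun y => ?_, fun y hy => ?_⟩
        · rw [← ha, ← mul_one (σ a * a), ← h.tT_smul hx' a (map_one σ)]
          exact hH S cS _ (N.smul_mem _ x.2) (by simp [hx'])
        · rw [h.lin_tT hx' hc', Herm.transv_apply]; rfl
        · rw [h.lin_tT hx' hc', mem_orth.1 hy _ x.2]; simp
      rw [← Finset.union_sdiff_of_subset hS, Finset.coe_union, Set.image_union,
        Submodule.span_union] at hu
      obtain ⟨x, hx, y, hy, rfl⟩ := Submodule.mem_sup.1 hu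
      have cT : (T.erase l).card = k := by rw [Finset.card_erase_of_mem (hS hl)]; omega
      have y1 : y ∈ Submodule.span E (d '' (T.erase l)) :=
        Submodule.span_mono (Set.image_mono fun a ha => by
          simp only [Finset.coe_sdiff, Set.mem_sdiff, Finset.mem_coe, Finset.coe_erase,
            Set.mem_singleton_iff] at ha ⊢
          exact ⟨ha.1, fun e => ha.2 (e ▸ hl)⟩) hy
      have y2 : y ∈ orth B N := by
        refine Submodule.span_le.2 ?_ hy
        rintro _ ⟨a, ha, rfl⟩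
        refine mem_orth_span.2 ?_
        rintro _ ⟨c, hc, rfl⟩
        rw [hd, if_neg]
        rintro rfl
        simp only [Finset.coe_sdiff, Set.mem_sdiff] at ha
        exact ha.2 hc
      by_cases x0 : x = 0
      · rw [x0, zero_add] at uu ⊢
        exact ih _ cT y y1 uu
      obtain ⟨a, ha⟩ := h.exists_nm (c := B x x + 1) (by rw [map_add, map_one, h.toHerm.conj])
      obtain ⟨g, hg, h1, h2⟩ := wittN h hN (by omega) hle (ι := Unit) (by simp) (x := fun _ => x)
        (y := fun _ => d i + a • d j) (fun _ => hx)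
        (fun _ => add_mem (Submodule.subset_span ⟨i, hi, rfl⟩)
          (N.smul_mem _ (Submodule.subset_span ⟨j, hj, rfl⟩)))
        (linearIndependent_unique_iff.2 x0) (linearIndependent_unique_iff.2 fun e => by
          simpa [hd, ij] using congrArg (B (d i)) e) fun _ _ => by
          simp [hd, ij, ij.symm]
          linear_combination ha + h.two
      have := ih _ cT (lin g (x + y)) (by
        rw [map_add, h1 (), h2 y y2]
        exact add_mem (add_mem (Submodule.subset_span ⟨i, by simp [il, hS hi], rfl⟩)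
          (Submodule.smul_mem _ _ (Submodule.subset_span ⟨j, by simp [jl, hS hj], rfl⟩))) y1)
        (by rw [lin_isom, uu])
      rw [← h.tT_conj g uu (map_one σ)] at this
      simpa [mul_assoc] using mul_mem (mul_mem (inv_mem hg) this) hg
  exact h.gen_T fun u hu => key _ Finset.univ rfl u (by simp) hu

end Cfsg.Lib.UM6
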