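import Cfsg.Agent.UM6.K2

/-!
# Standard subgroups of type `U_m(2ⁿ)`: coordinates on `V_W`
-/

set_option autoImplicit false
set_option linter.unusedSectionVars false

namespace Cfsg.Lib.UM6

open Subgroup Module Cfsg.Lib.Trans Cfsg.Lib.Gold Cfsg.Lib.Class.Form Cfsg.Lib.Class.FAut
open scoped commutatorElement

variable {E M : Type*} [Field E] [Finite E] [AddCommGroup M] [Module E M] [FiniteDimensional E M]
  {σ : E →+* E} {B : M →ₛₗ[σ] M →ₗ[E] E}

theorem I2.smul_r {u w : M} (k : I2 B u w) (l : E) : I2 B u (l • w) := by simpa using k.smul 1 l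

theorem Mo.lin_v2 (h : Mo B) {u w : M} (k : I2 B u w) {c d : E} (l : E) (hc : σ c = c)
    (hd : σ d = d) (x : M) : lin (tT B u c * tT B w d * tE B u (l • w)) x =
      x + (c * B u x + σ l * B w x) • u + (d * B w x + l * B u x) • w := by
  simp only [lin_mul, h.lin_tT k.uu hc, h.lin_tT k.ww hd, h.lin_tE (k.smul_r l), map_add,
    map_smulₛₗ, LinearMap.smul_apply, smul_eq_mul, RingHom.id_apply, k.uu, k.ww, k.uw, h.swap k.uw]
  module

theorem Mo.VW_comm (h : Mo B) {W : Submodule E M} (hW : TotIso B W) {v v' : sIsom B}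
    (hv : v ∈ VW B W) (hv' : v' ∈ VW B W) : v * v' = v' * v :=
  mem_Cs.1 (h.Fx_le_Cs (h.VW_le_QW hW hv').1) v hv

theorem Mo.v2_mul (h : Mo B) {u w : M} (k : I2 B u w) {c d c' d' : E} (l l' : E) (hc : σ c = c)
    (hd : σ d = d) (hc' : σ c' = c') (hd' : σ d' = d') :
    tT B u c * tT B w d * tE B u (l • w) * (tT B u c' * tT B w d' * tE B u (l' • w)) =
      tT B u (c + c') * tT B w (d + d') * tE B u ((l + l') • w) := lin_ext fun x => by
  rw [lin_mul, h.lin_v2 k _ hc hd, h.lin_v2 k _ hc' hd',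
    h.lin_v2 k _ (by rw [map_add, hc, hc']) (by rw [map_add, hd, hd'])]
  simp only [map_add, map_smul, smul_eq_mul, k.uu, k.ww, k.uw, h.swap k.uw]
  module

theorem Mo.mem_V2 (h : Mo B) {u w : M} (k : I2 B u w) {v : sIsom B} :
    v ∈ VW B (Submodule.span E {u, w}) ↔
      ∃ c d l : E, σ c = c ∧ σ d = d ∧ v = tT B u c * tT B w d * tE B u (l • w) := by
  have hu : u ∈ Submodule.span E {u, w} := Submodule.subset_span (by simp)
  have hw : w ∈ Submodule.span E {u, w} := Submodule.subset_span (by simp)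
  have key : ∀ v, (∃ c d l : E, σ c = c ∧ σ d = d ∧ v = tT B u c * tT B w d * tE B u (l • w)) →
      v ∈ VW B (Submodule.span E {u, w}) := by
    rintro _ ⟨c, d, l, hc, hd, rfl⟩
    exact mul_mem (mul_mem (h.tT_mem k.uu hu hc) (h.tT_mem k.ww hw hd))
      (h.tE_mem (k.smul_r l) hu (Submodule.smul_mem _ _ hw))
  refine ⟨fun hv => ?_, key v⟩
  let H : Subgroup (sIsom B) :=
    { carrier := {v | ∃ c d l : E, σ c = c ∧ σ d = d ∧ v = tT B u c * tT B w d * tE B u (l • w)}
      one_mem' := ⟨0, 0, 0, map_zero σ, map_zero σ, by simp [h.tT_zero, h.tE_zero]⟩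
      mul_mem' := by
        rintro _ _ ⟨c, d, l, hc, hd, rfl⟩ ⟨c', d', l', hc', hd', rfl⟩
        exact ⟨_, _, _, by rw [map_add, hc, hc'], by rw [map_add, hd, hd'],
          h.v2_mul k l l' hc hd hc' hd'⟩
      inv_mem' := fun {v} hv => by
        rwa [inv_eq_of_mul_eq_one_right (h.sq_VW (k.ti h) (key v hv))] }
  refine h.gen_VW (k.ti h) (H := H) (fun x hx => ?_) hv
  obtain ⟨a, b, rfl⟩ := Submodule.mem_span_pair.1 hx
  have h1 : ∀ a, σ (σ a * a) = σ a * a := fun a => by rw [map_mul, h.ss, mul_comm]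
  refine ⟨_, _, σ a * b, h1 a, h1 b, lin_ext fun y => ?_⟩
  rw [h.lin_v2 k _ (h1 a) (h1 b), h.lin_tT ((k.smul a b).add h) (map_one σ)]
  simp only [map_add, map_smulₛₗ, LinearMap.add_apply, LinearMap.smul_apply, smul_eq_mul, map_mul,
    h.ss]
  module

theorem Mo.v2_inj (h : Mo B) {u w : M} (k : I2 B u w) (li : LinearIndependent E ![u, w])
    {c d l c' d' l' : E} (hc : σ c = c) (hd : σ d = d) (hc' : σ c' = c') (hd' : σ d' = d')
    (e : tT B u c * tT B w d * tE B u (l • w) = tT B u c' * tT B w d' * tE B u (l' • w)) :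
    c = c' ∧ d = d' ∧ l = l' := by
  have key : ∀ p q : E, (c - c') * p + (σ l - σ l') * q = 0 ∧ (d - d') * q + (l - l') * p = 0 :=
    fun p q => by
      obtain ⟨x, hx⟩ := h.exists_forall_eq' li ![p, q]
      have h1 := h.lin_v2 k l hc hd x
      rw [e, h.lin_v2 k l' hc' hd', show B u x = p from hx 0, show B w x = q from hx 1] at h1
      exact LinearIndependent.pair_iff.1 li _ _ (by linear_combination (norm := module) -h1)
  have h1 := key 1 0
  have h2 := key 0 1
  exact ⟨by linear_combination h1.1, by linear_combination h2.2, by linear_combination h1.2⟩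

theorem K3.v2_conj (h : Mo B) {u w : M} (k : I2 B u w) {c d : E} (l : E) (hc : σ c = c)
    (hd : σ d = d) (g : sIsom B) (x : M) :
    lin (g * (tT B u c * tT B w d * tE B u (l • w)) * g⁻¹) x =
      x + (c * B (lin g u) x + σ l * B (lin g w) x) • lin g u +
        (d * B (lin g w) x + l * B (lin g u) x) • lin g w := by
  simp only [lin_mul g, lin_mul _ g⁻¹, h.lin_v2 k l hc hd, map_add, map_smul, lin_lin_inv, lin_left]

theorem Mo.v2_diag (h : Mo B) {u w : M} (k : I2 B u w) {c d : E} (l : E) (hc : σ c = c)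
    (hd : σ d = d) {g : sIsom B} {a b : E} (e1 : lin g u = a • u) (e2 : lin g w = b • w) :
    g * (tT B u c * tT B w d * tE B u (l • w)) * g⁻¹ =
      tT B u (σ a * a * c) * tT B w (σ b * b * d) * tE B u ((σ a * b * l) • w) := by
  refine lin_ext fun x => ?_
  rw [K3.v2_conj h k l hc hd, h.lin_v2 k _ (by rw [map_mul, map_mul, h.ss, hc, mul_comm a])
    (by rw [map_mul, map_mul, h.ss, hd, mul_comm b]), e1, e2]
  simp only [map_smulₛₗ, LinearMap.smul_apply, smul_eq_mul, map_mul, h.ss]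
  module

theorem Mo.v2_el (h : Mo B) {u w : M} (k : I2 B u w) {c d : E} (l : E) (hc : σ c = c)
    (hd : σ d = d) {g : sIsom B} {m : E} (e1 : lin g u = u) (e2 : lin g w = w + m • u) :
    g * (tT B u c * tT B w d * tE B u (l • w)) * g⁻¹ =
      tT B u (c + σ m * m * d + (l * m + σ (l * m))) * tT B w d *
        tE B u ((l + σ m * d) • w) := by
  refine lin_ext fun x => ?_
  rw [K3.v2_conj h k l hc hd, h.lin_v2 k _ (by
    simp only [map_add, map_mul, h.ss, hc, hd]
    ring) hd, e1, e2]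
  simp only [map_add, map_smulₛₗ, LinearMap.add_apply, LinearMap.smul_apply, smul_eq_mul, map_mul,
    h.ss, hd]
  module

theorem Mo.v2_swap (h : Mo B) {u w : M} (k : I2 B u w) {c d : E} (l : E) (hc : σ c = c)
    (hd : σ d = d) {g : sIsom B} (e1 : lin g u = w) (e2 : lin g w = u) :
    g * (tT B u c * tT B w d * tE B u (l • w)) * g⁻¹ = tT B u d * tT B w c * tE B u (σ l • w) := by
  refine lin_ext fun x => ?_
  rw [K3.v2_conj h k l hc hd, h.lin_v2 k _ hd hc, e1, e2, h.ss]
  module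

theorem K3.fe (h : Mo B) {e f : Fin 3 → M} (k : Fr3 B e f) (i j : Fin 3) :
    B (f i) (e j) = if i = j then 1 else 0 := by
  rw [← h.toHerm.conj, k.ef]
  by_cases e : i = j
  · simp [e]
  · simp [e, Ne.symm e]

theorem K3.ti (h : Mo B) {e f : Fin 3 → M} (k : Fr3 B e f) :
    TotIso B (Submodule.span E (Set.range e)) :=
  K1.ti_span h (by rintro _ ⟨i, rfl⟩ _ ⟨j, rfl⟩; exact k.ee i j)

theorem Mo.exists_co (h : Mo B) {e f : Fin 3 → M} (k : Fr3 B e f) :
    ∃ co : sIsom B → Fin 3 → Fin 3 → E, (∀ v i j, co v i j = B (f i) (lin v (f j))) ∧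
      (∀ v ∈ VW B (Submodule.span E (Set.range e)), ∀ x, lin v x = x + ∑ i, ∑ j, (co v i j * B (e j) x) • e i) ∧
      (∀ v ∈ VW B (Submodule.span E (Set.range e)), ∀ i j, σ (co v i j) = co v j i) ∧
      (∀ v ∈ VW B (Submodule.span E (Set.range e)), ∀ v' ∈ VW B (Submodule.span E (Set.range e)),
        co (v * v') = co v + co v') ∧
      ∀ v ∈ VW B (Submodule.span E (Set.range e)), co v = 0 → v = 1 := by
  have hW := K3.ti h k
  have h1 : ∀ w ∈ Submodule.span E (Set.range e), w = ∑ i, B (f i) w • e i := fun w hw => by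
    obtain ⟨a, rfl⟩ := (Submodule.mem_span_range_iff_exists_fun E).1 hw
    simp [K3.fe h k]
  have h2 : ∀ v ∈ VW B (Submodule.span E (Set.range e)), ∀ x,
      lin v x = x + ∑ i, ∑ j, (B (f i) (lin v (f j)) * B (e j) x) • e i := fun v hv x => by
    have h3 := h.VW_fix hv (x := x - ∑ j, B (e j) x • f j) (mem_orth_span.2 (by
      rintro _ ⟨i, rfl⟩
      simp [k.ef]))
    have h4 : ∀ j, lin v (f j) = f j + ∑ i, B (f i) (lin v (f j)) • e i := fun j => by
      have := h1 _ (mem_VW.1 hv (f j))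
      simp only [map_sub, k.ff, sub_zero] at this
      rw [← this, add_sub_cancel]
    rw [map_sub, map_sum, sub_eq_iff_eq_add] at h3
    rw [h3, Finset.sum_congr rfl fun j _ => (map_smul ..).trans (congrArg _ (h4 j))]
    simp only [Fin.sum_univ_three]
    module
  refine ⟨fun v i j => B (f i) (lin v (f j)), fun _ _ _ => rfl, h2, fun v hv i j => ?_,
    fun v hv v' hv' => funext₂ fun i j => ?_, fun v hv e0 => lin_ext fun x => ?_⟩
  · have := K2.sym h hW hv (f j) (f i)
    simp only [map_sub, LinearMap.sub_apply, k.ff, sub_zero] at this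
    exact (h.toHerm.conj ..).trans this
  · have := congrArg (B (f i)) ((h.VW_le_QW hW hv).1 _ (mem_VW.1 hv' (f j)))
    simp only [map_sub, k.ff, sub_zero] at this
    simp only [lin_mul, Pi.add_apply]
    linear_combination this
  · have : ∀ i j, B (f i) (lin v (f j)) = 0 := fun i j => congrFun (congrFun e0 i) j
    simp [h2 v hv x, this]

theorem K3.lin_x (h : Mo B) {u w x : M} (k : I3 B u w x) {d : E} (l m : E) (hd : σ d = d) (y : M) :
    lin (tT B x d * tE B u (l • x) * tE B w (m • x)) y =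
      y + (d * B x y + l * B u y + m * B w y) • x + (σ l * B x y) • u + (σ m * B x y) • w := by
  simp only [lin_mul, h.lin_tT k.xx hd, h.lin_tE (I2.smul_r ⟨k.uu, k.xx, k.ux⟩ l),
    h.lin_tE (I2.smul_r ⟨k.ww, k.xx, k.wx⟩ m), map_add, map_smulₛₗ, LinearMap.smul_apply,
    smul_eq_mul, RingHom.id_apply, k.xx, k.uw, k.ux, h.swap k.ux, h.swap k.wx]
  module

theorem Mo.v3_dec (h : Mo B) {u w x : M} (k : I3 B u w x) {v : sIsom B}
    (hv : v ∈ VW B (Submodule.span E {u, w, x})) : ∃ a ∈ VW B (Submodule.span E {u, w}),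
      ∃ d l m : E, σ d = d ∧ v = a * tT B x d * tE B u (l • x) * tE B w (m • x) := by
  have hu : u ∈ Submodule.span E {u, w, x} := Submodule.subset_span (by simp)
  have hw : w ∈ Submodule.span E {u, w, x} := Submodule.subset_span (by simp)
  have hx : x ∈ Submodule.span E {u, w, x} := Submodule.subset_span (by simp)
  have hle : VW B (Submodule.span E {u, w}) ≤ VW B (Submodule.span E {u, w, x}) :=
    VW_mono (Submodule.span_mono (by simp [Set.insert_subset_iff]))
  have hX : ∀ d l m : E, σ d = d → tT B x d * tE B u (l • x) * tE B w (m • x) ∈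
      VW B (Submodule.span E {u, w, x}) := fun d l m hd =>
    mul_mem (mul_mem (h.tT_mem k.xx hx hd) (h.tE_mem (I2.smul_r ⟨k.uu, k.xx, k.ux⟩ l) hu
      (Submodule.smul_mem _ _ hx))) (h.tE_mem (I2.smul_r ⟨k.ww, k.xx, k.wx⟩ m) hw
      (Submodule.smul_mem _ _ hx))
  let H : Subgroup (sIsom B) :=
    { carrier := {v | ∃ a ∈ VW B (Submodule.span E {u, w}), ∃ d l m : E, σ d = d ∧
        v = a * (tT B x d * tE B u (l • x) * tE B w (m • x))}
      one_mem' := ⟨1, one_mem _, 0, 0, 0, map_zero σ, by simp [h.tT_zero, h.tE_zero]⟩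
      mul_mem' := by
        rintro _ _ ⟨a, ha, d, l, m, hd, rfl⟩ ⟨a', ha', d', l', m', hd', rfl⟩
        have hd2 : σ (d + d') = d + d' := by rw [map_add, hd, hd']
        refine ⟨_, mul_mem ha ha', d + d', l + l', m + m', hd2, ?_⟩
        rw [mul_assoc a, ← mul_assoc _ a', h.VW_comm (k.ti h) (hX d l m hd) (hle ha'), mul_assoc a',
          ← mul_assoc a]
        refine congrArg _ (lin_ext fun y => ?_)
        rw [lin_mul, K3.lin_x h k _ _ hd, K3.lin_x h k _ _ hd', K3.lin_x h k _ _ hd2]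
        simp only [map_add, map_smul, smul_eq_mul, k.uu, k.ww, k.xx, k.uw, k.ux, k.wx, h.swap k.uw,
          h.swap k.ux, h.swap k.wx]
        module
      inv_mem' := by
        rintro _ ⟨a, ha, d, l, m, hd, rfl⟩
        rw [Set.mem_ofPred_eq, inv_eq_of_mul_eq_one_right
          (h.sq_VW (k.ti h) (mul_mem (hle ha) (hX d l m hd)))]
        exact ⟨a, ha, d, l, m, hd, rfl⟩ }
  obtain ⟨a, ha, d, l, m, hd, e⟩ : v ∈ H := by
    refine h.gen_VW (k.ti h) (H := H) (fun y hy => ?_) hv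
    obtain ⟨a, b, c, rfl⟩ := Submodule.mem_span_triple.1 hy
    have h1 : σ (σ c * c) = σ c * c := by rw [map_mul, h.ss, mul_comm]
    have h2 := (k.toI2.smul a b).add h
    refine ⟨_, h.tT_mem h2 (Submodule.mem_span_pair.2 ⟨a, b, rfl⟩) (map_one σ), _, σ a * c,
      σ b * c, h1, lin_ext fun y => ?_⟩
    rw [lin_mul, K3.lin_x h k _ _ h1, h.lin_tT h2 (map_one σ),
      h.lin_tT (k.ti h _ hy _ hy) (map_one σ)]
    simp only [map_add, map_smulₛₗ, LinearMap.add_apply, LinearMap.smul_apply, smul_eq_mul, map_mul,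
      h.ss, RingHom.id_apply, k.uu, k.ww, k.uw, k.ux, k.wx, h.swap k.uw]
    module
  exact ⟨a, ha, d, l, m, hd, by rw [e, ← mul_assoc, ← mul_assoc]⟩

theorem Mo.v3_inj (h : Mo B) {u w x : M} (k : I3 B u w x) (li : LinearIndependent E ![u, w, x])
    {c d e l m n : E} (hc : σ c = c) (hd : σ d = d) (he : σ e = e)
    (k1 : tT B u c * tT B w d * tT B x e * tE B u (l • w) * tE B u (m • x) * tE B w (n • x) = 1) :
    c = 0 ∧ d = 0 ∧ e = 0 ∧ l = 0 ∧ m = 0 ∧ n = 0 := by
  have key : ∀ p q r : E, ∀ i, ![c * p + σ l * q + σ m * r, d * q + l * p + σ n * r,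
      e * r + m * p + n * q] i = 0 := fun p q r => by
    obtain ⟨y, hy⟩ := h.exists_forall_eq' li ![p, q, r]
    have h1 := congrArg (lin · y) k1
    simp only [lin_mul, lin_one, h.lin_tT k.uu hc, h.lin_tT k.ww hd, h.lin_tT k.xx he,
      h.lin_tE (k.toI2.smul_r l), h.lin_tE (I2.smul_r ⟨k.uu, k.xx, k.ux⟩ m),
      h.lin_tE (I2.smul_r ⟨k.ww, k.xx, k.wx⟩ n), map_add, map_smulₛₗ, LinearMap.smul_apply,
      smul_eq_mul, RingHom.id_apply, k.uu, k.ww, k.xx, k.uw, k.ux, k.wx, h.swap k.uw, h.swap k.ux,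
      h.swap k.wx, show B u y = p from hy 0, show B w y = q from hy 1,
      show B x y = r from hy 2] at h1
    refine Fintype.linearIndependent_iff.1 li _ ?_
    simp only [Fin.sum_univ_three, Matrix.cons_val]
    linear_combination (norm := module) h1
  have h1 := key 1 0 0
  have h2 := key 0 1 0
  exact ⟨by simpa using h1 0, by simpa using h2 1, by simpa using key 0 0 1 2, by simpa using h1 1,
    by simpa using h1 2, by simpa using h2 2⟩

theorem Mo.sl32 (h : Mo B) {e f : Fin 3 → M} (k : Fr3 B e f) {v : sIsom B}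
    (hv : v ∈ VW B (Submodule.span E (Set.range e)))
    (hc : ∀ i j, i ≠ j → Commute v (tE B (e i) (f j))) : v = 1 := by
  obtain ⟨co, h1, -, -, -, h2⟩ := h.exists_co k
  refine h2 v hv (funext₂ fun j l => ?_)
  obtain ⟨i, hj, hl⟩ : ∃ i, i ≠ j ∧ i ≠ l := by revert j l; decide
  have k' : I2 B (e i) (f j) := ⟨k.ee _ _, k.ff _ _, by rw [k.ef, if_neg hj]⟩
  have hi : e i ∈ Submodule.span E (Set.range e) := Submodule.subset_span ⟨i, rfl⟩
  have e1 := congrArg (fun g => B (f i) (lin g (f l))) (hc i j hj).eq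
  have e2 := K3.ti h k _ hi _ (mem_VW.1 hv (f l))
  rw [map_sub, sub_eq_zero] at e2
  simp only [lin_mul, h.lin_tE k', map_add, map_smul, e2, k.ef, if_neg hl, k.ff, zero_smul,
    add_zero, K3.fe h k, if_true, smul_eq_mul, mul_one, left_eq_add] at e1
  exact (h1 ..).trans e1

end Cfsg.Lib.UM6
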