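import Cfsg.Agent.UM6.K2
import Cfsg.Agent.UM6.K4

/-!
# Standard subgroups of type `U_m(2ⁿ)`: automorphisms of the model
-/

set_option autoImplicit false
set_option linter.unusedSectionVars false

namespace Cfsg.Lib.UM6

open Subgroup Module Cfsg.Lib.Trans Cfsg.Lib.Gold Cfsg.Lib.Class.Form Cfsg.Lib.Class.FAut
open Cfsg.Lib.Comp (Tw)
open scoped commutatorElement

variable {E M : Type*} [Field E] [Finite E] [AddCommGroup M] [Module E M] [FiniteDimensional E M]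
  {σ : E →+* E} {B : M →ₛₗ[σ] M →ₗ[E] E}

theorem Mo.of_semi (h : Mo B) (Γ : M ≃+ M) (τ : E ≃+* E) (h1 : ∀ a x, Γ (a • x) = τ a • Γ x)
    (h2 : ∀ x y, B (Γ x) (Γ y) = τ (B x y)) : ∃ α : MulAut (sIsom B), Semi α Γ τ := by
  have h3 : ∀ a x, Γ.symm (a • x) = τ.symm a • Γ.symm x := fun a x => Γ.injective (by simp [h1])
  let L : sIsom B → M →ₗ[E] M := fun g =>
    { toFun := fun x => Γ (lin g (Γ.symm x))
      map_add' := fun x y => by simp
      map_smul' := fun a x => by simp [h1, h3] }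
  have hL : ∀ g x y, B (L g x) (L g y) = B x y := fun g x y => by
    change B (Γ _) (Γ _) = _
    rw [h2, lin_isom, ← h2, Γ.apply_symm_apply, Γ.apply_symm_apply]
  let φ : sIsom B →* isomGroup B := MonoidHom.mk' (fun g => h.ofLin (L g) (hL g))
    fun g g' => isom_ext fun x => by
      change Γ (lin (g * g') (Γ.symm x)) = Γ (lin g (Γ.symm (Γ (lin g' (Γ.symm x)))))
      rw [Γ.symm_apply_apply, lin_mul]
  have hφ : ∀ g, φ g ∈ sIsom B := fun g =>
    Abelianization.commutator_subset_ker ((LinearEquiv.det.comp (isomGroup B).subtype).comp φ)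
      (h.perf ▸ mem_top g)
  have hψ : ∀ g x, lin (φ.codRestrict _ hφ g) (Γ x) = Γ (lin g x) := fun g x => by
    change Γ (lin g (Γ.symm (Γ x))) = _
    rw [Γ.symm_apply_apply]
  exact ⟨MulEquiv.ofBijective (φ.codRestrict _ hφ) (Finite.injective_iff_bijective.1
    fun g g' e => lin_ext fun x => Γ.injective (by rw [← hψ, e, hψ])), h1, h2, hψ⟩

theorem Semi.mul {α β : MulAut (sIsom B)} {Γ Δ : M ≃+ M} {τ ρ : E ≃+* E} (k : Semi α Γ τ)
    (k' : Semi β Δ ρ) : Semi (α * β) (Δ.trans Γ) (τ * ρ) where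
  smul a x := (congrArg Γ (k'.smul a x)).trans (k.smul _ _)
  form x y := (k.form _ _).trans (congrArg τ (k'.form x y))
  conj g x := (k.conj _ _).trans (congrArg Γ (k'.conj g x))

theorem Semi.inv {α : MulAut (sIsom B)} {Γ : M ≃+ M} {τ : E ≃+* E} (k : Semi α Γ τ) :
    Semi α⁻¹ Γ.symm τ⁻¹ where
  smul a x := Γ.injective (by
    rw [k.smul, Γ.apply_symm_apply, Γ.apply_symm_apply]
    exact congrArg (· • x) (τ.apply_symm_apply a).symm)
  form x y := τ.injective (by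
    rw [← k.form, Γ.apply_symm_apply, Γ.apply_symm_apply]
    exact (τ.apply_symm_apply _).symm)
  conj g x := Γ.injective (by
    rw [← k.conj, Γ.apply_symm_apply, Γ.apply_symm_apply]
    exact congrArg (lin · x) (α.apply_symm_apply g))

theorem semi_conj (l : sIsom B) : Semi (MulAut.conj l) (lin l).toAddEquiv 1 where
  smul a x := (lin l).map_smul a x
  form x y := lin_isom l x y
  conj g x := by
    change lin (l * g * l⁻¹) (lin l x) = lin l (lin g x)
    rw [lin_mul, lin_mul, lin_inv_lin]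

theorem Semi.scale {α : MulAut (sIsom B)} {Γ : M ≃+ M} {τ : E ≃+* E} (k : Semi α Γ τ) {a : E}
    (ha : σ a * a = 1) : ∃ Δ, Semi α Δ τ ∧ ∀ x, Δ x = a • Γ x := by
  have a0 : a ≠ 0 := right_ne_zero_of_mul_eq_one ha
  have e : ∀ x, (Γ.trans (LinearEquiv.smulOfNeZero E M a a0).toAddEquiv) x = a • Γ x := fun _ => rfl
  refine ⟨_, ⟨fun b x => ?_, fun x y => ?_, fun g x => ?_⟩, e⟩
  · rw [e, e, k.smul, smul_comm]
  · simp only [e, map_smulₛₗ, LinearMap.smul_apply, smul_eq_mul, RingHom.id_apply, k.form]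
    linear_combination τ (B x y) * ha
  · rw [e, e, map_smul, k.conj]

theorem Semi.scalar (h : Mo B) {Γ : M ≃+ M} {τ : E ≃+* E} (k : Semi (B := B) 1 Γ τ) :
    τ = 1 ∧ ∃ a : E, σ a * a = 1 ∧ ∀ x, Γ x = a • x := by
  have hc : ∀ (g : sIsom B) x, lin g (Γ x) = Γ (lin g x) := k.conj
  obtain ⟨u, u0, hu⟩ := h.exists_iso
  obtain ⟨f, hf, huf⟩ := h.cls.exists_hyperbolic u0 hu
  obtain ⟨a, ha⟩ : ∃ a : E, Γ u = a • u := by
    have := hc (tT B u 1) f
    rw [h.lin_tT hu (map_one σ), h.lin_tT hu (map_one σ), huf, map_add, add_right_inj, mul_one,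
      one_smul] at this
    exact ⟨_, this.symm⟩
  have h1 : ∀ w, B w w = 0 → Γ w = a • w := fun w hw => by
    by_cases w0 : w = 0
    · simp [w0]
    obtain ⟨g, rfl⟩ := h.tr1 hu u0 hw w0
    rw [← hc, ha, map_smul]
  have h2 : σ a * a = 1 := by
    have := k.form u f
    rw [ha, h1 f hf, huf, map_one] at this
    simpa [huf, mul_comm] using this
  have h3 : τ = 1 := RingEquiv.ext fun c => by
    have := k.smul c u
    rw [h1 _ (by simp [hu]), ha, smul_smul, smul_smul] at this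
    exact (mul_right_cancel₀ (right_ne_zero_of_mul_eq_one h2)
      ((mul_comm c a).trans (smul_left_injective E u0 this))).symm
  subst h3
  let W : Submodule E M :=
    { carrier := {x | Γ x = a • x}
      zero_mem' := by simp
      add_mem' := fun {x y} hx hy => by rw [Set.mem_ofPred_eq, map_add, hx, hy, smul_add]
      smul_mem' := fun c x hx => by rw [Set.mem_ofPred_eq, k.smul, hx, smul_comm]; rfl }
  exact ⟨rfl, a, h2, fun x =>
    (h.cls.eq_top_of_iso (U := W) (le_trans (by norm_num) h.six) h1 ▸ Submodule.mem_top : x ∈ W)⟩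

theorem Semi.ext {α β : MulAut (sIsom B)} {Γ : M ≃+ M} {τ ρ : E ≃+* E} (k : Semi α Γ τ)
    (k' : Semi β Γ ρ) : α = β := MulEquiv.ext fun g => lin_ext fun x => by
  rw [← Γ.apply_symm_apply x, k.conj, k'.conj]

theorem A1.semi_PG (h : Mo B) (a : MulAut (PG B)) : ∃ (α : MulAut (sIsom B)) (Γ : M ≃+ M)
    (τ : E ≃+* E), Semi α Γ τ ∧ ∀ g : sIsom B, a (g : PG B) = (α g : PG B) := by
  have h6 := h.six
  obtain ⟨u, u', hr⟩ := h.cls.exists_rel_of_ne (by omega) (Or.inl h.ne_id) a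
  obtain ⟨s, Γ, κ, κ0, hκ, hb, h1, h2, h3⟩ := h.cls.aut_semilinear (by omega) (by omega) hr
  obtain ⟨c, hc⟩ := h.exists_nm (c := κ⁻¹) (by rw [map_inv₀, hκ])
  have c0 : c ≠ 0 := right_ne_zero_of_mul (hc ▸ inv_ne_zero κ0)
  have e : ∀ x, ((AddEquiv.ofBijective Γ hb).trans
    (LinearEquiv.smulOfNeZero E M c c0).toAddEquiv) x = c • Γ x := fun _ => rfl
  obtain ⟨α, k⟩ := h.of_semi _ s (fun b x => by rw [e, e, h1, smul_comm]) fun x y => by
    simp only [e, map_smulₛₗ, LinearMap.smul_apply, smul_eq_mul, RingHom.id_apply, h2]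
    rw [← mul_assoc, ← mul_assoc, mul_comm c, hc, inv_mul_cancel₀ κ0, one_mul]
  refine ⟨α, _, s, k, fun g => h3 g _ fun x => smul_right_injective M c0 ?_⟩
  have := k.conj g x
  rwa [e, e, map_smul] at this

theorem Mo.semi_PG (h : Mo B) (a : MulAut (PG B)) :
    ∃ α : MulAut (sIsom B), ∀ g : sIsom B, a (g : PG B) = (α g : PG B) :=
  let ⟨α, _, _, _, e⟩ := A1.semi_PG h a
  ⟨α, e⟩

theorem A1.ext_center {G H : Type*} [Group G] [Group H] (hp : commutator G = ⊤) {f f' : G →* H}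
    (k : ∀ g, (f g)⁻¹ * f' g ∈ center H) : f = f' := by
  refine MonoidHom.ext fun g => (?_ : g ∈ f.eqLocus f')
  refine commutator_le.2 (fun a _ b _ => ?_) (show g ∈ ⁅(⊤ : Subgroup G), ⊤⁆ from hp.ge (mem_top g))
  change f _ = f' _
  rw [map_commutatorElement, map_commutatorElement, ← mul_inv_cancel_left (f a) (f' a),
    ← mul_inv_cancel_left (f b) (f' b)]
  have c1 : ∀ x w z : H, z ∈ center H → ⁅x * z, w⁆ = ⁅x, w⁆ := fun x w z hz => by
    rw [commutatorElement_def, commutatorElement_def, mul_assoc x z, ← mem_center_iff.1 hz w]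
    group
  rw [c1 _ _ _ (k a), ← commutatorElement_inv _ (f a), ← commutatorElement_inv _ (f a),
    c1 _ _ _ (k b)]

theorem Mo.semi (h : Mo B) (α : MulAut (sIsom B)) : ∃ Γ, Semi α Γ (fa α) := by
  obtain ⟨α', Γ, τ, k, e⟩ := A1.semi_PG h (QuotientGroup.congr _ _ α
    (characteristic_iff_map_eq.1 inferInstance α))
  have e1 : α.toMonoidHom = α'.toMonoidHom := A1.ext_center h.perf fun g => QuotientGroup.eq.1 (e g)
  have e2 : ∃ τ, ∃ Γ, Semi α Γ τ := ⟨τ, Γ, MulEquiv.toMonoidHom_injective e1 ▸ k⟩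
  rw [fa, dif_pos e2]
  exact e2.choose_spec

theorem Semi.fa_eq (h : Mo B) {α : MulAut (sIsom B)} {Γ : M ≃+ M} {τ : E ≃+* E} (k : Semi α Γ τ) :
    fa α = τ := by
  obtain ⟨Δ, k'⟩ := h.semi α
  have := k'.mul k.inv
  rw [mul_inv_cancel] at this
  exact mul_inv_eq_one.1 (this.scalar h).1

theorem Mo.fa_mul (h : Mo B) (α β : MulAut (sIsom B)) : fa (α * β) = fa α * fa β :=
  let ⟨_, k⟩ := h.semi α
  let ⟨_, k'⟩ := h.semi β
  (k.mul k').fa_eq h

theorem Mo.fa_conj (h : Mo B) (l : sIsom B) : fa (MulAut.conj l) = 1 := (semi_conj l).fa_eq h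

theorem Mo.fa_one (h : Mo B) : fa (1 : MulAut (sIsom B)) = 1 := by
  rw [← map_one MulAut.conj, h.fa_conj]

theorem Mo.fa_inv (h : Mo B) (α : MulAut (sIsom B)) : fa α⁻¹ = (fa α)⁻¹ :=
  let ⟨_, k⟩ := h.semi α
  k.inv.fa_eq h

theorem Mo.fa_pow (h : Mo B) (α : MulAut (sIsom B)) (n : ℕ) : fa (α ^ n) = fa α ^ n :=
  map_pow (MonoidHom.mk' fa h.fa_mul) α n

theorem Semi.tT (h : Mo B) {α : MulAut (sIsom B)} {Γ : M ≃+ M} {τ : E ≃+* E} (k : Semi α Γ τ)
    {u : M} (hu : B u u = 0) {c : E} (hc : σ c = c) : α (tT B u c) = tT B (Γ u) (τ c) :=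
  (K1.tT_eq (Γ.surjective.forall.2 fun x => by
    rw [k.conj, h.lin_tT hu hc, map_add, k.smul, map_mul, k.form])).symm

theorem Semi.tE (h : Mo B) {α : MulAut (sIsom B)} {Γ : M ≃+ M} {τ : E ≃+* E} (k : Semi α Γ τ)
    {u w : M} (k' : I2 B u w) : α (tE B u w) = tE B (Γ u) (Γ w) :=
  (K1.tE_eq (Γ.surjective.forall.2 fun x => by
    rw [k.conj, h.isE k']
    simp [k.smul, k.form])).symm

theorem Semi.exists_sub' {α : MulAut (sIsom B)} {Γ : M ≃+ M} {τ : E ≃+* E} (k : Semi α Γ τ)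
    (W' : Submodule E M) : ∃ W : Submodule E M, ∀ x, x ∈ W ↔ Γ x ∈ W' :=
  ⟨{ carrier := {x | Γ x ∈ W'}
     zero_mem' := by simp
     add_mem' := fun {x y} hx hy => by rw [Set.mem_ofPred_eq, map_add]; exact add_mem hx hy
     smul_mem' := fun c x hx => by rw [Set.mem_ofPred_eq, k.smul]; exact W'.smul_mem _ hx },
    fun _ => Iff.rfl⟩

theorem Semi.exists_sub {α : MulAut (sIsom B)} {Γ : M ≃+ M} {τ : E ≃+* E} (k : Semi α Γ τ)
    (W : Submodule E M) : ∃ W' : Submodule E M, ∀ x, x ∈ W ↔ Γ x ∈ W' :=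
  let ⟨W', e⟩ := k.inv.exists_sub' W
  ⟨W', fun x => by rw [e, Γ.symm_apply_apply]⟩

theorem Semi.span {α : MulAut (sIsom B)} {Γ : M ≃+ M} {τ : E ≃+* E} (k : Semi α Γ τ) (s : Set M)
    (x : M) : x ∈ Submodule.span E s ↔ Γ x ∈ Submodule.span E (Γ '' s) := by
  obtain ⟨W, e⟩ := k.exists_sub' (Submodule.span E (Γ '' s))
  obtain ⟨W', e'⟩ := k.exists_sub (Submodule.span E s)
  exact ⟨fun hx => (e x).1 (Submodule.span_le.2 (fun y hy => (e y).2
    (Submodule.subset_span ⟨y, hy, rfl⟩)) hx), fun hx => (e' x).2 (Submodule.span_le.2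
    (Set.image_subset_iff.2 fun y hy => (e' y).1 (Submodule.subset_span hy)) hx)⟩

theorem A1.mp_eq {α : MulAut (sIsom B)} {H H' : Subgroup (sIsom B)} (e : ∀ g, g ∈ H ↔ α g ∈ H') :
    mp α H = H' := ext (α.surjective.forall.2 fun g =>
  (mem_map_iff_mem (f := α.toMonoidHom) α.injective).trans (e g))

theorem Semi.orth {α : MulAut (sIsom B)} {Γ : M ≃+ M} {τ : E ≃+* E} (k : Semi α Γ τ)
    {W W' : Submodule E M} (e : ∀ x, x ∈ W ↔ Γ x ∈ W') (x : M) :
    x ∈ orth B W ↔ Γ x ∈ orth B W' := by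
  simp only [mem_orth, Γ.surjective.forall (p := fun u => u ∈ W' → _), ← e, k.form,
    EmbeddingLike.map_eq_zero_iff]

theorem Semi.sub {α : MulAut (sIsom B)} {Γ : M ≃+ M} {τ : E ≃+* E} (k : Semi α Γ τ)
    {W W' : Submodule E M} (e : ∀ x, x ∈ W ↔ Γ x ∈ W') :
    finrank E W' = finrank E W ∧ (TotIso B W' ↔ TotIso B W) ∧ mp α (VW B W) = VW B W' ∧
      mp α (QW B W) = QW B W' ∧ mp α (Fx B W) = Fx B W' ∧ mp α (St B W) = St B W' := by
  refine ⟨?_, ?_, A1.mp_eq fun g => ?_, A1.mp_eq fun g => ?_, A1.mp_eq fun g => ?_,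
    A1.mp_eq fun g => ?_⟩
  · have h1 : Nat.card W = Nat.card W' := Nat.card_congr (Γ.toEquiv.subtypeEquiv e)
    rw [Module.natCard_eq_pow_finrank (K := E), Module.natCard_eq_pow_finrank (K := E) (V := W')]
      at h1
    exact (Nat.pow_right_injective Finite.one_lt_card h1).symm
  · simp only [TotIso, Γ.surjective.forall (p := fun u => u ∈ W' → _), ← e, k.form,
      EmbeddingLike.map_eq_zero_iff]
  · rw [mem_VW, mem_VW, Γ.surjective.forall (p := fun u => lin (α g) u - u ∈ W')]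
    simp only [k.conj, ← map_sub, ← e]
  · rw [mem_QW, mem_QW, Γ.surjective.forall (p := fun u => u ∈ W' → _),
      Γ.surjective.forall (p := fun u => u ∈ Class.Form.orth B W' → _)]
    simp only [k.conj, ← map_sub, ← e, ← k.orth e, EmbeddingLike.apply_eq_iff_eq]
  · rw [mem_Fx, mem_Fx, Γ.surjective.forall (p := fun u => u ∈ W' → _)]
    simp only [k.conj, ← e, EmbeddingLike.apply_eq_iff_eq]
  · rw [mem_St, mem_St, Γ.surjective.forall (p := fun u => u ∈ W' ↔ _)]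
    simp only [k.conj, ← e]

theorem A1.semi_cN (γ : isomGroup B) :
    Semi (MulAut.conjNormal γ) (γ : M ≃ₗ[E] M).toAddEquiv 1 where
  smul a x := (γ : M ≃ₗ[E] M).map_smul a x
  form x y := isom_apply γ x y
  conj g x := congrArg (fun y => (γ : M ≃ₗ[E] M) (lin g y)) ((γ : M ≃ₗ[E] M).symm_apply_apply x)

theorem Semi.exists_cN {α : MulAut (sIsom B)} {Γ : M ≃+ M} (k : Semi α Γ 1) :
    ∃ γ : isomGroup B, α = MulAut.conjNormal γ ∧ ∀ x, (γ : M ≃ₗ[E] M) x = Γ x :=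
  ⟨⟨{ Γ with map_smul' := k.smul }, k.form⟩, k.ext (A1.semi_cN ⟨_, _⟩), fun _ => rfl⟩

theorem Mo.exists_cN (h : Mo B) {α : MulAut (sIsom B)} (h1 : fa α = 1) :
    ∃ γ : isomGroup B, α = MulAut.conjNormal γ :=
  let ⟨_, k⟩ := h.semi α
  let ⟨γ, e, _⟩ := (h1 ▸ k).exists_cN
  ⟨γ, e⟩

theorem Mo.pow_two_pow (h : Mo B) {a : E} {k : ℕ} (e : a ^ 2 ^ k = 1) : a = 1 := by
  induction k with
  | zero => simpa using e
  | succ k ih => exact ih (h.sq_inj (by rw [← pow_two, ← pow_mul, ← pow_succ, e, mul_one]))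

theorem Mo.mem_of_tw (h : Mo B) {γ : isomGroup B} (e : Tw γ) : γ ∈ sIsom B := by
  obtain ⟨j, hj⟩ := e
  refine mem_sIsom'.2 (h.pow_two_pow (k := j) ?_)
  rw [← Units.val_pow_eq_pow_val, ← map_pow, ← Subgroup.coe_pow, hj]
  simp

theorem Mo.lin_two (h : Mo B) {α : MulAut (sIsom B)} (h1 : fa α = 1) (h2 : Tw α) :
    ∃ l, Tw l ∧ α = MulAut.conj l := by
  obtain ⟨γ, rfl⟩ := h.exists_cN h1
  obtain ⟨j, hj⟩ := h2
  have k := A1.semi_cN (γ ^ 2 ^ j)
  rw [map_pow, hj] at k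
  obtain ⟨-, a, ha, e⟩ := k.scalar h
  obtain ⟨n, hn, an⟩ := h.odd_pow (right_ne_zero_of_mul_eq_one ha)
  have h3 : ∀ (m : ℕ) x, (((γ ^ 2 ^ j) ^ m : isomGroup B) : M ≃ₗ[E] M) x = a ^ m • x := fun m => by
    induction m with
    | zero => simp
    | succ m ih =>
      intro x
      rw [pow_succ, isom_mul_apply, ih, pow_succ, mul_smul]
      exact congrArg _ (e x)
  have h4 : (γ ^ n) ^ 2 ^ j = 1 := isom_ext fun x => by
    rw [← pow_mul, mul_comm, pow_mul, h3, an, one_smul]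
    rfl
  obtain ⟨m, hm⟩ := exists_pow_eq_self_of_coprime (n := n) (x := MulAut.conjNormal (H := sIsom B) γ)
    (((Nat.coprime_two_right.2 hn).pow_right j).coprime_dvd_right (orderOf_dvd_of_pow_eq_one hj))
  have h5 : ((γ ^ n) ^ m) ^ 2 ^ j = 1 := by rw [← pow_mul, mul_comm, pow_mul, h4, one_pow]
  refine ⟨⟨_, h.mem_of_tw ⟨j, h5⟩⟩, ⟨j, Subtype.ext h5⟩, ?_⟩
  rw [← MulAut.conjNormal_val, ← hm, map_pow, map_pow]

theorem Mo.perf_aut (h : Mo B) {Y : Subgroup (MulAut (sIsom B))} (hY : ⁅Y, Y⁆ = Y)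
    {α : MulAut (sIsom B)} (hα : α ∈ Y) : ∃ l, α = MulAut.conj l := by
  have h1 : Y ≤ (MonoidHom.mk' fa h.fa_mul).ker := hY.ge.trans (commutator_le.2 fun a _ b _ => by
    rw [MonoidHom.mem_ker, map_commutatorElement, commutatorElement_eq_one_iff_mul_comm, aut_comm])
  have h2 : Y ≤ (MulAut.conj : sIsom B →* _).range := hY.ge.trans (commutator_le.2
    fun a ha b hb => by
      obtain ⟨γ, rfl⟩ := h.exists_cN (h1 ha)
      obtain ⟨δ, rfl⟩ := h.exists_cN (h1 hb)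
      refine ⟨⟨⁅γ, δ⁆, MonoidHom.mem_ker.2 ?_⟩, ?_⟩
      · rw [map_commutatorElement, commutatorElement_eq_one_iff_mul_comm, mul_comm]
      · rw [← MulAut.conjNormal_val, map_commutatorElement])
  obtain ⟨l, e⟩ := h2 hα
  exact ⟨l, e.symm⟩

theorem Mo.conj_inj (h : Mo B) {a b : sIsom B} (ha : Tw a) (hb : Tw b)
    (e : MulAut.conj a = MulAut.conj b) : a = b := by
  have hz : b⁻¹ * a ∈ center (sIsom B) := mem_center_iff.2 fun g => by
    have : a * g * a⁻¹ = b * g * b⁻¹ := MulEquiv.congr_fun e g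
    calc _ = b⁻¹ * (b * g * b⁻¹) * a := by group
      _ = _ := by rw [← this]; group
  obtain ⟨i, hi⟩ := ha
  obtain ⟨j, hj⟩ := hb
  have h1 : (b * (b⁻¹ * a)) ^ 2 ^ (i + j) = _ :=
    Commute.mul_pow (mem_center_iff.1 hz b) _
  rw [mul_inv_cancel_left, pow_add, pow_mul, hi, one_pow, mul_comm (2 ^ i), pow_mul b, hj, one_pow,
    one_mul, ← pow_add] at h1
  have h2 := ((Nat.coprime_two_right.2 (h.odd_center hz)).pow_right (j + i)).eq_one_of_dvd
    (orderOf_dvd_of_pow_eq_one h1.symm)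
  exact (inv_mul_eq_one.1 (orderOf_eq_one_iff.1 h2)).symm

end Cfsg.Lib.UM6
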