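import Cfsg.Agent.UM6.P1a
import Cfsg.Agent.UM6.AP1
import Cfsg.Agent.UM6.K4

/-!
# Standard subgroups of type `U_m(2ⁿ)`: the end of phase 1
-/

set_option autoImplicit false
set_option linter.unusedSectionVars false
set_option linter.unusedVariables false

namespace Cfsg.Lib.UM6

open Subgroup Module Cfsg.Lib.Trans Cfsg.Lib.Gold Cfsg.Lib.Class.Form Cfsg.Lib.Class.FAut
open Cfsg.Lib.SG2 (Uq Top Pp)
open Cfsg.Lib.Comp (Tw)
open scoped commutatorElement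

variable {G E M : Type*} [Group G] [Finite G] [Field E] [Finite E] [AddCommGroup M] [Module E M]
  [FiniteDimensional E M] {σ : E →+* E} {B : M →ₛₗ[σ] M →ₗ[E] E} {φ φ' : sIsom B →* G} {t : G}

namespace P1b

theorem nsQ (h : Mod φ) {u : M} (hu : B u u = 0) (u0 : u ≠ 0) :
    Ns ((Fx B (E ∙ u)).map φ) ≤ Ns ((QW B (E ∙ u)).map φ) := fun g hg => by
  have h1 : cj g ((QW B (E ∙ u)).map φ) ≤ (Fx B (E ∙ u)).map φ :=
    (cj_mono g (map_mono QW_le_Fx)).trans (mem_Ns_iff.1 hg).le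
  have h2 : (Fx B (E ∙ u)).map φ ≤ Ns (cj g ((QW B (E ∙ u)).map φ)) := by
    rw [← cj_Ns, ← mem_Ns_iff.1 hg]
    refine cj_mono g ?_
    rintro _ ⟨p, hp, rfl⟩
    exact le_normalizer_map φ ⟨p, (St_le_Ns (Fx_le_St hp)).1.2, rfl⟩
  have h3 := isPGroup_cj ((h.toMo.two_QW (ti1 hu)).map φ) g
  have h4 := h.toMo.O2_Fx hu u0 (N := Fx B (E ∙ u) ⊓ (cj g ((QW B (E ∙ u)).map φ)).comap φ)
    (fun a => by
      obtain ⟨n, hn⟩ := Tw.of_mem h3 a.2.2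
      refine ⟨n, Subtype.ext ?_⟩
      have : a.1 ^ 2 ^ n ∈ Fx B (E ∙ u) ⊓ center (sIsom B) :=
        ⟨pow_mem a.2.1 _, h.ker (by rw [MonoidHom.mem_ker, map_pow, hn])⟩
      rwa [h.toMo.Fx_center u0, mem_bot] at this) inf_le_left
    fun p hp => Comp.mem_Ns_of fun a ha => ⟨(Fx B _).mul_mem (mul_mem hp ha.1) (inv_mem hp), by
      have := mem_normalizer_conj (h2 ⟨p, hp, rfl⟩) ha.2
      rwa [← map_inv, ← map_mul, ← map_mul] at this⟩
  refine mem_normalizer_of_cj_le fun x hx => ?_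
  obtain ⟨a, ha, rfl⟩ := h1 hx
  exact ⟨a, h4 ⟨ha, hx⟩, rfl⟩

variable (h : Hyp φ t) {u : M} (u0 : u ≠ 0) (hu : B u u = 0)
include h u0 hu

theorem tw_T : Tw (tT B u 1) := .of_sq (h.toMo.tT_sq hu (map_one σ))

theorem tw_z : Tw (φ (tT B u 1)) :=
  .of_sq (by rw [← map_mul, h.toMo.tT_sq hu (map_one σ), map_one])

theorem z_ne : φ (tT B u 1) ≠ 1 := fun e =>
  h.toMo.tT_ne hu u0 (map_one σ) one_ne_zero (h.toMod.inj2 (tw_T h u0 hu) e)

theorem T_mem : tT B u 1 ∈ QW B (E ∙ u) :=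
  h.toMo.VW_le_QW (ti1 hu) (h.toMo.tT_mem hu (Submodule.mem_span_singleton_self u) (map_one σ))

theorem fixz {k : G} (e : k * t * k⁻¹ = t * φ (tT B u 1)) :
    ∃ g, Commute g (φ (tT B u 1)) ∧ g * t * g⁻¹ = t * φ (tT B u 1) := by
  have h' := h.cx k
  have hz : (Fx B (E ∙ u)).map φ ≤ C1 (φ (tT B u 1)) := by
    rintro _ ⟨p, hp, rfl⟩
    rw [mem_C1, ← map_mul, ← map_mul, mem_Cs.1 (h.toMo.Fx_le_Cs hp) _
      (h.toMo.tT_mem hu (Submodule.mem_span_singleton_self u) (map_one σ))]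
  have hP : (Fx B (E ∙ u)).map φ ≤ (cx φ k).range :=
    h'.perf (by rw [← map_commutator, h.toMo.perf_Fx hu u0]) fun p hp => by
      rw [e]
      exact mem_C1.2 (Commute.mul_right (mem_C1.1 (h.L_le (map_le_range _ _ hp)))
        (mem_C1.1 (hz hp)))
  obtain ⟨U, hU, UF⟩ := h.toMo.exists_syl hu u0
  obtain ⟨v, hv, ev⟩ := h'.toMod.lift2 (hP ⟨_, QW_le_Fx (T_mem h u0 hu), rfl⟩) (tw_z h u0 hu)
  obtain ⟨T, hT, eT⟩ := h'.toMod.liftS (hU.isPGroup.map φ) ((map_mono UF).trans hP)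
  obtain ⟨u', c, u0', hu', hc, c0, rfl⟩ := h.toMo.central hU hv
    (fun e => z_ne h u0 hu (by rw [← ev, e, map_one])) hT
    (fun a ha => mem_C1.2 (h'.toMod.comm2 (.of_mem hT ha)
      (ev ▸ mem_C1.1 (hz (map_mono UF (eT.le ⟨a, ha, rfl⟩))))))
    (by rw [← h'.toMod.card_map hT, eT, h.toMod.card_map hU.isPGroup])
  obtain ⟨l, el⟩ := h.toMo.tT_conj' hu u0 hu' u0' (map_one σ) one_ne_zero hc c0
  refine ⟨k * φ l, Comp.comm_of_conj_eq ?_, ?_⟩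
  · conv_rhs => rw [← ev, ← el, cx_apply, map_mul, map_mul, map_inv]
    group
  · calc _ = k * (φ l * t * (φ l)⁻¹) * k⁻¹ := by group
      _ = _ := by rw [Comp.conj_eq_of_comm (h.tc l).symm, e]

theorem nosq {g : G} (hg : g ∈ Ns ((Fx B (E ∙ u)).map φ)) (e : g * t * g⁻¹ = t * φ (tT B u 1))
    {v : G} (hv : v ∈ Cs φ.range) : v * v ≠ t := fun v2 => by
  have h' := h.cx g
  have hQ : (QW B (E ∙ u)).map (cx φ g) = (QW B (E ∙ u)).map φ := by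
    rw [map_cx, mem_Ns_iff.1 (nsQ h.toMod hu u0 hg)]
  obtain ⟨p, hp, hc⟩ := h'.toMod.cQ (ti1 hu) (by simpa using u0) (c := v) (h'.cn (by
    rw [e]
    exact mem_C1.2 (Commute.mul_right (v2 ▸ (Commute.refl v).mul_right (.refl v))
      (mem_Cs.1 hv _ ⟨_, rfl⟩).symm))) (hQ ▸ Cs_anti (map_le_range _ _) hv)
  obtain ⟨c, rfl⟩ : ∃ c, v = cx φ g p * c := ⟨(cx φ g p)⁻¹ * v, by group⟩
  rw [inv_mul_cancel_left] at hc
  have pc : Commute (cx φ g p) c := mem_Cs.1 hc _ ⟨p, rfl⟩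
  rw [pc.symm.mul_mul_mul_comm, ← map_mul, h.toMo.sq_VW (ti1 hu) hp, map_one, one_mul] at v2
  have h1 := mul_mem (inv_mem (v2 ▸ mul_mem hc hc)) h'.tC
  rw [e, inv_mul_cancel_left] at h1
  exact z_ne h u0 hu (h'.toMod.one_of (map_le_range _ _ (hQ.ge ⟨_, T_mem h u0 hu, rfl⟩)) h1
    (tw_z h u0 hu))

end P1b

open P1b

theorem Hyp.h1 (h : Hyp φ t) {u : M} (u0 : u ≠ 0) (hu : B u u = 0) {k : G}
    (e : k * t * k⁻¹ = t * φ (tT B u 1)) : H1 φ t := by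
  obtain ⟨g, cg, e⟩ := fixz h u0 hu e
  have hg := h.stepB hu u0 (map_one σ) one_ne_zero cg e
  have ht : t ∈ C1 t ⊓ Cs φ.range := ⟨mem_C1.2 rfl, h.tC⟩
  have key : ∀ k : ℕ, ∀ u ∈ C1 t ⊓ Cs φ.range, u ^ 2 ^ k = 1 → u ∈ zpowers t := fun k => by
    induction k with
    | zero => exact fun u _ hu => by rw [← pow_one u]; exact (show u ^ 1 = 1 from hu) ▸ one_mem _
    | succ k ih =>
      intro a ha e1
      rcases Tl.mem_zpowers_of_sq h.t2 (ih _ (mul_mem ha ha)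
        (by rw [← pow_two, ← pow_mul, ← pow_succ', e1])) with e2 | e2
      · rcases h.inv_eq ha.2 e2 (mem_C1.1 ha.1) with rfl | rfl
        exacts [one_mem _, mem_zpowers _]
      · exact absurd e2 (nosq h u0 hu hg e ha.2)
  refine ⟨h, fun c hc => ?_, fun w w0 hw => ?_⟩
  · have := SG2.cent_syl (D := zpowers t) (zpowers_le.2 ⟨ht, mem_Cs.2 fun u hu => mem_C1.1 hu.1⟩)
      (fun u hu ⟨k, hk⟩ => key k u hu hk) (Comp.Tw.of_sq h.t2).isPGroup hc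
    rw [sup_comm] at this
    rw [← mem_C1.1 hc.1]
    exact Comp.mem_sup_zpowers h.t2 (le_Ns_Oc_self ht) this
  · obtain ⟨l, rfl⟩ := h.toMo.tr1 hu u0 hw w0
    have e1 : φ (tT B (lin l u) 1) = φ l * φ (tT B u 1) * (φ l)⁻¹ := by
      rw [← h.toMo.tT_conj l hu (map_one σ), map_mul, map_mul, map_inv]
    have c1 : Commute (φ l * g * (φ l)⁻¹) (φ (tT B (lin l u) 1)) := by
      rw [e1]
      exact cg.map (MulAut.conj (φ l))
    have e2 : φ l * g * (φ l)⁻¹ * t * (φ l * g * (φ l)⁻¹)⁻¹ = t * φ (tT B (lin l u) 1) := by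
      calc _ = φ l * (g * ((φ l)⁻¹ * t * (φ l)⁻¹⁻¹) * g⁻¹) * (φ l)⁻¹ := by group
        _ = _ := by
          rw [Comp.conj_eq_of_comm (h.tc l).symm.inv_left, e, ← conj_mul',
            Comp.conj_eq_of_comm (h.tc l).symm, e1]
    exact ⟨_, h.stepB hw w0 (map_one σ) one_ne_zero c1 e2, c1, e2⟩

end Cfsg.Lib.UM6
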