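import Cfsg.Agent.UM6.A1
import Cfsg.Agent.UM6.K3

/-!
# Standard subgroups of type `U_m(2ⁿ)`: outer involutions, lower bound
-/

set_option autoImplicit false
set_option linter.unusedSectionVars false

namespace Cfsg.Lib.UM6

open Subgroup Module Cfsg.Lib.Trans Cfsg.Lib.Gold Cfsg.Lib.Class.Form Cfsg.Lib.Class.FAut
open Cfsg.Lib.Comp (Tw)
open scoped commutatorElement

variable {E M : Type*} [Field E] [Finite E] [AddCommGroup M] [Module E M] [FiniteDimensional E M]
  {σ : E →+* E} {B : M →ₛₗ[σ] M →ₗ[E] E}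

namespace OUT

theorem fe (h : Mo B) {n : ℕ} {e f : Fin n → M}
    (hef : ∀ i j, B (e i) (f j) = if i = j then 1 else 0) (i j : Fin n) :
    B (f i) (e j) = if i = j then 1 else 0 := by
  rw [← h.toHerm.conj, hef]
  by_cases c : i = j
  · simp [c]
  · simp [c, Ne.symm c]

theorem ti (h : Mo B) {n : ℕ} {e : Fin n → M} (he : ∀ i j, B (e i) (e j) = 0) :
    TotIso B (Submodule.span E (Set.range e)) :=
  K1.ti_span h (by rintro _ ⟨i, rfl⟩ _ ⟨j, rfl⟩; exact he i j)

/-- The matrix of an element of `V_W`. -/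
theorem form (h : Mo B) {n : ℕ} {e f : Fin n → M} (hf : ∀ i j, B (f i) (f j) = 0)
    (hef : ∀ i j, B (e i) (f j) = if i = j then 1 else 0) {v : sIsom B}
    (hv : v ∈ VW B (Submodule.span E (Set.range e))) (x : M) :
    lin v x = x + ∑ i, ∑ j, (B (f i) (lin v (f j)) * B (e j) x) • e i := by
  have h1 : ∀ w ∈ Submodule.span E (Set.range e), w = ∑ i, B (f i) w • e i := fun w hw => by
    obtain ⟨a, rfl⟩ := (Submodule.mem_span_range_iff_exists_fun E).1 hw
    simp [fe h hef]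
  have h3 := h.VW_fix hv (x := x - ∑ j, B (e j) x • f j) (mem_orth_span.2 (by
    rintro _ ⟨i, rfl⟩
    simp [hef]))
  have h4 : ∀ j, lin v (f j) = f j + ∑ i, B (f i) (lin v (f j)) • e i := fun j => by
    have := h1 _ (mem_VW.1 hv (f j))
    simp only [map_sub, hf, sub_zero] at this
    rw [← this, add_sub_cancel]
  rw [map_sub, map_sum, sub_eq_iff_eq_add] at h3
  rw [h3, Finset.sum_congr rfl fun j _ => (map_smul ..).trans (congrArg _ (h4 j)), Finset.sum_comm]
  simp only [smul_add, Finset.sum_add_distrib, Finset.smul_sum, smul_smul, mul_comm]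
  abel

/-- The element of `V_W` with a given Hermitian matrix. -/
theorem exists_mat (h : Mo B) {n : ℕ} {e : Fin n → M} (he : ∀ i j, B (e i) (e j) = 0)
    {A : Fin n → Fin n → E} (hA : ∀ i j, σ (A j i) = A i j) :
    ∃ v ∈ VW B (Submodule.span E (Set.range e)),
      ∀ x, lin v x = x + ∑ i, ∑ j, (A i j * B (e j) x) • e i := by
  let N : M →ₗ[E] M := ∑ i, ∑ j, (A i j • B (e j)).smulRight (e i)
  have hN : ∀ x, N x = ∑ i, ∑ j, (A i j * B (e j) x) • e i := fun x => by simp [N]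
  have hNs : ∀ x y, B (N x) y = B x (N y) := fun x y => by
    simp only [hN, map_sum, map_smulₛₗ, LinearMap.sum_apply, LinearMap.smul_apply, smul_eq_mul,
      map_mul, hA, h.toHerm.conj, RingHom.id_apply]
    rw [Finset.sum_comm]
    exact Finset.sum_congr rfl fun i _ => Finset.sum_congr rfl fun j _ => by ring
  have hNN : ∀ x, N (N x) = 0 := fun x => by simp [hN, he]
  have hi : ∀ x y, B ((1 + N) x) ((1 + N) y) = B x y := fun x y => by
    simp only [LinearMap.add_apply, Module.End.one_apply, map_add, hNs, hNN, map_zero]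
    linear_combination B x (N y) * h.two
  have hg : ∀ x, (h.ofLin _ hi : M ≃ₗ[E] M) x = x + N x := fun _ => rfl
  have hd : h.ofLin _ hi ∈ sIsom B := h.mem_of_tw (Tw.of_sq (isom_ext fun x => by
    rw [isom_mul_apply, hg, hg, map_add, hNN]
    change _ = x
    linear_combination (norm := module) h.vadd_self (N x)))
  refine ⟨⟨_, hd⟩, mem_VW.2 fun x => ?_, fun x => hN x ▸ hg x⟩
  rw [lin_mk, hg, add_sub_cancel_left, hN]
  exact sum_mem fun i _ => sum_mem fun j _ =>
    Submodule.smul_mem _ _ (Submodule.subset_span ⟨i, rfl⟩)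

theorem inv (h : Mo B) {g : sIsom B} (e : g * g = 1) : ∃ W, Mx B W ∧ g ∈ VW B W := by
  obtain ⟨W, hW, hle⟩ := h.le_Mx (W := LinearMap.range ((lin g : M →ₗ[E] M) - LinearMap.id)) (by
    rintro _ ⟨x, rfl⟩ _ ⟨y, rfl⟩
    have := lin_left g x y
    rw [inv_eq_of_mul_eq_one_right e] at this
    simp only [LinearMap.sub_apply, LinearEquiv.coe_coe, LinearMap.id_apply, map_sub, lin_isom, this]
    linear_combination (B x y - B x (lin g y)) * h.two)
  exact ⟨W, hW, fun x => hle ⟨x, rfl⟩⟩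

theorem fam (h : Mo B) {α : MulAut (sIsom B)} {Γ : M ≃+ M} (k : Semi α Γ (sg σ))
    (h2 : ∀ x, Γ (Γ x) = x) (j : ℕ) (hj : j ≤ kk E M) : ∃ e : Fin j → M, LinearIndependent E e ∧
      (∀ i l, B (e i) (e l) = 0) ∧ ∀ i, Γ (e i) = e i := by
  induction j with
  | zero => exact ⟨Fin.elim0, linearIndependent_empty_type, fun i => i.elim0, fun i => i.elim0⟩
  | succ j ih =>
  obtain ⟨e, li, he, hΓ⟩ := ih (by omega)
  have hs : ∀ a x, Γ (a • x) = σ a • Γ x := fun a x => by rw [k.smul, h.sg_apply]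
  have hB : ∀ x y, Γ x = x → Γ y = y → σ (B x y) = B x y := fun x y hx hy => by
    rw [← h.sg_apply, ← k.form, hx, hy]
  have h1 := h.finrank_orth (Submodule.span E (Set.range e))
  have h3 : finrank E (Submodule.span E (Set.range e)) = j :=
    (finrank_span_eq_card li).trans (Fintype.card_fin j)
  have key : ∀ Y : Submodule E M, finrank E Y ≤ j + 1 → ∃ y, Γ y = y ∧ (∀ i, B (e i) y = 0) ∧
      y ∉ Y := fun Y hY => by
    by_contra! c
    have h4 : orth B (Submodule.span E (Set.range e)) ≤ Y := fun y hy => by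
      have h5 : ∀ s : E, s • y + σ s • Γ y ∈ Y := fun s => c _
        (by rw [map_add, hs, hs, h.ss, h2, add_comm]) fun i => by
          have := hy _ (Submodule.subset_span ⟨i, rfl⟩)
          rw [map_add, map_smul, map_smul, this, ← hΓ i, k.form, this]
          simp
      obtain ⟨s, hs⟩ := K2.exists_nf h
      rw [← Y.smul_mem_iff hs, show (σ s - s) • y = σ s • ((1 : E) • y + σ 1 • Γ y) -
        (s • y + σ s • Γ y) by rw [map_one]; module]
      exact sub_mem (Y.smul_mem _ (h5 1)) (h5 s)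
    have := Submodule.finrank_mono h4
    unfold kk at hj
    omega
  obtain ⟨y, y1, y2, y3⟩ := key (Submodule.span E (Set.range e)) (by omega)
  obtain ⟨z, z1, z2, z3⟩ := key (Submodule.span E (Set.range e) ⊔ E ∙ y) (by
    have := Submodule.finrank_add_le_finrank_add_finrank (Submodule.span E (Set.range e)) (E ∙ y)
    have := finrank_span_singleton (K := E) (v := y) fun c => y3 (c ▸ zero_mem _)
    omega)
  obtain ⟨x, x1, x2, x3, x4⟩ : ∃ x, Γ x = x ∧ (∀ i, B (e i) x = 0) ∧ B x x = 0 ∧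
      x ∉ Submodule.span E (Set.range e) := by
    by_cases c : B y y = 0
    · exact ⟨y, y1, y2, c, y3⟩
    obtain ⟨a, ha⟩ := h.exists_sq (B z z / B y y)
    have ha' : σ a = a := h.sq_inj (by rw [← map_mul, ha, map_div₀, hB _ _ y1 y1, hB _ _ z1 z1])
    refine ⟨z + a • y, by rw [map_add, hs, ha', y1, z1], fun i => by simp [y2, z2], ?_,
      fun c => z3 ?_⟩
    · have := (h.toHerm.conj y z).symm.trans (hB _ _ y1 z1)
      simp only [map_add, map_smulₛₗ, LinearMap.add_apply, LinearMap.smul_apply, smul_eq_mul,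
        RingHom.id_apply, ha', this]
      rw [eq_div_iff c] at ha
      linear_combination ha + (B z z + a * B y z) * h.two
    · rw [← add_sub_cancel_right z (a • y)]
      exact sub_mem (Submodule.mem_sup_left c) (Submodule.mem_sup_right
        (Submodule.smul_mem _ _ (Submodule.mem_span_singleton_self y)))
  refine ⟨Fin.cons x e, li.finCons x4, fun i l => ?_, fun i => ?_⟩
  · cases i using Fin.cases <;> cases l using Fin.cases <;> simp [x2, x3, he, h.swap (x2 _)]
  · cases i using Fin.cases <;> simp [x1, hΓ]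

theorem sq (h : Mo B) {α : MulAut (sIsom B)} {Γ : M ≃+ M} (k : Semi α Γ (sg σ)) (h1 : α * α = 1)
    (x : M) : Γ (Γ x) = x := by
  obtain ⟨-, a, ha, e⟩ := (h1 ▸ k.mul k).scalar h
  replace e : ∀ x, Γ (Γ x) = a • x := e
  obtain ⟨u, u0, -⟩ := h.exists_iso
  have h2 := e (Γ u)
  rw [e u, k.smul, h.sg_apply] at h2
  rw [smul_left_injective E (EmbeddingLike.map_ne_zero_iff.2 u0) h2] at ha
  rw [e, h.sq_inj (ha.trans (mul_one 1).symm), one_smul]

end OUT

theorem Mo.card_fix (h : Mo B) {α : MulAut (sIsom B)} {Γ : M ≃+ M} (k : Semi α Γ (sg σ)) {n : ℕ}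
    {e : Fin n → M} (li : LinearIndependent E e) (he : ∀ i j, B (e i) (e j) = 0)
    (hΓ : ∀ i, Γ (e i) = e i) :
    Nat.card ↥(VW B (Submodule.span E (Set.range e)) ⊓ Cf α) = qn σ ^ (n * (n + 1) / 2) := by
  obtain ⟨f, hf, hef⟩ := h.dual' li he
  have h1 : ∀ (v : sIsom B) (A : Fin n → Fin n → E),
      (∀ x, lin v x = x + ∑ i, ∑ j, (A i j * B (e j) x) • e i) →
      (∀ i j, B (f i) (lin v (f j)) = A i j) ∧
        ∀ x, lin (α v) x = x + ∑ i, ∑ j, (σ (A i j) * B (e j) x) • e i := fun v A hA =>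
    ⟨fun i j => by simp [hA, hf, hef, OUT.fe h hef], Γ.surjective.forall.2 fun x => by
      have : ∀ j, B (e j) (Γ x) = σ (B (e j) x) := fun j => by rw [← h.sg_apply, ← k.form, hΓ]
      rw [k.conj, hA]
      simp only [map_add, map_sum, k.smul, map_mul, this, hΓ, h.sg_apply]⟩
  have h2 : ∀ v : ↥(VW B (Submodule.span E (Set.range e)) ⊓ Cf α), ∀ i j,
      σ (B (f i) (lin v.1 (f j))) = B (f i) (lin v.1 (f j)) := fun v i j => by
    have := (h1 _ _ (h1 _ _ (OUT.form h hf hef v.2.1)).2).1 i j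
    rw [mem_Cf.1 v.2.2] at this
    exact this.symm
  have h3 : ∀ v : ↥(VW B (Submodule.span E (Set.range e)) ⊓ Cf α), ∀ i j,
      B (f i) (lin v.1 (f j)) = B (f j) (lin v.1 (f i)) := fun v i j => by
    have := K2.sym h (OUT.ti h he) v.2.1 (f j) (f i)
    simp only [map_sub, LinearMap.sub_apply, hf, sub_zero] at this
    exact (h2 v i j).symm.trans ((h.toHerm.conj ..).trans this)
  let Φ : ↥(VW B (Submodule.span E (Set.range e)) ⊓ Cf α) →
      {A : Fin n → Fin n → {a : E // σ a = a} // ∀ i j, A i j = A j i} := fun v =>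
    ⟨fun i j => ⟨B (f i) (lin v.1 (f j)), h2 v i j⟩, fun i j => Subtype.ext (h3 v i j)⟩
  refine (Nat.card_congr ((Equiv.ofBijective Φ
    ⟨fun v v' c => Subtype.ext (lin_ext fun x => ?_), fun ⟨A, hA⟩ => ?_⟩).trans Sym2.lift)).trans ?_
  · have : ∀ i j, B (f i) (lin v.1 (f j)) = B (f i) (lin v'.1 (f j)) := fun i j =>
      congrArg Subtype.val (congrFun (congrFun (congrArg Subtype.val c) i) j)
    rw [OUT.form h hf hef v.2.1, OUT.form h hf hef v'.2.1 x]
    simp only [this]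
  · obtain ⟨v, hv, c⟩ := OUT.exists_mat h he (A := fun i j => A i j) fun i j => by
      rw [hA j i, (A i j).2]
    refine ⟨⟨v, hv, lin_ext fun x => ?_⟩, Subtype.ext (funext₂ fun i j =>
      Subtype.ext ((h1 _ _ c).1 i j))⟩
    rw [(h1 _ _ c).2, c]
    simp only [(A _ _).2]
  · rw [Nat.card_fun, Nat.card_eq_fintype_card (α := Sym2 _), Sym2.card, Fintype.card_fin,
      Nat.choose_two_right, Nat.add_sub_cancel, mul_comm]
    rfl

theorem Mo.out (h : Mo B) {α : MulAut (sIsom B)} (h1 : α * α = 1) (h2 : fa α = sg σ) :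
    ∃ W, Mx B W ∧ mp α (VW B W) = VW B W ∧
      Nat.card ↥(VW B W ⊓ Cf α) = qn σ ^ (kk E M * (kk E M + 1) / 2) := by
  obtain ⟨Γ, k⟩ := h.semi α
  rw [h2] at k
  obtain ⟨e, li, he, hΓ⟩ := OUT.fam h k (OUT.sq h k h1) _ le_rfl
  refine ⟨_, ⟨OUT.ti h he, (finrank_span_eq_card li).trans (Fintype.card_fin _)⟩,
    (k.sub fun x => ?_).2.2.1, h.card_fix k li he hΓ⟩
  rw [k.span, ← Set.range_comp, show Γ ∘ e = e from funext hΓ]

theorem Mo.inv_elem (h : Mo B) {α : MulAut (sIsom B)} (h1 : α * α = 1) :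
    ∃ A : Subgroup (sIsom B), (∀ a ∈ A, a * a = 1) ∧ A ≤ Cf α ∧
      qn σ ^ (kk E M * (kk E M + 1) / 2) ≤ Nat.card A := by
  rcases h.aut_inv (τ := fa α) (by rw [← h.fa_mul, h1, h.fa_one]) with h2 | h2
  · obtain ⟨l, ⟨j, hj⟩, rfl⟩ := h.lin_two h2 (Tw.of_sq h1)
    obtain ⟨W, hW, hl⟩ := OUT.inv h (h.conj_inj (a := l * l)
      ⟨j, by rw [← pow_two, ← pow_mul, mul_comm, pow_mul, hj, one_pow]⟩ ⟨0, one_pow _⟩
      (by rw [map_mul, h1, map_one]))
    refine ⟨_, fun a => h.sq_VW hW.ti, fun a ha => mul_inv_eq_iff_eq_mul.2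
      (h.VW_comm hW.ti hl ha), ?_⟩
    rw [h.card_VW hW.ti, hW.dim]
    have := h.three_le
    exact Nat.pow_le_pow_right (by have := h.two_le; omega) (Nat.div_le_of_le_mul (by nlinarith))
  · obtain ⟨W, hW, -, c⟩ := h.out h1 h2
    exact ⟨VW B W ⊓ Cf α, fun a ha => h.sq_VW hW.ti ha.1, inf_le_right, c.ge⟩

end Cfsg.Lib.UM6
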