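import Cfsg.Agent.UM6.A2A
import Cfsg.Agent.UM6.AP1

/-!
# Standard subgroups of type `U_m(2ⁿ)`: the stabiliser of an isotropic vector is perfect
-/

set_option autoImplicit false
set_option linter.unusedSectionVars false

namespace Cfsg.Lib.UM6

open Subgroup Module Cfsg.Lib.Trans Cfsg.Lib.Gold Cfsg.Lib.Class.Form Cfsg.Lib.Class.FAut
open scoped commutatorElement

variable {E M : Type*} [Field E] [Finite E] [AddCommGroup M] [Module E M] [FiniteDimensional E M]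
  {σ : E →+* E} {B : M →ₛₗ[σ] M →ₗ[E] E}

theorem A2.mul_mem_RR (h : Mo B) {u w : M} (hu : B u u = 0) (hw : B u w = 0) {b b' : E}
    {g g' : sIsom B} (hg : IsE B 1 u w b g) (hg' : IsE B 1 u w b' g') : g * g' ∈ RR B u := by
  have := hg.mul hu (h.swap hw) hw hg'
  rw [h.vadd_self, isE_zero_iff] at this
  refine mem_VW.2 fun x => ?_
  rw [this x, add_sub_cancel_left]
  exact Submodule.smul_mem _ _ (Submodule.mem_span_singleton_self u)

theorem Mo.perf_Fx (h : Mo B) {u : M} (hu : B u u = 0) (u0 : u ≠ 0) :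
    ⁅Fx B (E ∙ u), Fx B (E ∙ u)⁆ = Fx B (E ∙ u) := by
  obtain ⟨f, hf, huf⟩ := h.cls.exists_hyperbolic u0 hu
  obtain ⟨π, ι, h1, h2, -, h3⟩ := levi h.toHerm hu hf huf
  have h4 := h.cls.finrank_hypU hu huf
  have h6 := h.six
  have hU := h.toHerm.restrict (h.cls.nondegOn_hypU hu hf huf)
  have hι : ∀ g, (ι g : sIsom B) ∈ ⁅Fx B (E ∙ u), Fx B (E ∙ u)⁆ := fun g => by
    have e := hU.commutator_sIsom (by omega) (by omega)
    have : ⁅(⊤ : Subgroup _), ⊤⁆ ≤ comap ((Fx B (E ∙ u)).subtype.comp ι) ⁅Fx B (E ∙ u), Fx B (E ∙ u)⁆ :=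
      commutator_le.2 fun a _ b _ => by
        rw [mem_comap, map_commutatorElement]
        exact commutator_mem_commutator (ι a).2 (ι b).2
    exact this (e.ge (mem_top g))
  have hR : RR B u ≤ ⁅Fx B (E ∙ u), Fx B (E ∙ u)⁆ := fun g hg => by
    obtain ⟨c, hc, rfl⟩ := (h.mem_RR hu).1 hg
    obtain ⟨a, ha, b, hb, -, -, e⟩ := h.comm_root hu u0 hc
    exact e ▸ commutator_mem_commutator ha.1 hb.1
  let A : AddSubgroup (hypU B u f) :=
    { carrier := {w | ∃ b g, IsE B 1 u w b g ∧ g ∈ ⁅Fx B (E ∙ u), Fx B (E ∙ u)⁆}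
      zero_mem' := ⟨0, 1, fun x => by simp, one_mem _⟩
      add_mem' := fun {w w'} ⟨_, _, e, hg⟩ ⟨_, _, e', hg'⟩ =>
        ⟨_, _, e.mul hu (h.swap (mem_hypU.1 w.2).1) (mem_hypU.1 w'.2).1 e', mul_mem hg hg'⟩
      neg_mem' := fun {w} ⟨b, g, e, hg⟩ => ⟨b, g, by
        rwa [Submodule.coe_neg, neg_eq_of_add_eq_zero_left (h.vadd_self w.1)], hg⟩ }
  have hA := hom_inv hU (by omega) (QuotientAddGroup.mk' A) fun g x => by
    have hx := (mem_hypU.1 x.2).1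
    obtain ⟨b, hb⟩ := h.cls.exists_trace x.1
    obtain ⟨k, hk⟩ := h.cls.exists_isE hu hx hb
    have e := hk.conj (ι g)
    rw [mem_Fx1.1 (ι g).2, (h3 g).2] at e
    refine QuotientAddGroup.eq.2 ⟨_, _, by
      rw [Submodule.coe_add, Submodule.coe_neg, neg_eq_of_add_eq_zero_left (h.vadd_self _)]
      exact e.mul hu (h.swap (mem_hypU.1 (lin g x).2).1) hx hk, ?_⟩
    rw [show (ι g : sIsom B) * k * (ι g : sIsom B)⁻¹ * k = ⁅(ι g : sIsom B), k⁆ * (k * k) by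
      rw [commutatorElement_def]; group]
    exact mul_mem (commutator_mem_commutator (ι g).2 (h.isE_mem_Q hu hx hk).1)
      (hR (A2.mul_mem_RR h hu hx hk hk))
  have hQ : QW B (E ∙ u) ≤ ⁅Fx B (E ∙ u), Fx B (E ∙ u)⁆ := fun q hq => by
    obtain ⟨w, hw, b, -, e⟩ := (mem_Q1 h.toHerm hu hf huf).1 hq
    obtain ⟨b', g, e', hg⟩ : (⟨w, hw⟩ : hypU B u f) ∈ A :=
      (QuotientAddGroup.eq_zero_iff _).1 (DFunLike.congr_fun hA ⟨w, hw⟩)
    exact (mul_mem_cancel_right hg).1 (hR (A2.mul_mem_RR h hu (mem_hypU.1 hw).1 e e'))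
  refine le_antisymm (commutator_le.2 fun a ha b hb => ?_) fun p hp => ?_
  · exact mul_mem (mul_mem (mul_mem ha hb) (inv_mem ha)) (inv_mem hb)
  · refine (mul_mem_cancel_right (inv_mem (hι (π ⟨p, hp⟩)))).1
      (hQ ((h2 (⟨p, hp⟩ * (ι (π ⟨p, hp⟩))⁻¹)).1 ?_))
    rw [map_mul, map_inv, h1, mul_inv_cancel]

end Cfsg.Lib.UM6
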