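import Cfsg.Agent.UM6.A1

/-!
# Standard subgroups of type `U_m(2ⁿ)`: centralisers in the automorphism group
-/

set_option autoImplicit false
set_option linter.unusedSectionVars false

namespace Cfsg.Lib.UM6

open Subgroup Module Cfsg.Lib.Trans Cfsg.Lib.Gold Cfsg.Lib.Class.Form Cfsg.Lib.Class.FAut
open Cfsg.Lib.Comp (Tw)
open scoped commutatorElement

variable {E M : Type*} [Field E] [Finite E] [AddCommGroup M] [Module E M] [FiniteDimensional E M]
  {σ : E →+* E} {B : M →ₛₗ[σ] M →ₗ[E] E}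

theorem A2.eigen (h : Mo B) {α : MulAut (sIsom B)} {Γ : M ≃+ M} {τ : E ≃+* E} (k : Semi α Γ τ)
    {x : M} (hx : B x x = 0) (x0 : x ≠ 0) (e : α (tT B x 1) = tT B x 1) :
    ∃ a : E, σ a * a = 1 ∧ Γ x = a • x := by
  rw [k.tT h hx (map_one σ), map_one] at e
  obtain ⟨a, -, h1, h2⟩ := h.tT_dep hx x0 (by rw [k.form, hx, map_zero]) (map_one σ) one_ne_zero
    (map_one σ) e.symm
  exact ⟨a, by rwa [mul_one] at h2, h1⟩

theorem A2.exists_notMem {W : Submodule E M} (h2 : 2 ≤ finrank E W) (x : M) : ∃ a ∈ W, a ∉ E ∙ x := by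
  by_contra! e
  have := (Submodule.finrank_mono (show W ≤ E ∙ x from e)).trans (finrank_span_le_card {x})
  simp only [Set.toFinset_singleton, Finset.card_singleton] at this
  omega

theorem Mo.cQ (h : Mo B) {W : Submodule E M} (hW : TotIso B W) (h0 : W ≠ ⊥) {α : MulAut (sIsom B)}
    (k : QW B W ≤ Cf α) : ∃ v ∈ VW B W, α = MulAut.conj v := by
  obtain ⟨x, hx, x0⟩ := (Submodule.ne_bot_iff _).1 h0
  have hxx := hW x hx x hx
  obtain ⟨Γ, k0⟩ := h.semi α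
  generalize fa α = τ at k0
  obtain ⟨a, ha, e0⟩ := A2.eigen h k0 hxx x0 (k (h.VW_le_QW hW (h.tT_mem hxx hx (map_one σ))))
  obtain ⟨Δ, k1, e1⟩ := k0.scale (a := σ a) (by rw [h.ss, mul_comm, ha])
  have e2 : Δ x = x := by rw [e1, e0, smul_smul, ha, one_smul]
  obtain ⟨y, -, hy⟩ := h.cls.exists_hyperbolic x0 hxx
  have h3 : B x (Δ y) = 1 := by rw [← e2, k1.form, hy, map_one]
  have key : ∀ w ∈ orth B W, ∃ μ : E, Δ w = w + μ • x ∧ (τ = 1 → σ μ = μ) := fun w hw => by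
    obtain ⟨b, hb⟩ := h.cls.exists_trace w
    obtain ⟨g, hg⟩ := h.cls.exists_isE hxx (hw x hx) hb
    have h1 : g ∈ QW B W := ⟨fun z hz => by simp [hg z, hW x hx z hz, h.swap (hw z hz)],
      fun z hz => by
        rw [hg, hz x hx, zero_smul, add_zero, sub_sub_cancel_left]
        exact neg_mem (W.smul_mem _ hx)⟩
    have h2 := k1.conj g y
    rw [mem_Cf.1 (k h1), hg, hg, h3, hy, map_sub, map_add, k1.smul, k1.smul, e2, map_one] at h2
    have h4 : Δ w = w + (τ (1 * B w y + b * 1) - (1 * B w (Δ y) + b * 1)) • x := by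
      linear_combination (norm := module) -h2
    refine ⟨_, h4, ?_⟩
    rintro rfl
    have h5 : B (Δ w) (Δ y) = B w y := k1.form w y
    rw [h4, map_add, map_smulₛₗ, LinearMap.add_apply, LinearMap.smul_apply, h3, smul_eq_mul] at h5
    change σ (_ - _) = 1 * B w y + b * 1 - _
    linear_combination h5
  have hτ : τ = 1 := by
    have h1 := h.finrank_orth W
    have h2 := Submodule.finrank_mono (show W ≤ orth B W from fun _ => K2.le_orth hW)
    have h6 := h.six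
    obtain ⟨w, hw, hw'⟩ := A2.exists_notMem (W := orth B W) (by omega) x
    refine RingEquiv.ext fun c => by_contra fun hc => hw' ?_
    obtain ⟨μ, e3, -⟩ := key w hw
    obtain ⟨ν, e4, -⟩ := key _ (Submodule.smul_mem _ c hw)
    rw [k1.smul, e3] at e4
    rw [← Submodule.smul_mem_iff _ (sub_ne_zero.2 hc)]
    exact Submodule.mem_span_singleton.2 ⟨ν - τ c * μ, by
      change _ = (τ c - c) • w
      linear_combination (norm := module) -e4⟩
  subst hτ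
  have h4 : ∀ w ∈ orth B W, Δ w = w := fun w hw => by
    obtain ⟨s, hs⟩ := K2.exists_nf h
    obtain ⟨μ, e3, e3'⟩ := key w hw
    obtain ⟨ν, e4, e4'⟩ := key _ (Submodule.smul_mem _ s hw)
    have e5 : Δ (s • w) = s • Δ w := k1.smul s w
    rw [e4, e3, smul_add, smul_smul, add_right_inj] at e5
    have e6 := e4' rfl
    rw [smul_left_injective E x0 e5, map_mul, e3' rfl] at e6
    rw [e3, show μ = 0 from mul_left_cancel₀ hs (by linear_combination e6), zero_smul, add_zero]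
  obtain ⟨γ, rfl, e3⟩ := k1.exists_cN
  have h5 : ∀ z, Δ z - z ∈ W := fun z => by
    rw [← h.orth_orth W]
    intro w hw
    rw [map_sub, sub_eq_zero, ← h4 w hw]
    exact (k1.form w z).trans (congrArg (B · z) (h4 w hw).symm)
  have h6 : γ ∈ sIsom B := h.mem_of_tw (Tw.of_sq (isom_ext fun z => by
    have := h4 _ (K2.le_orth hW (h5 z))
    rw [map_sub] at this
    change (γ : M ≃ₗ[E] M) ((γ : M ≃ₗ[E] M) z) = z
    rw [e3, e3]
    linear_combination (norm := module) this + h.vadd_self (Δ z - z)))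
  exact ⟨⟨γ, h6⟩, mem_VW.2 fun z => (congrArg (· - z) (e3 z)).symm ▸ h5 z,
    MulAut.conjNormal_val (h := ⟨γ, h6⟩)⟩

theorem Mo.lin_of_fix (h : Mo B) {W : Submodule E M} (hW : TotIso B W) (h2 : 2 ≤ finrank E W)
    {α : MulAut (sIsom B)} (k : VW B W ≤ Cf α) : fa α = 1 := by
  obtain ⟨Γ, k0⟩ := h.semi α
  have h1 : ∀ x ∈ W, x ≠ 0 → ∃ a : E, σ a * a = 1 ∧ Γ x = a • x := fun x hx x0 =>
    A2.eigen h k0 (hW x hx x hx) x0 (k (h.tT_mem (hW x hx x hx) hx (map_one σ)))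
  obtain ⟨x, hx, x0⟩ := A2.exists_notMem h2 0
  replace x0 : x ≠ 0 := by
    rintro rfl
    exact x0 (zero_mem _)
  obtain ⟨y, hy, hy'⟩ := A2.exists_notMem h2 x
  have y0 : y ≠ 0 := by
    rintro rfl
    exact hy' (zero_mem _)
  have li : ∀ s t : E, s • x + t • y = 0 → s = 0 ∧ t = 0 := fun s t e => by
    have : t = 0 := by_contra fun t0 => hy' ((Submodule.smul_mem_iff _ t0).1
      (Submodule.mem_span_singleton.2 ⟨-s, by linear_combination (norm := module) -e⟩))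
    rw [this, zero_smul, add_zero] at e
    exact ⟨(smul_eq_zero.1 e).resolve_right x0, this⟩
  obtain ⟨a, ha, e1⟩ := h1 x hx x0
  obtain ⟨b, -, e2⟩ := h1 y hy y0
  have h3 : ∀ c, a * c = fa α c * b := fun c => by
    obtain ⟨d, -, e3⟩ := h1 (x + c • y) (add_mem hx (W.smul_mem _ hy)) fun e =>
      one_ne_zero (li 1 c (by rwa [one_smul])).1
    rw [map_add, k0.smul, e1, e2] at e3
    obtain ⟨e4, e5⟩ := li (a - d) (fa α c * b - d * c) (by linear_combination (norm := module) e3)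
    linear_combination c * e4 - e5
  have h4 := h3 1
  rw [map_one, mul_one, one_mul] at h4
  exact RingEquiv.ext fun c => mul_right_cancel₀ (right_ne_zero_of_mul_eq_one ha)
    (by rw [h4, ← h3, ← h4, mul_comm]; rfl)

theorem Mo.fix_T (h : Mo B) {α : MulAut (sIsom B)} {u : M} (hu : B u u = 0) (u0 : u ≠ 0) {c : E}
    (hc : σ c = c) (c0 : c ≠ 0) (e : α (tT B u c) ∈ RR B u) :
    mp α (QW B (E ∙ u)) = QW B (E ∙ u) ∧ mp α (Fx B (E ∙ u)) = Fx B (E ∙ u) ∧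
      mp α (RR B u) = RR B u := by
  obtain ⟨Γ, k⟩ := h.semi α
  obtain ⟨d, hd, e1⟩ := (h.mem_RR hu).1 e
  rw [k.tT h hu hc] at e1
  obtain ⟨a, a0, e2, -⟩ := h.tT_dep (by rw [k.form, hu, map_zero])
    (EmbeddingLike.map_ne_zero_iff.2 u0) hu (by rw [← h.aut_σ, hc])
    (EmbeddingLike.map_ne_zero_iff.2 c0) hd e1
  have e3 : ∀ x, x ∈ E ∙ u ↔ Γ x ∈ E ∙ u := fun x => by
    rw [k.span, Set.image_singleton, ← Submodule.span_singleton_smul_eq a0.isUnit, ← e2]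
  exact ⟨(k.sub e3).2.2.2.1, (k.sub e3).2.2.2.2.1, (k.sub e3).2.2.1⟩

theorem A2.cj_one (u : M) (g : sIsom B) (x : M) : x ∈ E ∙ u ↔ lin g x ∈ E ∙ lin g u := by
  rw [cj_span _ g, Set.image_singleton]

theorem Mo.Ns_Fx (h : Mo B) {u : M} (hu : B u u = 0) (u0 : u ≠ 0) {l : sIsom B} (hl : Tw l)
    (hn : l ∈ Ns (Fx B (E ∙ u))) : l ∈ Fx B (E ∙ u) := by
  have h1 : ∀ g ∈ Fx B (E ∙ u), lin g (lin l u) = lin l u := fun g hg =>
    mem_Fx1.1 ((mem_Ns_iff.1 hn).symm.trans (cj_sub (A2.cj_one u l)).2.2.1 ▸ hg)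
  have h2 : lin l u ∈ E ∙ u := by_contra fun hy => by
    have e1 := h1 _ (h.VW_le_QW (ti1 hu) (h.tT_mem hu (Submodule.mem_span_singleton_self u)
      (map_one σ))).1
    rw [h.lin_tT hu (map_one σ), add_eq_left, one_mul, smul_eq_zero, or_iff_left u0] at e1
    obtain ⟨f, k, hf⟩ := K2.partner h ⟨hu, (lin_isom ..).trans hu, e1⟩ hy
    have e2 := h1 _ (h.tE_mem_Q k).1
    rw [h.lin_tE k, e1, h.cls.swap_one hf, zero_smul, add_zero, one_smul, add_eq_left] at e2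
    exact u0 e2
  obtain ⟨a, ha⟩ := Submodule.mem_span_singleton.1 h2
  exact mem_Fx1.2 (h.tw_fix hl ha.symm)

theorem Mo.cz (h : Mo B) {u : M} (hu : B u u = 0) (u0 : u ≠ 0) {c : E} (hc : σ c = c)
    (c0 : c ≠ 0) : ⁅C1 (tT B u c), C1 (tT B u c)⁆ ≤ Fx B (E ∙ u) := by
  have h1 : ∀ g ∈ C1 (tT B u c), ∃ a : E, lin g u = a • u := fun g hg => by
    have e := h.tT_conj g hu hc
    rw [mem_C1.1 hg, mul_inv_cancel_right] at e
    obtain ⟨a, -, e1, -⟩ := h.tT_dep hu u0 ((lin_isom ..).trans hu) hc c0 hc e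
    exact ⟨a, e1⟩
  refine commutator_le.2 fun g hg k hk => mem_Fx1.2 ?_
  obtain ⟨a, ha⟩ := h1 g hg
  obtain ⟨b, hb⟩ := h1 k hk
  obtain ⟨a0, ha'⟩ := lin_inv_of_eigen u0 ha
  obtain ⟨b0, hb'⟩ := lin_inv_of_eigen u0 hb
  simp only [commutatorElement_def, lin_mul, ha, hb, ha', hb', map_smul, smul_smul]
  rw [show b⁻¹ * (a⁻¹ * (b * a)) = 1 by field_simp, one_smul]

theorem Mo.Fx_center (h : Mo B) {u : M} (u0 : u ≠ 0) :
    Fx B (E ∙ u) ⊓ center (sIsom B) = ⊥ := by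
  refine eq_bot_iff.2 fun g hg => lin_ext fun x => ?_
  obtain ⟨a, ha⟩ := h.cls.mem_center_iff.1 hg.2
  have := mem_Fx1.1 hg.1
  rw [ha] at this ⊢
  rw [smul_left_injective E u0 (this.trans (one_smul E u).symm), one_smul, lin_one]

theorem A2.charP (h : Mo B) : CharP E 2 :=
  CharTwo.of_one_ne_zero_of_two_eq_zero one_ne_zero h.two

theorem Mo.syl_fx (h : Mo B) {U : Subgroup (sIsom B)} (hU : IsSylowIn 2 U ⊤) :
    ∃ u, u ≠ 0 ∧ B u u = 0 ∧ U ≤ Fx B (E ∙ u) := by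
  have := A2.charP h
  obtain ⟨S, rfl⟩ := hU.exists_sylow_eq
  obtain ⟨u, u0, hu, e⟩ := h.cls.sylow_fixed (le_trans (by norm_num) h.six) 2 S
  exact ⟨u, u0, hu, fun g hg => mem_Fx1.2 (e g hg)⟩

theorem Mo.exists_syl (h : Mo B) {u : M} (hu : B u u = 0) (u0 : u ≠ 0) :
    ∃ U, IsSylowIn 2 U ⊤ ∧ U ≤ Fx B (E ∙ u) := by
  obtain ⟨U, hU⟩ := exists_isSylowIn (p := 2) (⊤ : Subgroup (sIsom B))
  obtain ⟨v, v0, hv, e⟩ := h.syl_fx hU
  obtain ⟨g, rfl⟩ := h.tr1 hv v0 hu u0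
  exact ⟨_, hU.cj_of_mem (mem_top g), (cj_sub (A2.cj_one v g)).2.2.1 ▸ map_mono e⟩

theorem Mo.Q_le_syl (h : Mo B) {U : Subgroup (sIsom B)} (hU : IsSylowIn 2 U ⊤) {W : Submodule E M}
    (hW : TotIso B W) (hs : U ≤ St B W) : QW B W ≤ U :=
  le_sup_right.trans (hU.eq_of_le (hU.isPGroup.to_sup_of_normal_right' (h.two_QW hW)
    fun _ hg => (St_le_Ns (hs hg)).1.2) le_sup_left le_top).le

theorem Mo.central (h : Mo B) {U T : Subgroup (sIsom B)} (hU : IsSylowIn 2 U ⊤) {v : sIsom B}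
    (hv : Tw v) (v1 : v ≠ 1) (hT : IsPGroup 2 T) (hc : T ≤ C1 v) (hle : Nat.card U ≤ Nat.card T) :
    ∃ u c, u ≠ 0 ∧ B u u = 0 ∧ σ c = c ∧ c ≠ 0 ∧ v = tT B u c := by
  have := A2.charP h
  have h1 := hU.of_card_ge hT le_top hle
  have h2 : v ∈ T := (h1.eq_of_le (hT.to_sup_of_normal_left' hv.isPGroup (zpowers_le.2
    (centralizer_le_normalizer _ (mem_Cs.2 fun g hg => mem_C1.1 (hc hg))))) le_sup_left le_top).le
    (mem_sup_right (mem_zpowers v))
  obtain ⟨u, u0, hu, e⟩ := h.syl_fx h1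
  obtain ⟨S, rfl⟩ := h1.exists_sylow_eq
  obtain ⟨w, b, -, hE, h3⟩ := h.cls.center_sylow 2 S u0 hu (fun g hg => mem_Fx1.1 (e hg)) h2
    fun y hy => congrArg (QuotientGroup.mk (s := center _)) (mem_C1.1 (hc hy)).symm
  obtain ⟨c, hc'⟩ := hE.isT_of_mem (by_contra fun hw => by
    obtain ⟨x, hx, hx'⟩ := h.cls.exists_orth_eq_one hw
    obtain ⟨s, hs⟩ := K2.exists_nf h
    have := h3 (s • x) (by simp [hx])
    rw [map_smul, hx', map_smulₛₗ, LinearMap.smul_apply, h.cls.swap_one hx'] at this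
    exact hs (by simpa using sub_eq_zero.2 this.symm))
  refine ⟨u, c, u0, hu, ?_, fun c0 => v1 ?_, (K1.tT_eq hc').symm⟩
  · linear_combination h.cls.coeff_of_isT u0 hu hc' - c * h.two
  · rw [← K1.tT_eq hc', c0, h.tT_zero]

end Cfsg.Lib.UM6
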