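import Cfsg.Agent.UM6.OUT

/-!
# The fixed points of an outer involution on `V_W` do not split
-/

set_option autoImplicit false
set_option linter.unusedSectionVars false

namespace Cfsg.Lib.UM6

open Subgroup Module Cfsg.Lib.Trans Cfsg.Lib.Gold Cfsg.Lib.Class.Form Cfsg.Lib.Class.FAut
open scoped commutatorElement

variable {E M : Type*} [Field E] [Finite E] [AddCommGroup M] [Module E M] [FiniteDimensional E M]
  {σ : E →+* E} {B : M →ₛₗ[σ] M →ₗ[E] E}

namespace SUB

theorem tri {m : ℕ} (i : Fin (m + 3)) : i = 0 ∨ i = 1 ∨ (i ≠ 0 ∧ i ≠ 1) := by tauto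

theorem lt {m : ℕ} {i : Fin (m + 3)} (h0 : i ≠ 0) (h1 : i ≠ 1) : 0 < i ∧ 1 < i := by
  rw [Ne, Fin.ext_iff] at h0 h1
  rw [Fin.lt_def, Fin.lt_def]
  simp only [Fin.val_zero, Fin.val_one] at h0 h1 ⊢
  omega

theorem mat (h2 : (2 : E) = 0) {m : ℕ} {P : (Fin (m + 3) → Fin (m + 3) → E) → Prop}
    (sym : ∀ A, P A → ∀ i j, A i j = A j i) (fix : ∀ A, P A → ∀ i j, σ (A i j) = A i j)
    (step : ∀ A, P A → ∀ a b s, a < b → σ s = s → P fun i j => (if i = a then s * A b j else 0) +
      (if j = a then s * A i b else 0) + if i = a ∧ j = a then s * s * A b b else 0)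
    {A} (hA : P A) {c j : Fin (m + 3)} (j0 : j ≠ 0) (j1 : j ≠ 1) (hc : A c j ≠ 0) :
    P fun i l => (if i = 1 ∧ l = 0 then 1 else 0) + if i = 0 ∧ l = 1 then 1 else 0 := by
  have inv : ∀ i l, σ (A i l)⁻¹ = (A i l)⁻¹ := fun i l => by rw [map_inv₀, fix A hA]
  have dbl : ∀ x : E, x + x = 0 := fun x => by linear_combination x * h2
  have eq : ∀ {X Y}, P X → (∀ i l, Y i l = X i l) → P Y := fun hX e => by
    rwa [funext₂ e]
  have s0 := sym A hA j
  have st := step A hA
  have st' := step _ (st 0 j 1 (lt j0 j1).1 (map_one σ))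
  clear sym fix step hA
  by_cases k : ∃ c, c ≠ 0 ∧ c ≠ 1 ∧ A c j ≠ 0
  · obtain ⟨c, c0, c1, hc⟩ := k
    refine eq (st' 1 c _ (lt c0 c1).2 (inv c j)) fun i l => ?_
    by_cases i0 : i = 0 <;> by_cases i1 : i = 1 <;> by_cases l0 : l = 0 <;> by_cases l1 : l = 1 <;>
      simp_all
  · push Not at k
    rcases tri c with rfl | rfl | ⟨c0, c1⟩
    · refine eq (st 1 j _ (lt j0 j1).2 (inv 0 j)) fun i l => ?_
      rcases tri i with rfl | rfl | ⟨i0, i1⟩ <;> rcases tri l with rfl | rfl | ⟨l0, l1⟩ <;>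
        simp [*]
    · refine eq (st 0 j _ (lt j0 j1).1 (inv 1 j)) fun i l => ?_
      rcases tri i with rfl | rfl | ⟨i0, i1⟩ <;> rcases tri l with rfl | rfl | ⟨l0, l1⟩ <;>
        simp [*]
    · exact absurd (k c c0 c1) hc

end SUB

theorem Mo.sub (h : Mo B) {α : MulAut (sIsom B)} {Γ : M ≃+ M} (k : Semi α Γ (sg σ)) {n : ℕ}
    (h3 : 3 ≤ n) {e f : Fin n → M} (he : ∀ i j, B (e i) (e j) = 0) (hf : ∀ i j, B (f i) (f j) = 0)
    (hef : ∀ i j, B (e i) (f j) = if i = j then 1 else 0) (hΓ : ∀ i, Γ (e i) = e i ∧ Γ (f i) = f i)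
    {A₁ A₂ : Subgroup (sIsom B)} (h1 : A₁ ⊔ A₂ = VW B (Submodule.span E (Set.range e)) ⊓ Cf α)
    (h2 : A₁ ⊓ A₂ = ⊥) (hc : Nat.card A₁ = Nat.card A₂) :
    ¬ ∀ i j (s : E), i < j → σ s = s → tE B (s • e i) (f j) ∈ Ns A₁ ⊓ Ns A₂ := by
  intro hy
  obtain ⟨m, rfl⟩ : ∃ m, n = m + 3 := ⟨n - 3, by omega⟩
  have fe := OUT.fe h hef
  have ti := OUT.ti h he
  have li : LinearIndependent E e := Fintype.linearIndependent_iff.2 fun c hc j => by
    simpa [fe] using congrArg (B (f j)) hc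
  have i2 : I2 B (e 0) (e 1) := ⟨he _ _, he _ _, he _ _⟩
  have hz : ∀ i l, B (f i) (lin (tE B (e 0) (e 1)) (f l)) =
      (if i = 1 ∧ l = 0 then 1 else 0) + if i = 0 ∧ l = 1 then 1 else 0 := fun i l => by
    rw [h.lin_tE i2]
    simp only [map_add, map_smul, hf, hef, fe, smul_eq_mul, zero_add, ite_and, eq_comm (b := l)]
    split_ifs <;> simp_all
  have l1 : A₁ ≤ _ := le_sup_left.trans h1.le
  have l2 : A₂ ≤ _ := le_sup_right.trans h1.le
  have cS := h.card_fix k li he fun i => (hΓ i).1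
  rw [← h1, SG2.card_sup_Cs (fun a ha => mem_Cs.2 fun b hb => h.VW_comm ti (l2 hb).1 (l1 ha).1) h2]
    at cS
  have key : ∀ H : Subgroup (sIsom B), H ≤ VW B (Submodule.span E (Set.range e)) ⊓ Cf α →
      Nat.card H * Nat.card H = qn σ ^ ((m + 3) * (m + 3 + 1) / 2) →
      (∀ i j (s : E), i < j → σ s = s → tE B (s • e i) (f j) ∈ Ns H) → tE B (e 0) (e 1) ∈ H := by
    intro H hH cH nH
    have fix : ∀ v ∈ H, ∀ i j, σ (B (f i) (lin v (f j))) = B (f i) (lin v (f j)) :=
      fun v hv i j => by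
        have := k.conj v (f j)
        rw [mem_Cf.1 (hH hv).2, (hΓ j).2] at this
        rw [← h.sg_apply, ← k.form, (hΓ i).2, ← this]
    have sym : ∀ v ∈ H, ∀ i j, B (f i) (lin v (f j)) = B (f j) (lin v (f i)) := fun v hv i j => by
      have := K2.sym h ti (hH hv).1 (f j) (f i)
      simp only [map_sub, LinearMap.sub_apply, hf, sub_zero] at this
      exact (fix v hv i j).symm.trans ((h.toHerm.conj ..).trans this)
    by_cases ex : ∃ v ∈ H, ∃ c j, j ≠ 0 ∧ j ≠ 1 ∧ B (f c) (lin v (f j)) ≠ 0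
    · obtain ⟨v, hv, c, j, j0, j1, hv'⟩ := ex
      obtain ⟨w, hw, e1⟩ := SUB.mat (σ := σ) h.two
        (P := fun A => ∃ v ∈ H, A = fun i j => B (f i) (lin v (f j)))
        (by rintro _ ⟨v, hv, rfl⟩; exact sym v hv) (by rintro _ ⟨v, hv, rfl⟩; exact fix v hv)
        (by
          rintro _ ⟨v, hv, rfl⟩ a b s hab hs
          have i3 : I2 B (s • e a) (f b) := by
            simpa using (I2.mk (he a a) (hf b b) (by rw [hef, if_neg hab.ne])).smul s 1
          have y1 : ∀ i, lin (tE B (s • e a) (f b)) (f i) = f i + (if i = a then s else 0) • f b :=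
            fun i => by rw [h.lin_tE i3]; simp [hf, hef, hs, eq_comm]
          have hv' := (mem_normalizer_iff.1 (nH a b s hab hs) v).1 hv
          refine ⟨_, mul_mem hv hv', funext₂ fun i j => ?_⟩
          have y2 : B (f i) (lin (tE B (s • e a) (f b) * v * (tE B (s • e a) (f b))⁻¹) (f j)) =
              B (f i + (if i = a then s else 0) • f b)
                (lin v (f j + (if j = a then s else 0) • f b)) := by
            rw [lin_mul, lin_mul, lin_right, inv_eq_of_mul_eq_one_right (h.tE_sq i3), y1, y1]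
          have y3 := h.VW_fix (hH hv).1 (ti.le_orth (mem_VW.1 (hH hv').1 (f j)))
          rw [map_sub, sub_eq_iff_eq_add] at y3
          rw [lin_mul, y3, map_add, map_sub, y2, hf]
          simp only [map_add, map_smulₛₗ, LinearMap.add_apply, LinearMap.smul_apply, smul_eq_mul,
            RingHom.id_apply]
          have t2 := congrArg (B (f i) (lin v (f j)) * ·) h.two
          by_cases c1 : i = a <;> by_cases c2 : j = a <;> simp only [c1, c2, if_true, if_false,
            and_self, and_true, and_false, hs, map_zero] at t2 ⊢ <;>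
            linear_combination -t2)
        ⟨v, hv, rfl⟩ j0 j1 hv'
      have : w = tE B (e 0) (e 1) := lin_ext fun x => by
        rw [OUT.form h hf hef (hH hw).1, OUT.form h hf hef (h.tE_mem i2
          (Submodule.subset_span ⟨0, rfl⟩) (Submodule.subset_span ⟨1, rfl⟩)) x]
        simp only [hz, ← congrFun₂ e1]
      exact this ▸ hw
    push Not at ex
    let e' : Fin 2 → M := e ∘ Fin.castLE (by omega)
    have c2 := h.card_fix k (e := e') (li.comp _ (Fin.castLE_injective _)) (fun _ _ => he _ _)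
      fun i => (hΓ _).1
    have m0 : e 0 ∈ Submodule.span E (Set.range e') := Submodule.subset_span ⟨0, rfl⟩
    have m1 : e 1 ∈ Submodule.span E (Set.range e') := Submodule.subset_span ⟨1, rfl⟩
    have le : H ≤ VW B (Submodule.span E (Set.range e')) ⊓ Cf α := fun v hv => by
      refine ⟨mem_VW.2 fun x => ?_, (hH hv).2⟩
      rw [OUT.form h hf hef (hH hv).1, add_sub_cancel_left]
      refine sum_mem fun i _ => sum_mem fun j _ => ?_
      rcases SUB.tri i with rfl | rfl | ⟨i0, i1⟩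
      · exact Submodule.smul_mem _ _ m0
      · exact Submodule.smul_mem _ _ m1
      · rw [sym v hv, ex v hv j i i0 i1, zero_mul, zero_smul]; exact zero_mem _
    rw [eq_of_le_of_card_ge le (by
      rw [c2, ← Nat.mul_self_le_mul_self_iff, cH, ← pow_add]
      exact Nat.pow_le_pow_right (by have := h.two_le; omega)
        ((Nat.le_div_iff_mul_le two_pos).2 (by nlinarith)))]
    exact ⟨h.tE_mem i2 m0 m1, mem_Cf.2 (by rw [k.tE h i2, (hΓ 0).1, (hΓ 1).1])⟩
  have z1 : tE B (e 0) (e 1) ∈ A₁ ⊓ A₂ :=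
    ⟨key _ l1 (by rw [← cS, hc]) fun i j s a b => (hy i j s a b).1,
      key _ l2 (by rw [← cS, hc]) fun i j s a b => (hy i j s a b).2⟩
  have := hz 0 1
  rw [mem_bot.1 (h2.le z1), lin_one, hf] at this
  simp at this

end Cfsg.Lib.UM6
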