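import Cfsg.Agent.UM6.FRB
import Cfsg.Agent.UM6.A2A
import Cfsg.Agent.UM6.SUB

/-!
# Standard subgroups of type `U_m(2ⁿ)`: existence of frames
-/

set_option autoImplicit false
set_option linter.unusedSectionVars false

namespace Cfsg.Lib.UM6

open Subgroup Module Cfsg.Lib.Trans Cfsg.Lib.Gold Cfsg.Lib.Class.Form Cfsg.Lib.Class.FAut
open Cfsg.Lib.Comp (Tw)
open scoped commutatorElement

variable {E M : Type*} [Field E] [Finite E] [AddCommGroup M] [Module E M] [FiniteDimensional E M]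
  {σ : E →+* E} {B : M →ₛₗ[σ] M →ₗ[E] E}

theorem Mo.exists_Fr (h : Mo B) : ∃ U W u γ, Fr B U W u γ := by
  obtain ⟨e, f, γ, he, hf, hef, hγ⟩ := h.exists_gam
  choose Γ k hΓ using hγ
  have := A2.charP h
  have : Finite (E ≃+* E) := Known.finite_ringAut
  have li : LinearIndependent E e := Fintype.linearIndependent_iff.2 fun c hc i => by
    simpa [OUT.fe h hef] using congrArg (B (f i)) hc
  have hW : Mx B (Submodule.span E (Set.range e)) :=
    ⟨OUT.ti h he, (finrank_span_eq_card li).trans (Fintype.card_fin _)⟩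
  have h1 : ∀ τ x, x ∈ Submodule.span E (Set.range e) ↔ Γ τ x ∈ Submodule.span E (Set.range e) :=
    fun τ x => by
      rw [(k τ).span, ← Set.range_comp, show Γ τ ∘ e = e from funext fun i => (hΓ τ i).1]
  have h2 : ∀ (i j : Fin (kk E M)) (s : E), i < j → I2 B (s • e i) (f j) := fun i j s hij =>
    ⟨by simp [he], hf j j, by simp [hef, hij.ne]⟩
  have h3 : ∀ τ (i j : Fin (kk E M)) (s : E), i < j →
      γ τ (tE B (s • e i) (f j)) = tE B (τ s • e i) (f j) := fun τ i j s hij => by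
    rw [(k τ).tE h (h2 i j s hij), (k τ).smul, (hΓ τ i).1, (hΓ τ j).2]
  obtain ⟨T, hT⟩ := exists_isSylowIn (p := 2) (⊤ : Subgroup (E ≃+* E))
  obtain ⟨U, hU, hX, hγ⟩ := FR.inv_syl h (hT.isPGroup.map γ) (FR.two_cl h he hf hef)
    (H := St B (Submodule.span E (Set.range e))) ((closure_le _).2 (by
      rintro _ ⟨i, j, s, hij, -, rfl⟩
      exact K2.tE_St h hW.ti (Submodule.smul_mem _ _ (Submodule.subset_span ⟨i, rfl⟩))
        (h2 i j s hij)))
    (by rintro _ ⟨τ, -, rfl⟩; exact ((k τ).sub (h1 τ)).2.2.2.2.2) (by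
      rintro _ ⟨τ, -, rfl⟩
      refine FR.mp_eq_of_le fun g hg => mem_comap (f := (γ τ).toMonoidHom).1 ((closure_le _).2 ?_ hg)
      rintro _ ⟨i, j, s, hij, hs, rfl⟩
      exact subset_closure ⟨i, j, τ s, hij, by rw [← h.aut_σ, hs], h3 τ i j s hij⟩)
  obtain ⟨u, hu, u0, hu'⟩ := exists_fixed_of_isPGroup 2 hU.isPGroup
    (W := Submodule.span E (Set.range e)) (fun c => by
      have := hW.dim
      have := h.three_le
      rw [c, finrank_bot] at *
      omega) fun g hg x hx => (hU.le hg x).1 hx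
  refine ⟨U, _, u, γ, hU.trans le_top (FR.odd_St h hW), hW, hu, u0,
    fun g hg => mem_Fx1.2 (hu' g hg), hU.le, fun τ => (k τ).fa_eq h, fun τ hτ => hγ _ ⟨τ, ?_, rfl⟩,
    fun τ => ((k τ).sub (h1 τ)).2.2.1, h.card_fix (k _) li he fun i => (hΓ _ i).1,
    fun A₁ A₂ a1 a2 a3 c => h.sub (k _) h.three_le he hf hef (hΓ _) a1 a2 a3
      fun i j s hij hs => c _ ⟨hX (subset_closure ⟨i, j, s, hij, hs, rfl⟩), ?_⟩
        (h.tE_sq (h2 i j s hij))⟩
  · exact hT.le_of_normal hτ.isPGroup le_top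
      (fun τ _ => Cs_le_Ns (mem_Cs.2 fun ρ _ => aut_comm ρ τ)) (mem_zpowers _)
  · exact (h3 _ i j s hij).trans (by rw [h.sg_apply, hs])

end Cfsg.Lib.UM6
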