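import Cfsg.Agent.UM6.AP2A

/-!
# Standard subgroups of type `U_m(2ⁿ)`: automorphisms of the parabolic subgroup
-/

set_option autoImplicit false
set_option linter.unusedSectionVars false

namespace Cfsg.Lib.UM6

open Subgroup Module Cfsg.Lib.Trans Cfsg.Lib.Gold Cfsg.Lib.Class.Form Cfsg.Lib.Class.FAut
open scoped commutatorElement

variable {E M : Type*} [Field E] [Finite E] [AddCommGroup M] [Module E M] [FiniteDimensional E M]
  {σ : E →+* E} {B : M →ₛₗ[σ] M →ₗ[E] E}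

namespace AP2.HP
variable {e f : M}

theorem mapQ (h : HP B e f) (β : MulAut (Fx B (E ∙ e))) (q : Fx B (E ∙ e))
    (hq : (q : sIsom B) ∈ QW B (E ∙ e)) : (β q : sIsom B) ∈ QW B (E ∙ e) := by
  have nQ : ∀ p ∈ Fx B (E ∙ e), ∀ q ∈ QW B (E ∙ e), p * q * p⁻¹ ∈ QW B (E ∙ e) :=
    fun p hp q hq => mem_normalizer_conj (St_le_Ns (Fx_le_St hp)).1.2 hq
  refine h.O2_Fx h.he h.e0 (N := (((QW B (E ∙ e)).subgroupOf (Fx B (E ∙ e))).map
    β.toMonoidHom).map (Fx B (E ∙ e)).subtype)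
    (((h.two_QW (ti1 h.he)).comap_subtype.map _).map _) (map_subtype_le _) (fun p hp => ?_)
    ⟨_, ⟨q, hq, rfl⟩, rfl⟩
  refine mem_normalizer_fintype ?_
  rintro _ ⟨_, ⟨x, hx, rfl⟩, rfl⟩
  refine ⟨_, ⟨β.symm ⟨p, hp⟩ * x * (β.symm ⟨p, hp⟩)⁻¹, nQ _ (β.symm ⟨p, hp⟩).2 _ hx, rfl⟩, ?_⟩
  simp

theorem mapR (h : HP B e f) (β : MulAut (Fx B (E ∙ e))) {r : Fx B (E ∙ e)} {b : E}
    (k : IsE B 1 e (0 : hypU B e f) b r) : ∃ b', IsE B 1 e (0 : hypU B e f) b' (β r) := by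
  obtain ⟨w, b', k'⟩ := h.memQ.1 (h.mapQ β r (h.memQ.2 ⟨_, _, k⟩))
  obtain rfl := h.cent k' fun q hq => by
    have e1 : β.symm ⟨q, QW_le_Fx hq⟩ * r = r * β.symm ⟨q, QW_le_Fx hq⟩ :=
      Subtype.ext (h.cenR k (β.symm ⟨q, QW_le_Fx hq⟩).2)
    have e2 := congrArg (fun x => (β x : sIsom B)) e1
    simpa using e2.symm
  exact ⟨b', k'⟩

theorem exΦ0 (h : HP B e f) (β : MulAut (Fx B (E ∙ e))) : ∃ Φ : hypU B e f → hypU B e f,
    ∀ (q : Fx B (E ∙ e)) (w : hypU B e f) b, IsE B 1 e w b q → ∃ b', IsE B 1 e (Φ w) b' (β q) := by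
  have : ∀ w : hypU B e f, ∃ w' : hypU B e f,
      ∀ (q : Fx B (E ∙ e)) b, IsE B 1 e w b q → ∃ b', IsE B 1 e w' b' (β q) := by
    intro w
    obtain ⟨b0, q0, k0⟩ := h.exE w
    obtain ⟨w', b1, k1⟩ := h.memQ.1 (h.mapQ β q0 (h.memQ.2 ⟨_, _, k0⟩))
    refine ⟨w', fun q b k => ?_⟩
    have t0 := h.tr k0
    have t2 := h.tr k
    obtain ⟨r, kr⟩ := h.exE' 0 (b := b - b0) (by
      rw [map_sub]; simp only [ZeroMemClass.coe_zero, map_zero]; linear_combination t2 - t0)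
    obtain ⟨b2, kr'⟩ := h.mapR β kr
    have k2 := h.mul k0 kr
    have k3 := h.mul k1 kr'
    simp only [add_zero, ZeroMemClass.coe_zero, map_zero] at k2 k3
    rw [add_sub_cancel] at k2
    obtain rfl : q = q0 * r := Subtype.ext (k.unique k2)
    exact ⟨_, by rw [map_mul]; exact k3⟩
  choose Φ hΦ using this
  exact ⟨Φ, fun q w b => hΦ w q b⟩

theorem exΦ (h : HP B e f) (β : MulAut (Fx B (E ∙ e))) : ∃ Φ : hypU B e f ≃+ hypU B e f,
    ∀ (q : Fx B (E ∙ e)) (w : hypU B e f) b, IsE B 1 e w b q → ∃ b', IsE B 1 e (Φ w) b' (β q) := by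
  obtain ⟨Φ, hΦ⟩ := h.exΦ0 β
  obtain ⟨Ψ, hΨ⟩ := h.exΦ0 β.symm
  suffices H : (∀ w, Ψ (Φ w) = w) ∧ (∀ w, Φ (Ψ w) = w) ∧ ∀ w w', Φ (w + w') = Φ w + Φ w' from
    ⟨⟨⟨Φ, Ψ, H.1, H.2.1⟩, H.2.2⟩, hΦ⟩
  refine ⟨fun w => ?_, fun w => ?_, fun w w' => ?_⟩
  · obtain ⟨b, q, k⟩ := h.exE w
    obtain ⟨b1, k1⟩ := hΦ _ _ _ k
    obtain ⟨b2, k2⟩ := hΨ _ _ _ k1
    rw [MulEquiv.symm_apply_apply] at k2
    exact (h.uniq k2 k).1
  · obtain ⟨b, q, k⟩ := h.exE w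
    obtain ⟨b1, k1⟩ := hΨ _ _ _ k
    obtain ⟨b2, k2⟩ := hΦ _ _ _ k1
    rw [MulEquiv.apply_symm_apply] at k2
    exact (h.uniq k2 k).1
  · obtain ⟨b, q, k⟩ := h.exE w
    obtain ⟨b', q', k'⟩ := h.exE w'
    obtain ⟨b1, k1⟩ := hΦ _ _ _ k
    obtain ⟨b2, k2⟩ := hΦ _ _ _ k'
    obtain ⟨b3, k3⟩ := hΦ (q * q') _ _ (h.mul k k')
    rw [map_mul] at k3
    exact (h.uniq k3 (h.mul k1 k2)).1

theorem ex_self (h : HP B e f) {c : E} (hc : σ c = c) : ∃ w : hypU B e f, B w w = c := by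
  have hc' := AP1.cls h.hU
  obtain ⟨x, x0, hx⟩ := hc'.exists_iso (by have := h.four; omega)
  obtain ⟨y, hy, hxy⟩ := hc'.exists_hyperbolic x0 hx
  obtain ⟨a, ha⟩ := h.exists_tr hc
  refine ⟨a • x + y, ?_⟩
  have hyx := hc'.swap_one hxy
  rw [restr_apply] at hx hy hxy hyx
  simp [hx, hy, hxy, hyx, ← ha, add_comm]

theorem semiΦ (h : HP B e f) {β : MulAut (Fx B (E ∙ e))} {Φ : hypU B e f ≃+ hypU B e f}
    (hΦ : ∀ (q : Fx B (E ∙ e)) (w : hypU B e f) b, IsE B 1 e w b q →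
      ∃ b', IsE B 1 e (Φ w) b' (β q)) : ∃ τ : E ≃+* E, ∀ a w, Φ (a • w) = τ a • Φ w := by
  obtain ⟨π, ι, h1, -, h3, -⟩ := levi h.toHerm h.he h.hf h.hef
  have hc : ∀ (p : Fx B (E ∙ e)) (w : hypU B e f), Φ (lin (π p) w) = lin (π (β p)) (Φ w) := by
    intro p w
    obtain ⟨b, q, k⟩ := h.exE w
    obtain ⟨b1, k1⟩ := hΦ (p * q * p⁻¹) _ _ (h.conj p.2 k (h.act h3 p w))
    obtain ⟨b2, k2⟩ := hΦ _ _ _ k
    rw [map_mul, map_mul, map_inv] at k1
    exact (h.uniq k1 (h.conj (β p).2 k2 (h.act h3 _ _))).1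
  have hρ : ∀ c : E, ∃ a : E, ∀ w, c • Φ w = Φ (a • w) := fun c => by
    obtain ⟨a, ha⟩ := end_comm h.hU h.four (Φ.symm.toAddMonoidHom.comp
      ((DistribSMul.toAddMonoidHom _ c).comp Φ.toAddMonoidHom)) fun g x => by
        apply Φ.injective
        change Φ (Φ.symm (c • Φ (lin g x))) = Φ (lin g (Φ.symm (c • Φ x)))
        rw [← h1 g, hc, hc, Φ.apply_symm_apply, Φ.apply_symm_apply, map_smul]
    exact ⟨a, fun w => by rw [← ha w]; exact (Φ.apply_symm_apply _).symm⟩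
  choose ρ hρ using hρ
  obtain ⟨w, hw⟩ := h.ex_self (map_one σ)
  have w0 : w ≠ 0 := by rintro rfl; simp at hw
  have inj : ∀ {a b : E}, Φ (a • w) = Φ (b • w) → a = b := fun e1 =>
    smul_left_injective E w0 (Φ.injective e1)
  let ρ' : E →+* E :=
    { toFun := ρ
      map_one' := inj (by rw [← hρ, one_smul, one_smul])
      map_mul' := fun a b => inj (by rw [← hρ, mul_smul, hρ b, hρ a, smul_smul])
      map_zero' := inj (by rw [← hρ, zero_smul, zero_smul, map_zero])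
      map_add' := fun a b => inj (by rw [← hρ, add_smul, add_smul, map_add, hρ, hρ]) }
  let ρe := RingEquiv.ofBijective ρ' (Finite.injective_iff_bijective.1 ρ'.injective)
  refine ⟨ρe.symm, fun a x => ?_⟩
  rw [hρ]
  congr 2
  exact (ρe.apply_symm_apply a).symm

theorem multΦ (h : HP B e f) {β : MulAut (Fx B (E ∙ e))} {Φ : hypU B e f ≃+ hypU B e f}
    (hΦ : ∀ (q : Fx B (E ∙ e)) (w : hypU B e f) b, IsE B 1 e w b q →
      ∃ b', IsE B 1 e (Φ w) b' (β q)) {τ : E ≃+* E} (hτ : ∀ a w, Φ (a • w) = τ a • Φ w) :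
    ∃ κ : E, κ ≠ 0 ∧ σ κ = κ ∧ ∀ x y : hypU B e f, B (Φ x) (Φ y) = κ * τ (B x y) := by
  obtain ⟨κ, hκ⟩ := (AP1.cls h.hU).exists_multiplier Φ.toAddMonoidHom τ hτ fun x y _ hxy => by
    refine h.zero_of fun a => ?_
    obtain ⟨b, q, k⟩ := h.exE x
    obtain ⟨b', q', k'⟩ := h.exE (τ.symm a • y)
    obtain ⟨b1, k1⟩ := hΦ _ _ _ k
    obtain ⟨b2, k2⟩ := hΦ _ _ _ k'
    have hxy' : B x y = 0 := hxy
    have e1 : q * q' = q' * q := Subtype.ext ((h.comm_iff k k').2 (by simp [hxy', h.swap hxy']))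
    have e2 := (h.comm_iff k1 k2).1 (by
      simpa using congrArg (fun x => (β x : sIsom B)) e1)
    rw [← h.toHerm.conj (Φ x : M), hτ, τ.apply_symm_apply] at e2
    simpa [restr_apply] using e2
  obtain ⟨w, hw⟩ := h.ex_self (map_one σ)
  have hκ' : ∀ x y : hypU B e f, B (Φ x) (Φ y) = κ * τ (B x y) := hκ
  refine ⟨κ, ?_, ?_, hκ'⟩
  · rintro rfl
    have : Φ w = 0 := h.hU.sep _ fun v => by
      obtain ⟨v, rfl⟩ := Φ.surjective v
      rw [restr_apply, hκ', zero_mul]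
    rw [map_eq_zero_iff _ Φ.injective] at this
    subst this
    simp at hw
  · have := hκ' w w
    rw [hw, map_one, mul_one] at this
    rw [← this, h.toHerm.conj]

theorem exΓ (h : HP B e f) {Φ : hypU B e f ≃+ hypU B e f} {τ : E ≃+* E}
    (hτ : ∀ a w, Φ (a • w) = τ a • Φ w) {x : E} (x0 : x ≠ 0)
    (hκ : ∀ v w : hypU B e f, B (Φ v) (Φ w) = σ x * x * τ (B v w)) :
    ∃ (α : MulAut (sIsom B)) (Γ : M ≃+ M), Semi α Γ τ ∧ Γ e = x • e ∧
      ∀ w : hypU B e f, Γ w = (σ x)⁻¹ • (Φ w : M) := by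
  let pr : M →ₗ[E] hypU B e f :=
    (hproj B 1 e f).codRestrict _ (h.cls.hproj_mem h.he h.hf h.hef)
  have hpr : ∀ m, m = B f m • e + pr m + B e m • f := fun m => by
    change m = B f m • e + hproj B 1 e f m + B e m • f
    rw [hproj_apply, one_mul]; abel
  have sx : σ x ≠ 0 := (map_ne_zero σ).2 x0
  let Γ0 : M →+ M := AddMonoidHom.mk'
    (fun m => (τ (B f m) * x) • e + (σ x)⁻¹ • (Φ (pr m) : M) + (τ (B e m) * (σ x)⁻¹) • f)
    fun m m' => by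
      simp only [map_add, Submodule.coe_add]
      module
  have hΓ : ∀ m, Γ0 m =
    (τ (B f m) * x) • e + (σ x)⁻¹ • (Φ (pr m) : M) + (τ (B e m) * (σ x)⁻¹) • f := fun _ => rfl
  have h1 : ∀ a m, Γ0 (a • m) = τ a • Γ0 m := fun a m => by
    simp only [hΓ, map_smul, smul_eq_mul, map_mul, hτ, Submodule.coe_smul]
    module
  have h2 : ∀ m m', B (Γ0 m) (Γ0 m') = τ (B m m') := fun m m' => by
    have e1 : B m m' = σ (B f m) * B e m' + B (pr m) (pr m') + σ (B e m) * B f m' := by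
      conv_lhs => rw [hpr m]
      have e2 : B (pr m) m' = B (pr m) (pr m') := by
        conv_lhs => rw [hpr m']
        simp [h.we, h.wf]
      simp [e2]
    rw [e1]
    simp only [hΓ, map_add, map_smulₛₗ, LinearMap.add_apply, LinearMap.smul_apply, smul_eq_mul,
      h.he, h.hf, h.hef, h.hfe, h.ew, h.fw, h.we, h.wf, hκ, map_mul, map_inv₀, h.ss, h.aut_σ,
      RingHom.id_apply]
    field_simp
    ring
  have : Finite M := Module.finite_of_finite E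
  have inj : Function.Injective Γ0 := (injective_iff_map_eq_zero _).2 fun m hm =>
    h.sep m fun v => by
      have := h2 m v
      rw [hm] at this
      simpa using this.symm
  obtain ⟨α, hα⟩ := h.of_semi (AddEquiv.ofBijective Γ0 (Finite.injective_iff_bijective.1 inj)) τ h1 h2
  refine ⟨α, _, hα, ?_, fun w => ?_⟩
  · have : pr e = 0 := Subtype.ext (by
      change hproj B 1 e f e = 0
      simp [hproj_apply, h.he, h.hfe])
    change Γ0 e = _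
    simp [hΓ, this, h.he, h.hfe]
  · have : pr w = w := Subtype.ext (hproj_of_mem w.2)
    change Γ0 w = _
    simp [hΓ, this, h.ew, h.fw]

end AP2.HP

theorem Mo.autP (h : Mo B) {u : M} (hu : B u u = 0) (u0 : u ≠ 0) (β : MulAut (Fx B (E ∙ u))) :
    ∃ α : MulAut (sIsom B), ∀ p : Fx B (E ∙ u), α p = β p := by
  obtain ⟨f, hf, huf⟩ := h.cls.exists_hyperbolic u0 hu
  have k : AP2.HP B u f := ⟨h, hu, hf, huf⟩
  obtain ⟨Φ, hΦ⟩ := k.exΦ β
  obtain ⟨τ, hτ⟩ := k.semiΦ hΦ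
  obtain ⟨κ, κ0, κσ, hκ⟩ := k.multΦ hΦ hτ
  obtain ⟨x, rfl⟩ := h.exists_nm κσ
  have x0 : x ≠ 0 := right_ne_zero_of_mul κ0
  have sx : σ x ≠ 0 := left_ne_zero_of_mul κ0
  obtain ⟨α, Γ, hα, e1, e2⟩ := k.exΓ hτ x0 hκ
  let θ : Fx B (E ∙ u) →* sIsom B :=
    α.symm.toMonoidHom.comp ((Fx B (E ∙ u)).subtype.comp β.toMonoidHom)
  have hθ : ∀ p, α (θ p) = β p := fun p => α.apply_symm_apply _
  have hP : ∀ p, θ p ∈ Fx B (E ∙ u) := fun p => mem_Fx1.2 (Γ.injective (by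
    rw [← hα.conj, hθ, e1, map_smul, mem_Fx1.1 (β p).2]))
  have back : ∀ (q : Fx B (E ∙ u)) (w : hypU B u f) b,
      IsE B 1 u (Φ w) (σ x * x * τ b) (β q) → IsE B 1 u w b (θ q) := fun q w b k1 =>
    AP2.semi_isE hα (by
      rw [hθ, e1, e2, AP2.smul_iff h.ss, smul_smul, mul_inv_cancel₀ sx, one_smul]
      exact k1)
  obtain ⟨v, hv, hv'⟩ := k.stepB θ hP (fun q w b k1 => by
    obtain ⟨b', k2⟩ := hΦ _ _ _ k1
    refine ⟨τ.symm ((σ x * x)⁻¹ * b'), back _ _ _ ?_⟩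
    rwa [τ.apply_symm_apply, mul_inv_cancel_left₀ κ0]) fun r b k1 => by
      have t1 := k.tr k1
      obtain ⟨w, hw⟩ := k.ex_self (c := b) (by
        simp only [ZeroMemClass.coe_zero, map_zero] at t1
        linear_combination t1 - b * h.two)
      obtain ⟨b1, q, k2⟩ := k.exE w
      obtain ⟨b2, k3⟩ := hΦ _ _ _ k2
      have z : ∀ y : hypU B u f, y + y = 0 := fun y => Subtype.ext (h.vadd_self y)
      have k4 := k.mul k2 k2
      have k5 := k.mul k3 k3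
      rw [z, h.add_self, zero_add] at k4 k5
      rw [hw] at k4
      obtain rfl : r = q * q := Subtype.ext (k1.unique k4)
      rw [hκ, hw, ← map_zero Φ] at k5
      exact (back _ _ _ (by rw [map_mul]; exact k5)).unique k1
  refine ⟨α * (MulAut.conj v)⁻¹, fun p => ?_⟩
  have := k.stepC ((MulAut.conj v).toMonoidHom.comp θ)
    (fun p => mul_mem (mul_mem hv (hP p)) (inv_mem hv)) hv' p
  rw [← hθ, ← this]
  simp [mul_assoc]

end Cfsg.Lib.UM6
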