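import Cfsg.Agent.SG2.SY0
import Cfsg.Agent.SG2.AB
import Cfsg.Agent.Class.AutSylow
import Cfsg.Agent.Class.AutSemi
import Cfsg.Agent.Class.HermParab
import Cfsg.Agent.Class.HermSL2
import Cfsg.Agent.Class.HermMax
import Cfsg.Agent.Chev.LaceSL

/-!
# Standard subgroups of type `U_m(2ⁿ)`, `m ≥ 6`: definitions
-/

set_option autoImplicit false
set_option linter.unusedSectionVars false

noncomputable section

namespace Cfsg.Lib.UM6

open Subgroup Module Cfsg.Lib.Trans Cfsg.Lib.Gold Cfsg.Lib.Class.Form Cfsg.Lib.Class.FAut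
open Cfsg.Lib.SG2 (Uq Top)
open scoped commutatorElement

section Model

variable {E M : Type*} [Field E] [AddCommGroup M] [Module E M] {σ : E →+* E}

/-- A Hermitian space of dimension at least six in characteristic two. -/
structure Mo (B : M →ₛₗ[σ] M →ₗ[E] E) : Prop extends Herm B where
  two : (2 : E) = 0
  six : 6 ≤ finrank E M
  ex : True

/-- `q`. -/
def qn (σ : E →+* E) : ℕ := Nat.card {a : E // σ a = a}

/-- The Witt index `k`. -/
def kk (E M : Type*) [Field E] [AddCommGroup M] [Module E M] : ℕ := finrank E M / 2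

open Classical in
/-- `σ` as an automorphism. -/
def sg (σ : E →+* E) : E ≃+* E :=
  if h : Function.Bijective σ then RingEquiv.ofBijective σ h else 1

variable (B : M →ₛₗ[σ] M →ₗ[E] E)

open Classical in
/-- The transvection `x ↦ x + c B(u, x) u`. -/
def tT (u : M) (c : E) : sIsom B := if h : ∃ g, IsT B u c g then h.choose else 1

open Classical in
/-- The element `x ↦ x + B(u, x) w + B(w, x) u`. -/
def tE (u w : M) : sIsom B := if h : ∃ g, IsE B 1 u w 0 g then h.choose else 1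

/-- Two orthogonal isotropic vectors. -/
structure I2 (u w : M) : Prop where
  uu : B u u = 0
  ww : B w w = 0
  uw : B u w = 0

/-- Three pairwise orthogonal isotropic vectors. -/
structure I3 (u w x : M) : Prop extends I2 B u w where
  xx : B x x = 0
  ux : B u x = 0
  wx : B w x = 0

/-- A generic pair of roots `(u, x)`, `(y, w)` at an angle of 120 degrees. -/
structure Gen (u w x y : M) : Prop extends I3 B u w x where
  yy : B y y = 0
  uy : B u y = 0
  wy : B w y = 0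
  li : LinearIndependent E ![u, w]

/-- Three orthogonal hyperbolic pairs. -/
structure Fr3 (e f : Fin 3 → M) : Prop where
  ee : ∀ i j, B (e i) (e j) = 0
  ff : ∀ i j, B (f i) (f j) = 0
  ef : ∀ i j, B (e i) (f j) = if i = j then 1 else 0

/-- A maximal totally isotropic subspace. -/
structure Mx (W : Submodule E M) : Prop where
  ti : TotIso B W
  dim : finrank E W = kk E M

/-- `V_W`. -/
abbrev VW (W : Submodule E M) : Subgroup (sIsom B) := Herm.movingInto B W

/-- The root group `R_u`. -/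
abbrev RR (u : M) : Subgroup (sIsom B) := Herm.movingInto B (E ∙ u)

/-- The pointwise stabiliser. -/
def Fx (W : Submodule E M) : Subgroup (sIsom B) where
  carrier := {g | ∀ w ∈ W, lin g w = w}
  one_mem' _ _ := rfl
  mul_mem' ha hb w hw := by rw [lin_mul, hb w hw, ha w hw]
  inv_mem' {g} h w hw := by
    conv_lhs => rw [← h w hw]
    exact lin_inv_lin g w

/-- The stabiliser. -/
def St (W : Submodule E M) : Subgroup (sIsom B) where
  carrier := {g | ∀ x, x ∈ W ↔ lin g x ∈ W}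
  one_mem' _ := Iff.rfl
  mul_mem' ha hb x := (hb x).trans (ha _)
  inv_mem' {g} h x := by
    have := h (lin g⁻¹ x)
    rw [lin_lin_inv] at this
    exact this.symm

/-- `Q_W`. -/
def QW (W : Submodule E M) : Subgroup (sIsom B) where
  carrier := {g | (∀ w ∈ W, lin g w = w) ∧ ∀ x ∈ orth B W, lin g x - x ∈ W}
  one_mem' := ⟨fun _ _ => rfl, fun x _ => by simp⟩
  mul_mem' {a b} ha hb := ⟨fun w hw => by rw [lin_mul, hb.1 w hw, ha.1 w hw], fun x hx => by
    have e : lin (a * b) x - x = lin a (lin b x - x) + (lin a x - x) := by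
      rw [lin_mul, map_sub]; abel
    rw [e, ha.1 _ (hb.2 x hx)]
    exact add_mem (hb.2 x hx) (ha.2 x hx)⟩
  inv_mem' {g} h := by
    have k : ∀ w ∈ W, lin g⁻¹ w = w := fun w hw => by
      conv_lhs => rw [← h.1 w hw]
      exact lin_inv_lin g w
    refine ⟨k, fun x hx => ?_⟩
    have e : lin g⁻¹ x - x = -lin g⁻¹ (lin g x - x) := by rw [map_sub, lin_inv_lin]; abel
    rw [e, k _ (h.2 x hx)]
    exact neg_mem (h.2 x hx)

variable {B} in
/-- The elements fixed by an automorphism. -/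
def Cf (α : MulAut (sIsom B)) : Subgroup (sIsom B) where
  carrier := {g | α g = g}
  one_mem' := map_one α
  mul_mem' {a b} ha hb := by rw [Set.mem_ofPred_eq, map_mul, ha, hb]
  inv_mem' {a} ha := by rw [Set.mem_ofPred_eq, map_inv, ha]

variable {B} in
/-- The image of a subgroup under an automorphism. -/
abbrev mp (α : MulAut (sIsom B)) (H : Subgroup (sIsom B)) : Subgroup (sIsom B) :=
  H.map α.toMonoidHom

variable {B} in
/-- `α` is induced by the `τ`-semilinear semi-isometry `Γ`. -/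
structure Semi (α : MulAut (sIsom B)) (Γ : M ≃+ M) (τ : E ≃+* E) : Prop where
  smul : ∀ a x, Γ (a • x) = τ a • Γ x
  form : ∀ x y, B (Γ x) (Γ y) = τ (B x y)
  conj : ∀ g x, lin (α g) (Γ x) = Γ (lin g x)

variable {B} in
open Classical in
/-- The field part of an automorphism. -/
def fa (α : MulAut (sIsom B)) : E ≃+* E :=
  if h : ∃ τ, ∃ Γ, Semi α Γ τ then h.choose else 1

open Classical in
/-- The linear transvection `x ↦ x + B(w, x) u`. -/
def tv (u w : M) : M ≃ₗ[E] M :=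
  if h : ∃ g : M ≃ₗ[E] M, ∀ x, g x = x + B w x • u then h.choose else 1

/-- A Sylow subgroup with its flag and a group of standard field automorphisms. -/
structure Fr (U : Subgroup (sIsom B)) (W : Submodule E M) (u : M)
    (γ : (E ≃+* E) →* MulAut (sIsom B)) : Prop where
  syl : IsSylowIn 2 U ⊤
  mx : Mx B W
  mem : u ∈ W
  ne : u ≠ 0
  fx : U ≤ Fx B (E ∙ u)
  st : U ≤ St B W
  faγ : ∀ τ, fa (γ τ) = τ
  γU : ∀ τ, Comp.Tw τ → mp (γ τ) U = U
  γV : ∀ τ, mp (γ τ) (VW B W) = VW B W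
  cardσ : Nat.card ↥(VW B W ⊓ Cf (γ (sg σ))) = qn σ ^ (kk E M * (kk E M + 1) / 2)
  sub : ∀ A₁ A₂ : Subgroup (sIsom B), A₁ ⊔ A₂ = VW B W ⊓ Cf (γ (sg σ)) → A₁ ⊓ A₂ = ⊥ →
    Nat.card A₁ = Nat.card A₂ →
    ¬ ∀ y ∈ U ⊓ Cf (γ (sg σ)), y * y = 1 → y ∈ Ns A₁ ⊓ Ns A₂

theorem qn_eq_1' : type_of% @qn.eq_1 := @qn.eq_1
theorem kk_eq_1' : type_of% @kk.eq_1 := @kk.eq_1
theorem sg_eq_1' : type_of% @sg.eq_1 := @sg.eq_1
theorem tT_eq_1' : type_of% @tT.eq_1 := @tT.eq_1
theorem tE_eq_1' : type_of% @tE.eq_1 := @tE.eq_1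
theorem Fx_eq_1' : type_of% @Fx.eq_1 := @Fx.eq_1
theorem St_eq_1' : type_of% @St.eq_1 := @St.eq_1
theorem QW_eq_1' : type_of% @QW.eq_1 := @QW.eq_1
theorem Cf_eq_1' : type_of% @Cf.eq_1 := @Cf.eq_1
theorem fa_eq_1' : type_of% @fa.eq_1 := @fa.eq_1
theorem tv_eq_1' : type_of% @tv.eq_1 := @tv.eq_1

variable {B}

theorem mem_VW {W : Submodule E M} {g : sIsom B} : g ∈ VW B W ↔ ∀ x, lin g x - x ∈ W := Iff.rfl
theorem mem_Fx {W : Submodule E M} {g : sIsom B} : g ∈ Fx B W ↔ ∀ w ∈ W, lin g w = w := Iff.rfl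
theorem mem_St {W : Submodule E M} {g : sIsom B} : g ∈ St B W ↔ ∀ x, x ∈ W ↔ lin g x ∈ W := Iff.rfl
theorem mem_QW {W : Submodule E M} {g : sIsom B} :
    g ∈ QW B W ↔ (∀ w ∈ W, lin g w = w) ∧ ∀ x ∈ orth B W, lin g x - x ∈ W := Iff.rfl
theorem mem_Cf {α : MulAut (sIsom B)} {g : sIsom B} : g ∈ Cf α ↔ α g = g := Iff.rfl

theorem mem_Fx_span {s : Set M} {g : sIsom B} :
    g ∈ Fx B (Submodule.span E s) ↔ ∀ w ∈ s, lin g w = w := by
  refine ⟨fun h w hw => h w (Submodule.subset_span hw), fun h w hw => ?_⟩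
  induction hw using Submodule.span_induction with
  | mem x hx => exact h x hx
  | zero => exact map_zero _
  | add x y _ _ hx hy => rw [map_add, hx, hy]
  | smul a x _ hx => rw [map_smul, hx]

theorem mem_Fx1 {u : M} {g : sIsom B} : g ∈ Fx B (E ∙ u) ↔ lin g u = u := by
  rw [mem_Fx_span]; simp

theorem QW_le_Fx {W : Submodule E M} : QW B W ≤ Fx B W := fun _ h => h.1
theorem Fx_anti {W W' : Submodule E M} (h : W ≤ W') : Fx B W' ≤ Fx B W :=
  fun _ hg w hw => hg w (h hw)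
theorem VW_mono {W W' : Submodule E M} (h : W ≤ W') : VW B W ≤ VW B W' := fun _ hg x => h (hg x)

end Model

section Mat

open Matrix
open scoped MatrixGroups

variable {E : Type*} [Field E] {m : ℕ}

/-- The inverse transpose composed with a field automorphism. -/
def it (τ : E ≃+* E) : SL(m, E) →* SL(m, E) where
  toFun g := ⟨((g⁻¹).1.map τ)ᵀ, by
    rw [det_transpose, show (g⁻¹).1.map τ = (τ : E →+* E).mapMatrix (g⁻¹).1 from rfl,
      ← RingHom.map_det, (g⁻¹).2, map_one]⟩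
  map_one' := Subtype.ext (by
    rw [inv_one]
    change ((1 : Matrix (Fin m) (Fin m) E).map τ)ᵀ = 1
    rw [Matrix.map_one _ (map_zero τ) (map_one τ), transpose_one])
  map_mul' g h := Subtype.ext (by
    rw [_root_.mul_inv_rev]
    change (((h⁻¹).1 * (g⁻¹).1).map (τ : E →+* E))ᵀ =
      ((g⁻¹).1.map (τ : E →+* E))ᵀ * ((h⁻¹).1.map (τ : E →+* E))ᵀ
    rw [Matrix.map_mul, transpose_mul])

/-- The standard field (`b = false`) and graph-field (`b = true`) automorphisms. -/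
def gm (τ : E ≃+* E) (b : Bool) : SL(m, E) →* SL(m, E) :=
  if b then it τ else SpecialLinearGroup.map (τ : E →+* E)

theorem it_eq_1' : type_of% @it.eq_1 := @it.eq_1
theorem gm_eq_1' : type_of% @gm.eq_1 := @gm.eq_1
theorem gm_true (τ : E ≃+* E) : gm (m := m) τ true = it τ := rfl
theorem gm_false (τ : E ≃+* E) :
    gm (m := m) τ false = SpecialLinearGroup.map (τ : E →+* E) := rfl
theorem coe_it (τ : E ≃+* E) (g : SL(m, E)) : (it τ g).1 = ((g⁻¹).1.map τ)ᵀ := rfl

variable {G : Type*} [Group G]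

/-- `c` acts on the image of `ψ` as a diagonal automorphism times `gm τ b`. -/
def Th (ψ : SL(m, E) →* G) (c : G) (τ : E ≃+* E) (b : Bool) : Prop :=
  ∃ δ : GL (Fin m) E, ∀ g, c * ψ g * c⁻¹ = ψ (Chev.slCj δ (gm τ b g))

theorem Th_eq_1' : type_of% @Th.eq_1 := @Th.eq_1

/-- A central quotient of `SL_m(q²)`, `q` even, `m ≥ 6`. -/
structure MS (σ : E →+* E) (ψ : SL(m, E) →* G) : Prop where
  two : (2 : E) = 0
  ss : ∀ a, σ (σ a) = a
  ne : σ ≠ RingHom.id E
  six : 6 ≤ m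
  ker : ψ.ker ≤ center _

end Mat

section Hyp

variable {G E M : Type*} [Group G] [Field E] [AddCommGroup M] [Module E M] {σ : E →+* E}
  {B : M →ₛₗ[σ] M →ₗ[E] E}

/-- A central quotient of the special unitary group. -/
structure Mod (φ : sIsom B →* G) : Prop extends Mo B where
  ker : φ.ker ≤ center _

/-- `c` maps `φ` to `φ'` through `α`. -/
def Mp (φ φ' : sIsom B →* G) (c : G) (α : MulAut (sIsom B)) : Prop :=
  ∀ g, c * φ g * c⁻¹ = φ' (α g)

/-- The conjugate homomorphism. -/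
def cx (φ : sIsom B →* G) (g : G) : sIsom B →* G := (MulAut.conj g).toMonoidHom.comp φ

/-- Change of coordinates. -/
def re (φ : sIsom B →* G) (α : MulAut (sIsom B)) : sIsom B →* G := φ.comp α.toMonoidHom

theorem Mp_eq_1' : type_of% @Mp.eq_1 := @Mp.eq_1
theorem cx_eq_1' : type_of% @cx.eq_1 := @cx.eq_1
theorem re_eq_1' : type_of% @re.eq_1 := @re.eq_1

theorem cx_apply (φ : sIsom B →* G) (g : G) (a : sIsom B) : cx φ g a = g * φ a * g⁻¹ := rfl
theorem re_apply (φ : sIsom B →* G) (α : MulAut (sIsom B)) (a : sIsom B) : re φ α a = φ (α a) := rfl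
theorem map_cx (φ : sIsom B →* G) (g : G) (H : Subgroup (sIsom B)) :
    H.map (cx φ g) = cj g (H.map φ) := (map_map _ _ _).symm
theorem range_cx (φ : sIsom B →* G) (g : G) : (cx φ g).range = cj g φ.range := by
  rw [MonoidHom.range_eq_map, MonoidHom.range_eq_map, map_cx]
theorem map_re (φ : sIsom B →* G) (α : MulAut (sIsom B)) (H : Subgroup (sIsom B)) :
    H.map (re φ α) = (mp α H).map φ := (map_map _ _ _).symm
theorem range_re (φ : sIsom B →* G) (α : MulAut (sIsom B)) : (re φ α).range = φ.range := by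
  ext x
  exact ⟨fun ⟨a, e⟩ => ⟨_, e⟩, fun ⟨a, e⟩ => ⟨α.symm a, by rw [re_apply, α.apply_symm_apply, e]⟩⟩

section MpLem
variable {x y z : sIsom B →* G} {p q : G} {α β : MulAut (sIsom B)}

theorem Mp.one : Mp y y 1 1 := fun _ => by simp
theorem Mp.mul (h : Mp y z p α) (h' : Mp x y q β) : Mp x z (p * q) (α * β) := fun g => by
  rw [show p * q * x g * (p * q)⁻¹ = p * (q * x g * q⁻¹) * p⁻¹ by group, h', h]; rfl
theorem Mp.inv (h : Mp y z p α) : Mp z y p⁻¹ α⁻¹ := fun g => by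
  have : z g = z (α (α⁻¹ g)) := congrArg _ (α.apply_symm_apply g).symm
  rw [this, ← h]; group
theorem Mp.pow (h : Mp y y p α) (n : ℕ) : Mp y y (p ^ n) (α ^ n) := by
  induction n with
  | zero => rw [pow_zero, pow_zero]; exact Mp.one
  | succ n ih => rw [pow_succ, pow_succ]; exact ih.mul h
theorem Mp.self (l : sIsom B) : Mp y y (y l) (MulAut.conj l) := fun g => by simp
theorem Mp.cx (g : G) : Mp y (cx y g) g 1 := fun _ => rfl
theorem Mp.cj_map (h : Mp y z p α) (H : Subgroup (sIsom B)) :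
    cj p (H.map y) = (mp α H).map z := by
  rw [← map_cx, ← map_re]
  congr 1
  exact MonoidHom.ext h
theorem Mp.cj_range (h : Mp y z p α) : cj p y.range = z.range := by
  rw [← range_cx, ← range_re z α]
  congr 1
  exact MonoidHom.ext h
theorem Mp.of_Cs (h : p ∈ Cs y.range) : Mp y y p 1 := fun g => by
  rw [← Gold.mem_Cs.1 h _ ⟨g, rfl⟩, mul_inv_cancel_right]; rfl
theorem Mp.mem_Cs (h : Mp y y p 1) : p ∈ Cs y.range := Gold.mem_Cs.2 (by
  rintro _ ⟨g, rfl⟩
  exact (mul_inv_eq_iff_eq_mul.1 (h g)).symm)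

end MpLem

variable (φ : sIsom B →* G) (t : G)

/-- The standard form hypothesis. -/
structure Hyp : Prop extends Mod φ where
  t2 : t * t = 1
  t1 : t ≠ 1
  tc : ∀ g, Commute t (φ g)
  cn : C1 t ≤ Ns φ.range
  cyc : ∀ P : Subgroup G, IsPGroup 2 P → P ≤ Cs φ.range → IsCyclic P

/-- The odd part of `C(t) ∩ C(L)`. -/
def Ot : Subgroup G := Oc (C1 t ⊓ Cs φ.range)

/-- After phase 1. -/
structure H1 : Prop extends Hyp φ t where
  dec : ∀ c ∈ C1 t ⊓ Cs φ.range, c ∈ Ot φ t ∨ t * c ∈ Ot φ t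
  tr : ∀ u, u ≠ 0 → B u u = 0 → ∃ g ∈ Ns ((Fx B (E ∙ u)).map φ),
    Commute g (φ (tT B u 1)) ∧ g * t * g⁻¹ = t * φ (tT B u 1)

/-- After phase 2. -/
structure H2 : Prop extends H1 φ t where
  mv : ∀ u c, B u u = 0 → σ c = c → ∃ d ∈ Cs ((Fx B (E ∙ u)).map φ) ⊓ Cs (Ot φ t),
    d * t * d⁻¹ = t * φ (tT B u c)

/-- `D_W`. -/
def DD (W : Submodule E M) : Subgroup G :=
  Cs ((QW B W).map φ) ⊓ Cs (Ot φ t) ⊓ Ns (zpowers t ⊔ (VW B W).map φ)

/-- `J_W`, the Sylow 2-subgroup of `D_W`. -/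
def JJ (W : Submodule E M) : Subgroup G := closure {j | j ∈ DD φ t W ∧ Comp.Tw j}

/-- The group generated by the `RT x`, `x ∈ W`. -/
def VT (RT : M → Subgroup G) (W : Submodule E M) : Subgroup G := ⨆ x ∈ W, RT x

/-- The enlarged root groups. -/
structure H3r (RT : M → Subgroup G) (n : ℕ) : Prop extends H2 φ t where
  zero : RT 0 = ⊥
  le : ∀ u, B u u = 0 → RT u ≤ JJ φ t (E ∙ u)
  leR : ∀ u, B u u = 0 → (RR B u).map φ ≤ RT u
  onto : ∀ u c, B u u = 0 → σ c = c → ∃ j ∈ RT u, j * t * j⁻¹ = t * φ (tT B u c)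
  eqv : ∀ g u, B u u = 0 → cj (φ g) (RT u) = RT (lin g u)
  smul : ∀ (a : E) u, a ≠ 0 → B u u = 0 → RT (a • u) = RT u
  nt : ∀ W : Submodule E M, TotIso B W → finrank E W ≤ n → t ∉ VT RT W

/-- Orthogonal enlarged root groups commute. -/
structure H3c (RT : M → Subgroup G) : Prop extends H3r φ t RT 3 where
  com : ∀ u w, I2 B u w → RT u ≤ Cs (RT w)

/-- The enlarged root groups are elementary abelian. -/
structure H3e (RT : M → Subgroup G) : Prop extends H3c φ t RT where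
  el : ∀ u, B u u = 0 → ∀ j ∈ RT u, j * j = 1

/-- The new root elements. -/
structure H3f (RT : M → Subgroup G) (f : M → G) : Prop extends H3e φ t RT where
  mem : ∀ u, B u u = 0 → f u ∈ RT u
  junk : ∀ u, B u u ≠ 0 → f u = 1
  tf : ∀ u, B u u = 0 → f u * t * (f u)⁻¹ = t * φ (tT B u 1)
  feqv : ∀ g u, φ g * f u * (φ g)⁻¹ = f (lin g u)
  addN : ∀ (a b c : E) u, B u u = 0 → σ a * a + σ b * b = σ c * c →
    f (a • u) * f (b • u) = f (c • u)

/-- The polarisation of `f`. -/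
def Ew (f : M → G) (u w : M) : G := f (u + w) * f u * f w

/-- The group generated by `L` and the new root elements. -/
def GG (f : M → G) : Subgroup G := φ.range ⊔ closure (Set.range f)

/-- After phase 3. -/
structure H3 (f : M → G) : Prop extends H2 φ t where
  f0 : f 0 = 1
  junk : ∀ u, B u u ≠ 0 → f u = 1
  tf : ∀ u, B u u = 0 → f u * t * (f u)⁻¹ = t * φ (tT B u 1)
  sq : ∀ u, f u * f u = 1
  feqv : ∀ g u, φ g * f u * (φ g)⁻¹ = f (lin g u)
  com : ∀ u w, I2 B u w → Commute (f u) (f w)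
  cO : ∀ u, f u ∈ Cs (Ot φ t)
  addN : ∀ (a b c : E) u, B u u = 0 → σ a * a + σ b * b = σ c * c →
    f (a • u) * f (b • u) = f (c • u)
  bi : ∀ u w x, I3 B u w x → Ew f u (w + x) = Ew f u w * Ew f u x
  sw : ∀ (a : E) u w, I2 B u w → Ew f (a • u) w = Ew f u (σ a • w)
  nL : C1 t ≤ Ns (GG φ f)

/-- After phase 4. -/
structure H4 (f : M → G) (β : E) : Prop extends H3 φ t f where
  fβ : σ β = β
  r120 : ∀ u w x y, Gen B u w x y →
    ⁅Ew f u x, Ew f y w⁆ = Ew f (B x y • u) w * φ (tE B ((β * B x y) • u) w)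

/-- The field case: elements which behave like the transvections of `SL(M)`. -/
structure HA (A : M → M → G) : Prop extends H1 φ t where
  add1 : ∀ w u x, I3 B w u x → A (u + x) w = A u w * A x w
  add2 : ∀ u w x, I3 B u w x → A u (w + x) = A u w * A u x
  sw : ∀ (a : E) u w, I2 B u w → A (a • u) w = A u (σ a • w)
  eqv : ∀ g u w, I2 B u w → φ g * A u w * (φ g)⁻¹ = A (lin g u) (lin g w)
  c0 : ∀ u w x y, I3 B u w x → I3 B u w y → B x y = 0 → Commute (A u w) (A x y)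
  c2 : ∀ u w x y, Gen B u w x y → Commute (A u x) (A w y)
  resE : ∀ u w, I2 B u w → φ (tE B u w) = A u w * A w u
  resT : ∀ u c, B u u = 0 → σ c = c → φ (tT B u c) = A (c • u) u
  act : ∀ u w, I2 B u w → t * A u w * t⁻¹ = A w u
  cO : ∀ u w, I2 B u w → A u w ∈ Cs (Ot φ t)
  nL : C1 t ≤ Ns (closure {g | ∃ u w, I2 B u w ∧ g = A u w})

variable (B) in
/-- The graph group over the subspace `N`. -/
def Dl (A : M → M → G) (N : Submodule E M) : Subgroup ((M ≃ₗ[E] M) × G) :=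
  closure {p | ∃ u ∈ N, ∃ w ∈ N, I2 B u w ∧ p = (tv B u w, A u w)}

/-- The field case. -/
structure EF (ψ : Matrix.SpecialLinearGroup (Fin (finrank E M)) E →* G) : Prop extends H1 φ t where
  ms : MS σ ψ
  le : φ.range ≤ ψ.range
  act : ∀ g, t * ψ g * t⁻¹ = ψ (gm (sg σ) true g)
  cO : Ot φ t ≤ Cs ψ.range
  nL : C1 t ≤ Ns ψ.range

/-- The split case. -/
structure ES (y z : sIsom B →* G) : Prop extends H1 φ t where
  my : Mod y
  mz : Mod z
  res : ∀ g, φ g = y g * z g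
  com : ∀ g k, Commute (y g) (z k)
  act : ∀ g, t * y g * t⁻¹ = z g
  cO : Ot φ t ≤ Cs (y.range ⊔ z.range)
  nL : C1 t ≤ Ns (y.range ⊔ z.range)

/-- The split case after the determination of the fusion of `t`. -/
structure FS0 (y z : sIsom B →* G) (X : Subgroup G) : Prop extends ES φ t y z where
  top : Top X t
  le : y.range ⊔ z.range ≤ X
  odd : Odd (Nat.card (Cs (y.range ⊔ z.range)))
  uq : Uq (Ns (y.range ⊔ z.range)) t
  nt : t ∉ X

/-- The split case after the determination of the Sylow 2-subgroup. -/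
structure FS (y z : sIsom B →* G) (X : Subgroup G) (U : Subgroup (sIsom B)) : Prop
    extends FS0 φ t y z X where
  syl : IsSylowIn 2 (U.map y ⊔ U.map z) X

/-- A pure element preserving both factors. -/
def Nsw (y z : sIsom B →* G) (γ : (E ≃+* E) →* MulAut (sIsom B)) (p : G) (τ₁ τ₂ : E ≃+* E) :
    Prop := Mp y y p (γ τ₁) ∧ Mp z z p (γ τ₂)

/-- A pure element interchanging the factors. -/
def Swp (y z : sIsom B →* G) (γ : (E ≃+* E) →* MulAut (sIsom B)) (p : G) (τ₁ τ₂ : E ≃+* E) :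
    Prop := Mp y z p (γ τ₁) ∧ Mp z y p (γ τ₂)

/-- A complement of pure elements to `U₁ × U₂` in a Sylow 2-subgroup of `G`. -/
structure PC (y z : sIsom B →* G) (U : Subgroup (sIsom B)) (γ : (E ≃+* E) →* MulAut (sIsom B))
    (P : Subgroup G) : Prop where
  two : IsPGroup 2 P
  mem : t ∈ P
  pure : ∀ p ∈ P, ∃ τ₁ τ₂, Comp.Tw τ₁ ∧ Comp.Tw τ₂ ∧ (Nsw y z γ p τ₁ τ₂ ∨ Swp y z γ p τ₁ τ₂)
  inj : ∀ p ∈ P, Nsw y z γ p 1 1 → p = 1
  syl : IsSylowIn 2 ((U.map y ⊔ U.map z) ⊔ P) ⊤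

/-- The elements with field parts of odd order. -/
def KP (y z : sIsom B →* G) : Subgroup G :=
  closure {c | ∃ α β, Mp y y c α ∧ Mp z z c β ∧ Odd (orderOf (fa α)) ∧ Odd (orderOf (fa β))}

theorem Ot_eq_1' : type_of% @Ot.eq_1 := @Ot.eq_1
theorem DD_eq_1' : type_of% @DD.eq_1 := @DD.eq_1
theorem JJ_eq_1' : type_of% @JJ.eq_1 := @JJ.eq_1
theorem VT_eq_1' : type_of% @VT.eq_1 := @VT.eq_1
theorem Ew_eq_1' : type_of% @Ew.eq_1 := @Ew.eq_1
theorem GG_eq_1' : type_of% @GG.eq_1 := @GG.eq_1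
theorem Dl_eq_1' : type_of% @Dl.eq_1 := @Dl.eq_1
theorem Nsw_eq_1' : type_of% @Nsw.eq_1 := @Nsw.eq_1
theorem Swp_eq_1' : type_of% @Swp.eq_1 := @Swp.eq_1
theorem KP_eq_1' : type_of% @KP.eq_1 := @KP.eq_1

end Hyp

end Cfsg.Lib.UM6

end
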