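import Cfsg.Agent.UM6.K4

/-!
# Standard subgroups of type `U_m(2ⁿ)`: Steinberg relations in the field case
-/

set_option autoImplicit false
set_option linter.unusedSectionVars false
set_option linter.unusedVariables false

namespace Cfsg.Lib.UM6

open Subgroup Module Cfsg.Lib.Trans Cfsg.Lib.Gold Cfsg.Lib.Class.Form Cfsg.Lib.Class.FAut
open scoped commutatorElement

variable {G E M : Type*} [Group G] [Finite G] [Field E] [Finite E] [AddCommGroup M] [Module E M]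
  [FiniteDimensional E M] {σ : E →+* E} {B : M →ₛₗ[σ] M →ₗ[E] E} {φ : sIsom B →* G} {t : G}
  {A : M → M → G} {u w x y : M}

namespace E1b

/-- `u`, `w` are orthogonal and `x`, `y` are orthogonal to both. -/
structure Gn (B : M →ₛₗ[σ] M →ₗ[E] E) (u w x y : M) : Prop extends I3 B u w x where
  yy : B y y = 0
  uy : B u y = 0
  wy : B w y = 0

theorem zero1 (h : HA φ t A) (hw : B w w = 0) : A 0 w = 1 := by
  have := h.add1 w 0 0 ⟨⟨hw, by simp, by simp⟩, by simp, by simp, by simp⟩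
  rw [add_zero] at this
  exact mul_eq_left.1 this.symm

theorem sq (h : HA φ t A) (k : I2 B u w) : A u w * A u w = 1 := by
  rw [← h.add1 w u u ⟨k.symm h.toMo, k.uu, h.toMo.swap k.uw, k.uu⟩, h.toMo.vadd_self, zero1 h k.ww]

theorem flip (h : HA φ t A) (k : I2 B u x) (k' : I2 B w y) (c : Commute (A u x) (A w y)) :
    Commute (A x u) (A y w) := by
  rw [← h.act u x k, ← h.act w y k']
  exact c.map (MulAut.conj t)

theorem rr (h : HA φ t A) (k : Gn B u w x y) (c : Commute (A x u) (A y w)) :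
    A u x * A y w * (A u x)⁻¹ = A y w * A (B x y • u) w := by
  have m := h.toMo
  have k1 : I2 B u x := ⟨k.uu, k.xx, k.ux⟩
  rw [eq_mul_inv_of_mul_eq (h.resE u x k1).symm, mul_assoc _ (A x u)⁻¹, c.inv_left.eq,
    show ∀ a b c : G, a * (b * c⁻¹) * (a * c⁻¹)⁻¹ = a * b * a⁻¹ from fun a b c => by group,
    h.eqv _ y w ⟨k.yy, k.ww, m.swap k.wy⟩, m.lin_tE k1, m.lin_tE k1, k.uy, k.uw, m.swap k.wx]
  simp only [zero_smul, add_zero]
  exact h.add1 w y _ ⟨⟨k.ww, k.yy, k.wy⟩, by simp [k.uu], by simp [m.swap k.uw], by simp [m.swap k.uy]⟩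

theorem li {z : M} (u0 : u ≠ 0) (h1 : B z u = 0) (h2 : B z w ≠ 0) : LinearIndependent E ![u, w] :=
  (LinearIndependent.pair_iff' u0).2 fun a e => h2 (by rw [← e, map_smul, h1, smul_zero])

theorem cc (h : HA φ t A) (k : Gn B u w x y) : Commute (A u x) (A w y) := by
  have m := h.toMo
  by_cases u0 : u = 0
  · rw [u0, zero1 h k.xx]; exact Commute.one_left _
  by_cases w0 : w = 0
  · rw [w0, zero1 h k.yy]; exact Commute.one_right _
  by_cases l : LinearIndependent E ![u, w]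
  · exact h.c2 u w x y ⟨k.toI3, k.yy, k.uy, k.wy, l⟩
  by_cases e : B x y = 0
  · exact h.c0 u x w y ⟨⟨k.uu, k.xx, k.ux⟩, k.ww, k.uw, m.swap k.wx⟩
      ⟨⟨k.uu, k.xx, k.ux⟩, k.yy, k.uy, e⟩ k.wy
  obtain ⟨c, rfl⟩ : ∃ c : E, c • u = w := by
    by_contra n
    exact l ((LinearIndependent.pair_iff' u0).2 fun a e => n ⟨a, e⟩)
  obtain ⟨a, b, aa, bb, ab, o⟩ := m.hyp_orth k.xx k.yy e k.uu (m.swap k.ux) (m.swap k.uy)
  obtain ⟨xa, xb⟩ := o x (by simp)
  obtain ⟨ya, yb⟩ := o y (by simp)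
  obtain ⟨ua, ub⟩ := o u (by simp)
  have ba : B b a = 1 := by rw [← m.toHerm.conj a b, ab, map_one]
  have r := rr h (u := u) (w := x) (x := b) (y := a) ⟨⟨⟨k.uu, k.xx, k.ux⟩, bb, ub, xb⟩, aa, ua, xa⟩
    (flip h ⟨k.uu, bb, ub⟩ ⟨k.xx, aa, xa⟩ (h.c2 u x b a ⟨⟨⟨k.uu, k.xx, k.ux⟩, bb, ub, xb⟩, aa, ua, xa,
      li u0 (m.swap k.uy) fun n => e (m.swap n)⟩))
  rw [ba, one_smul, ← inv_mul_eq_iff_eq_mul] at r
  have c1 : Commute (A u b) (A (c • u) y) := h.c0 u b _ y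
    ⟨⟨k.uu, bb, ub⟩, k.ww, k.uw, by simp [m.swap ub]⟩ ⟨⟨k.uu, bb, ub⟩, k.yy, k.uy, m.swap yb⟩ k.wy
  have c2 : Commute (A a x) (A (c • u) y) := (h.c2 (c • u) a y x
    ⟨⟨⟨k.ww, aa, by simp [ua]⟩, k.yy, k.wy, m.swap ya⟩, k.xx, k.wx, m.swap xa,
      li w0 (z := b) (by simp [m.swap ub]) (ba ▸ one_ne_zero)⟩).symm
  rw [← r]
  exact c2.inv_left.mul_left ((c1.mul_left c2).mul_left c1.inv_left)

theorem cc' (h : HA φ t A) (k : Gn B u w x y) : Commute (A x u) (A y w) :=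
  flip h ⟨k.uu, k.xx, k.ux⟩ ⟨k.ww, k.yy, k.wy⟩ (cc h k)

theorem stA (h : HA φ t A) {ι : Type*} [DecidableEq ι] (v : ι → M) (s : ι → ι) (ss : ∀ a, s (s a) = a)
    (ns : ∀ a, s a ≠ a) (hv : ∀ a b, B (v a) (v b) = if b = s a then 1 else 0)
    (hp : ∀ a b, ∃ p, p ≠ a ∧ p ≠ s a ∧ p ≠ b ∧ p ≠ s b) :
    Chev.StA fun (i j : ι) (c : E) => A (c • v i) (v (s j)) := by
  have m := h.toMo
  have o : ∀ a b, b ≠ s a → B (v a) (v b) = 0 := fun a b n => by rw [hv, if_neg n]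
  have o0 : ∀ a, B (v a) (v a) = 0 := fun a => o a a (ns a).symm
  obtain ⟨X, hX⟩ : ∃ X : ι → ι → E → G, ∀ i j c, X i j c = A (c • v i) (v (s j)) := ⟨_, fun _ _ _ => rfl⟩
  have i2 : ∀ a b (c : E), a ≠ b → I2 B (c • v a) (v (s b)) := fun a b c n =>
    ⟨by simp [o0], o0 _, by simp [o a (s b) (by grind)]⟩
  have cu : ∀ a b c d, a ≠ b → c ≠ d → b ≠ c → a ≠ d → c ≠ s a → ∀ p q,
      Commute (X a b p) (X c d q) := fun a b c d h1 h2 h3 h4 h5 p q => by
    rw [hX, hX]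
    exact cc h ⟨⟨⟨by simp [o0], by simp [o0], by simp [o a c h5]⟩, o0 _, (i2 a b p h1).uw,
      (i2 c b q h3.symm).uw⟩, o0 _, (i2 a d p h4).uw, (i2 c d q h2).uw⟩
  have cw : ∀ a b c d, a ≠ b → c ≠ d → b ≠ c → a ≠ d → d ≠ s b → ∀ p q,
      Commute (X a b p) (X c d q) := fun a b c d h1 h2 h3 h4 h5 p q => by
    rw [hX, hX]
    exact cc' h ⟨⟨⟨o0 _, o0 _, o _ _ (by grind)⟩, by simp [o0], m.swap (i2 a b p h1).uw,
      m.swap (i2 a d p h4).uw⟩, by simp [o0], m.swap (i2 c b q h3.symm).uw, m.swap (i2 c d q h2).uw⟩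
  have r0 : ∀ a b c, a ≠ b → b ≠ c → a ≠ c → b ≠ s a → c ≠ s b → ∀ p q,
      X a b p * X b c q * (X a b p)⁻¹ = X b c q * X a c (p * q) := fun a b c h1 h2 h3 h4 h5 p q => by
    have k : Gn B (p • v a) (v (s c)) (v (s b)) (q • v b) :=
      ⟨⟨i2 a c p h3, o0 _, (i2 a b p h1).uw, o _ _ (by grind)⟩, by simp [o0], by simp [o a b h4],
        m.swap (i2 b c q h2).uw⟩
    rw [hX, hX, hX, rr h k (cc' h k), map_smul, hv, if_pos (ss b).symm, smul_eq_mul, mul_one,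
      smul_smul, mul_comm]
  have com : ∀ a b c d, a ≠ b → c ≠ d → b ≠ c → a ≠ d → ∀ p q,
      Commute (X a b p) (X c d q) := fun a b c d h1 h2 h3 h4 p q => by
    by_cases e : c = s a
    · by_cases e' : d = s b
      · obtain ⟨z, z1, z2, z3, z4⟩ := hp a b
        have r := r0 a z b z1.symm z3 h1 z2 (by grind) p 1
        have c1 := cw a z c d z1.symm h2 (e ▸ z2) h4 (by grind) p q
        have c2 := cu z b c d z3 h2 h3 (e' ▸ z4) (by grind) 1 q
        rw [mul_one, ← inv_mul_eq_iff_eq_mul] at r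
        rw [← r]
        exact c2.inv_left.mul_left ((c1.mul_left c2).mul_left c1.inv_left)
      · exact cw a b c d h1 h2 h3 h4 e' p q
    · exact cu a b c d h1 h2 h3 h4 e p q
  have r1 : ∀ a c, s a ≠ c → a ≠ c → ∀ p q,
      X a (s a) p * X (s a) c q * (X a (s a) p)⁻¹ = X (s a) c q * X a c (p * q) :=
    fun a c h2 h3 p q => by
    obtain ⟨z, z1, z2, z3, z4⟩ := hp a c
    have r := r0 a z (s a) z1.symm z2 (ns a).symm z2 (by grind) p 1
    have e1 := (com a z (s a) c z1.symm h2 z2 h3 p q).eq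
    have e2 := r0 z (s a) c z2 h2 z3 (by grind) (by grind) 1 q
    have e3 := r0 a z c z1.symm z3 h3 z2 (by grind) p q
    have e4 := (com z (s a) a c z2 h3 (ns a) z3 1 (p * q)).eq
    rw [mul_one, ← inv_mul_eq_iff_eq_mul] at r
    rw [one_mul] at e2
    rw [← r]
    generalize X a z p = α at *
    generalize X z (s a) 1 = β at *
    generalize X (s a) c q = χ at *
    calc _ = β⁻¹ * (α * (β * (α⁻¹ * (χ * α)) * β⁻¹) * α⁻¹) * β := by group
      _ = β⁻¹ * (α * χ * α⁻¹ * (α * X z c q * α⁻¹)) * β := by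
        rw [← e1, inv_mul_cancel_left, e2]; group
      _ = β⁻¹ * (χ * X z c q) * (X a c (p * q) * β) := by
        rw [e3, e1]; group
      _ = _ := by rw [← e2, ← e4]; group
  have tw : ∀ a b p, a ≠ b → t * X a b p * t⁻¹ = X (s b) (s a) (σ p) := fun a b p n => by
    rw [hX, hX, h.act _ _ (i2 a b p n), ss, h.sw _ _ _ ⟨o0 _, o0 _, o _ _ (by grind)⟩, m.ss]
  have r : ∀ a b c, a ≠ b → b ≠ c → a ≠ c → ∀ p q,
      X a b p * X b c q * (X a b p)⁻¹ = X b c q * X a c (p * q) := fun a b c h1 h2 h3 p q => by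
    by_cases e : b = s a
    · subst e; exact r1 a c h2 h3 p q
    by_cases e' : c = s b
    · subst e'
      refine (MulAut.conj t).injective ?_
      simp only [map_mul, map_inv, MulAut.conj_apply, tw _ _ _ h1, tw _ _ _ h2, tw _ _ _ h3, ss]
      have e1 := r1 b (s a) (by grind) e (σ q) (σ p)
      have e2 := (com b (s b) b (s a) h2 e (ns b) e (σ q) (σ q * σ p)).eq
      have e3 : X (s b) (s a) (σ p) * X (s b) (s a) (σ p) = 1 := by
        rw [hX]; exact sq h (i2 _ _ _ (by grind))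
      rw [mul_comm (σ p), e2, ← inv_mul_eq_iff_eq_mul.2 e1, inv_eq_of_mul_eq_one_right e3]
      group
    · exact r0 a b c h1 h2 h3 e e' p q
  simp only [← hX]
  refine ⟨fun a b n p q => ?_, fun a b c h1 h2 h3 p q => ?_, com⟩
  · rw [hX, hX, hX, add_smul]
    exact (h.add1 _ _ _ ⟨(i2 a b p n).symm m, by simp [o0], m.swap (i2 a b q n).uw,
      by simp [o0]⟩).symm
  · rw [(com a c b c h3 h2 h2.symm h3 _ _).eq, ← r a b c h1 h2 h3, inv_mul_cancel_right]

end E1b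

theorem HA.stA (h : HA φ t A) {e f : Fin 3 → M} (k : Fr3 B e f) :
    Chev.StA fun (i j : Fin 3 ⊕ Fin 3) (s : E) =>
      A (s • Sum.elim e f i) (Sum.elim e f j.swap) :=
  E1b.stA h (Sum.elim e f) Sum.swap Sum.swap_swap (by decide) (by
    rintro (a | a) (b | b)
    · simp [k.ee]
    · simp [k.ef, eq_comm]
    · simp [k.fe h.toMo, eq_comm]
    · simp [k.ff]) (by decide)

end Cfsg.Lib.UM6
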