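import Cfsg.Agent.UM6.GN
import Cfsg.Agent.UM6.E1b
import Cfsg.Agent.Known.PresStA

/-!
# Standard subgroups of type `U_m(2ⁿ)`: the graph group over a six-dimensional subspace
-/

set_option autoImplicit false
set_option linter.unusedSectionVars false
set_option linter.unusedVariables false

namespace Cfsg.Lib.UM6

open Subgroup Module Cfsg.Lib.Trans Cfsg.Lib.Gold Cfsg.Lib.Class.Form Cfsg.Lib.Class.FAut
open scoped commutatorElement

variable {G E M : Type*} [Group G] [Finite G] [Field E] [Finite E] [AddCommGroup M] [Module E M]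
  [FiniteDimensional E M] {σ : E →+* E} {B : M →ₛₗ[σ] M →ₗ[E] E} {φ : sIsom B →* G} {t : G}
  {A : M → M → G} {u w : M}

namespace E1c

/-- The graph of `φ`. -/
noncomputable def pr (φ : sIsom B →* G) : sIsom B →* (M ≃ₗ[E] M) × G :=
  ((isomGroup B).subtype.comp (sIsom B).subtype).prod φ

theorem pr_eq_1' : type_of% @pr.eq_1 := @pr.eq_1

theorem pr_apply (g : sIsom B) : pr φ g = (lin g, φ g) := rfl

theorem tv_sw (m : Mo B) (e : B w u = 0) (a : E) : tv B (a • u) w = tv B u (σ a • w) :=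
  LinearEquiv.ext fun x => by
    rw [tv_apply (by simp [e]), tv_apply (by simp [e])]
    simp [m.ss, smul_smul, mul_comm]

theorem sw (h : HA φ t A) (k : I2 B u w) (a : E) :
    (tv B (a • u) w, A (a • u) w) = (tv B u (σ a • w), A u (σ a • w)) := by
  rw [tv_sw h.toMo (h.toMo.swap k.uw), h.sw a u w k]

theorem conj (h : HA φ t A) (k : I2 B u w) (g : sIsom B) :
    pr φ g * (tv B u w, A u w) * (pr φ g)⁻¹ = (tv B (lin g u) (lin g w), A (lin g u) (lin g w)) := by
  refine Prod.ext (mul_inv_eq_iff_eq_mul.2 (LinearEquiv.ext fun x => ?_)) (h.eqv g u w k)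
  change lin g (tv B u w x) = tv B _ _ (lin g x)
  rw [tv_apply (h.toMo.swap k.uw), tv_apply (h.toMo.swap (k.lin g).uw), map_add, map_smul, lin_isom]

theorem zero (h : HA φ t A) (hu : B u u = 0) : (tv B u 0, A u 0) = 1 := by
  refine Prod.ext (LinearEquiv.ext fun x => ?_) ?_
  · change tv B u 0 x = x
    rw [tv_apply (by simp)]; simp
  · have := h.sw 0 u 0 ⟨hu, by simp, by simp⟩
    rw [zero_smul, smul_zero, E1b.zero1 h (by simp)] at this
    exact this.symm

theorem pr_tE (h : HA φ t A) (k : I2 B u w) :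
    pr φ (tE B u w) = (tv B u w, A u w) * (tv B w u, A w u) := by
  refine Prod.ext (LinearEquiv.ext fun x => ?_) (h.resE u w k)
  change lin (tE B u w) x = tv B u w (tv B w u x)
  rw [h.toMo.lin_tE k, tv_apply (h.toMo.swap k.uw), tv_apply k.uw]
  simp [k.ww]

theorem pr_tT (h : HA φ t A) (hu : B u u = 0) : pr φ (tT B u 1) = (tv B u u, A u u) := by
  refine Prod.ext (LinearEquiv.ext fun x => ?_) ((h.resT u 1 hu σ.map_one).trans (by rw [one_smul]))
  change lin (tT B u 1) x = tv B u u x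
  rw [h.toMo.lin_tT hu σ.map_one, tv_apply hu, one_mul]

end E1c

open E1c in
theorem HA.graph (h : HA φ t A) {N : Submodule E M} (hN : NondegOn B N) (h6 : finrank E N = 6)
    {g : G} (hg : ((1 : M ≃ₗ[E] M), g) ∈ Dl B A N) : g = 1 := by
  have m := h.toMo
  obtain ⟨e, f, k, rfl⟩ := m.fr_of hN h6
  obtain ⟨ψ, hψ⟩ := Known.stA_exists_hom (h.stA k) (by simp)
  have hv : ∀ a b, B (Sum.elim e f a) (Sum.elim e f b) = if b = a.swap then 1 else 0 := by
    rintro (a | a) (b | b)
    · simp [k.ee]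
    · simp [k.ef, eq_comm]
    · simp [k.fe m, eq_comm]
    · simp [k.ff]
  obtain ⟨κ, h1, h2, -⟩ := m.kap (b := Sum.elim e f) (d := fun j => Sum.elim e f j.swap)
    fun i j => by rw [hv, Sum.swap_swap]
  have gen : ∀ i j (s : E), i ≠ j → (tv B (s • Sum.elim e f i) (Sum.elim e f j.swap),
      A (s • Sum.elim e f i) (Sum.elim e f j.swap)) ∈ (κ.prod ψ).range := fun i j s n =>
    ⟨Chev.slE i j s, Prod.ext (h2 i j s n) (hψ i j s n)⟩
  have o0 : ∀ a, B (Sum.elim e f a) (Sum.elim e f a) = 0 := fun a => by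
    rw [hv, if_neg (by revert a; decide)]
  have le : Dl B A (Submodule.span E (Set.range (Sum.elim e f))) ≤ (κ.prod ψ).range := by
    refine (closure_le _).2 ?_
    rintro _ ⟨u, hu, w, hw, k', rfl⟩
    by_cases w0 : w = 0
    · rw [w0, zero h k'.uu]; exact one_mem _
    obtain ⟨l, hl, a, b, rfl, h3⟩ := k.genN m (H := (κ.prod ψ).range.comap (pr φ)) (fun i j s n => by
      have k2 : I2 B (Sum.elim e f i) (Sum.elim e f j.swap) :=
        ⟨o0 _, o0 _, by rw [hv, if_neg (by revert n i j; decide)]⟩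
      have k3 := k2.smul s 1
      rw [one_smul] at k3
      have := gen j.swap i.swap (σ s) fun e => n (Sum.swap_leftInverse.injective e).symm
      rw [Sum.swap_swap, E1c.sw h (k2.symm m), m.ss] at this
      rw [mem_comap, pr_tE h k3]
      exact mul_mem (gen i j s n) this) hu hw w0 k'
    have c : ∀ i : Fin 3, (tv B (lin l (a • e i)) (lin l (b • e 0)),
        A (lin l (a • e i)) (lin l (b • e 0))) ∈ (κ.prod ψ).range := fun i => by
      have k2 : I2 B (a • e i) (e 0) := ⟨by simp [k.ee], k.ee _ _, by simp [k.ee]⟩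
      have := gen (.inl i) (.inr 0) (σ b * a) (by simp)
      rw [mul_smul] at this
      erw [E1c.sw h k2, m.ss] at this
      rw [← conj h ⟨k2.uu, by simp [k.ee], by simp [k.ee]⟩]
      exact mul_mem (mul_mem hl this) (inv_mem hl)
    rcases h3 with rfl | rfl
    exacts [c 1, c 0]
  obtain ⟨s, hs⟩ := le hg
  obtain rfl : s = 1 := h1 ((congrArg Prod.fst hs).trans κ.map_one.symm)
  exact (congrArg Prod.snd hs).symm.trans ψ.map_one

end Cfsg.Lib.UM6
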