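import Cfsg.Agent.UM6.KIT
import Cfsg.Agent.UM6.AP2

/-!
# Standard subgroups of type `U_m(2ⁿ)`: the normaliser of the image of a parabolic subgroup
-/

set_option autoImplicit false
set_option linter.unusedSectionVars false

namespace Cfsg.Lib.UM6

open Subgroup Module Cfsg.Lib.Trans Cfsg.Lib.Gold Cfsg.Lib.Class.Form Cfsg.Lib.Class.FAut
open Cfsg.Lib.SG2 (Uq Top Pp)
open Cfsg.Lib.Comp (Tw)
open scoped commutatorElement

variable {G E M : Type*} [Group G] [Finite G] [Field E] [Finite E] [AddCommGroup M] [Module E M]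
  [FiniteDimensional E M] {σ : E →+* E} {B : M →ₛₗ[σ] M →ₗ[E] E} {φ φ' : sIsom B →* G} {t : G}
  {X : Subgroup G} {y z : sIsom B →* G} {P : Subgroup G} {U : Subgroup (sIsom B)}
  {W : Submodule E M} {u : M} {γ : (E ≃+* E) →* MulAut (sIsom B)}

theorem Mod.autP (h : Mod φ) {u : M} (hu : B u u = 0) (u0 : u ≠ 0) {g : G}
    (hg : g ∈ Ns ((Fx B (E ∙ u)).map φ)) :
    ∃ α : MulAut (sIsom B), mp α (Fx B (E ∙ u)) = Fx B (E ∙ u) ∧
      ∀ p ∈ Fx B (E ∙ u), g * φ p * g⁻¹ = φ (α p) := by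
  have inj : ∀ a ∈ Fx B (E ∙ u), ∀ b ∈ Fx B (E ∙ u), φ a = φ b → a = b := fun a ha b hb e => by
    have : a * b⁻¹ ∈ Fx B (E ∙ u) ⊓ center (sIsom B) := mem_inf.2 ⟨mul_mem ha (inv_mem hb),
      h.ker (by rw [MonoidHom.mem_ker, map_mul, map_inv, e, mul_inv_cancel])⟩
    rwa [h.toMo.Fx_center u0, mem_bot, mul_inv_eq_one] at this
  have ex : ∀ p : Fx B (E ∙ u), ∃ p' : Fx B (E ∙ u), φ p' = g * φ p * g⁻¹ := fun p => by
    obtain ⟨a, ha, e⟩ := mem_normalizer_conj hg (mem_map_of_mem φ p.2)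
    exact ⟨⟨a, ha⟩, e⟩
  choose f hf using ex
  let F : Fx B (E ∙ u) →* Fx B (E ∙ u) := MonoidHom.mk' f fun a b =>
    Subtype.ext (inj _ (f _).2 _ (f a * f b).2 (by
      rw [hf, coe_mul, coe_mul, map_mul, map_mul, hf, hf, conj_mul]))
  have hi : Function.Injective F := fun a b e => Subtype.ext (inj _ a.2 _ b.2 (by
    have := (hf a).symm.trans ((congrArg (fun x : Fx B (E ∙ u) => φ x) e).trans (hf b))
    simpa using this))
  obtain ⟨α, hα⟩ := h.toMo.autP hu u0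
    (MulEquiv.ofBijective F (Finite.injective_iff_bijective.1 hi))
  refine ⟨α, eq_of_le_of_card_ge ?_ (card_map_of_injective α.injective).ge, fun p hp => ?_⟩
  · rintro _ ⟨p, hp, rfl⟩
    exact (hα ⟨p, hp⟩).symm ▸ (f ⟨p, hp⟩).2
  · exact (hf ⟨p, hp⟩).symm.trans (congrArg φ (hα ⟨p, hp⟩).symm)

theorem Mod.Ns_Q (h : Mod φ) {u : M} (hu : B u u = 0) (u0 : u ≠ 0) :
    Ns ((Fx B (E ∙ u)).map φ) ≤ Ns ((QW B (E ∙ u)).map φ) := fun g hg => by
  obtain ⟨α, e, k⟩ := h.autP hu u0 hg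
  have k1 : mp α (QW B (E ∙ u)) ≤ QW B (E ∙ u) :=
    h.toMo.O2_Fx hu u0 ((h.toMo.two_QW (ti1 hu)).map _) ((map_mono QW_le_Fx).trans e.le) (by
      rw [← e]
      rintro _ ⟨p, hp, rfl⟩
      exact mem_Ns_iff.2 (by rw [← map_cj, mem_Ns_iff.1 (St_le_Ns (Fx_le_St hp)).1.2]))
  refine mem_normalizer_of_cj_le (cj_le_iff.2 ?_)
  rintro _ ⟨p, hp, rfl⟩
  rw [k p (QW_le_Fx hp)]
  exact mem_map_of_mem _ (k1 (mem_map_of_mem _ hp))

end Cfsg.Lib.UM6
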