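import Cfsg.Agent.UM6.SYLA

/-!
# Standard subgroups of type `U_m(2ⁿ)`: subgroups of `V_W` missing the root group
-/

set_option autoImplicit false
set_option linter.unusedSectionVars false

namespace Cfsg.Lib.UM6

open Subgroup Module Cfsg.Lib.Trans Cfsg.Lib.Gold Cfsg.Lib.Class.Form Cfsg.Lib.Class.FAut
open scoped commutatorElement
open SYL

theorem NRV.idx2 {G : Type*} [Group G] [Finite G] {U U' : Subgroup G} (h1 : U' ≤ U)
    (h2 : Nat.card U ≤ 2 * Nat.card U') {a b : G} (ha : a ∈ U) (hb : b ∈ U) :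
    a ∈ U' ∨ b ∈ U' ∨ a * b ∈ U' := by
  rw [← card_mul_relIndex h1, mul_comm 2] at h2
  have h3 := Nat.le_of_mul_le_mul_left h2 Nat.card_pos
  have h4 : U'.relIndex U ≠ 0 := index_ne_zero_of_finite
  by_cases h5 : U'.relIndex U = 1
  · exact Or.inl (relIndex_eq_one.1 h5 ha)
  have := mul_mem_iff_of_index_two (H := U'.subgroupOf U) (by change U'.relIndex U = 2; omega)
    (a := ⟨a, ha⟩) (b := ⟨b, hb⟩)
  simp only [mem_subgroupOf, coe_mul] at this
  tauto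

variable {E M : Type*} [Field E] [Finite E] [AddCommGroup M] [Module E M] [FiniteDimensional E M]
  {σ : E →+* E} {B : M →ₛₗ[σ] M →ₗ[E] E}
  {U : Subgroup (sIsom B)} {W : Submodule E M} {u : M} {γ : (E ≃+* E) →* MulAut (sIsom B)}

theorem Fr.nrv (h : Mo B) (k : Fr B U W u γ) {U' N : Subgroup (sIsom B)} (h1 : U' ≤ U)
    (h2 : Nat.card U ≤ 2 * Nat.card U') (h3 : N ≤ VW B W) (h4 : U' ≤ Ns N) (h5 : N ⊓ RR B u = ⊥) :
    Nat.card N ≤ 4 := by
  have hu := k.iso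
  have hR : ∀ g ∈ N, g ∈ RR B u → g = 1 := fun g a b => mem_bot.1 (h5 ▸ mem_inf.2 ⟨a, b⟩)
  have hN : ∀ g ∈ N, lin g u = u := fun g hg => (h.VW_le_QW k.mx.ti (h3 hg)).1 u k.mem
  obtain ⟨Y, hY⟩ : ∃ Y : M → Prop, ∀ w, Y w ↔ ∃ b g, b + σ b = B w w ∧ IsE B 1 u w b g ∧ g ∈ U' :=
    ⟨_, fun _ => Iff.rfl⟩
  have hY3 : ∀ w w', B u w = 0 → B u w' = 0 → Y w ∨ Y w' ∨ Y (w + w') := fun w w' hw hw' => by
    obtain ⟨b, g, hb, hg, hQ⟩ := exists_E h hu hw
    obtain ⟨b', g', hb', hg', hQ'⟩ := exists_E h hu hw'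
    have e := hg.mul hu (h.swap hw) hw' hg'
    refine (NRV.idx2 h1 h2 (k.Q_le h hQ) (k.Q_le h hQ')).imp (fun a => (hY _).2 ⟨_, _, hb, hg, a⟩)
      (Or.imp (fun a => (hY _).2 ⟨_, _, hb', hg', a⟩) fun a => (hY _).2 ⟨_, _, ?_, e, a⟩)
    simpa using h.cls.trace_of_isE k.ne hu (by simp [hw, hw']) e
  have hχ : ∀ n ∈ N, ∀ x b, B u x = 0 → IsE B 1 u x b n → ∀ w, B u w = 0 → Y w →
      B x w + σ (B x w) = 0 := fun n hn x b hx e w hw hw' => by
    obtain ⟨b', g, hb', hg, hg'⟩ := (hY _).1 hw'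
    have h6 : σ (B x w + σ (B x w)) = B x w + σ (B x w) := by rw [map_add, h.ss, add_comm]
    have e1 := comm_EE h hu hw hx hb' hg e
    exact by_contra fun c0 => h.tT_ne hu k.ne h6 c0 (hR _ (e1 ▸ comm_mem hn (h4 hg'))
      ((h.mem_RR hu).2 ⟨_, h6, rfl⟩))
  have hon : ∀ x, x ∉ E ∙ u → ∀ c, σ c = c → ∃ w, B u w = 0 ∧ B x w + σ (B x w) = c :=
    fun x hx c hc => by
      obtain ⟨y, a1, a2⟩ := h.cls.exists_orth_eq_one hx
      obtain ⟨l, hl⟩ := h.exists_tr hc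
      exact ⟨l • y, by simp [a1], by simp [a2, hl]⟩
  have hA : ∀ n ∈ N, ∀ n' ∈ N, n ∈ QW B (E ∙ u) → n' ∈ QW B (E ∙ u) → n ≠ 1 → n' ≠ 1 → n = n' := by
    have h6 : ∀ n ∈ N, n ≠ 1 → ∀ x b, B u x = 0 → IsE B 1 u x b n → ∀ w, B u w = 0 → ¬ Y w →
        B x w + σ (B x w) = 1 := fun n hn n1 x b hx e w hw hw' => by
      obtain ⟨w', a1, a2⟩ := hon x (fun hx' => n1 (hR n hn (isE_RR e hx'))) 1 (map_one σ)
      rcases hY3 w w' hw a1 with a | a | a
      · exact absurd a hw'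
      · exact absurd ((hχ n hn x b hx e w' a1 a).symm.trans a2) zero_ne_one
      · have := hχ n hn x b hx e _ (by simp [hw, a1]) a
        simp only [map_add] at this
        linear_combination this - a2 - h.two
    intro n hn n' hn' hQ hQ' n1 n1'
    obtain ⟨x, b, hx, -, e⟩ := Q_isE h hu k.ne hQ
    obtain ⟨x', b', hx', -, e'⟩ := Q_isE h hu k.ne hQ'
    have h7 : x + x' ∈ E ∙ u := by_contra fun hc => by
      obtain ⟨w, a1, a2⟩ := hon _ hc 1 (map_one σ)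
      simp only [map_add, LinearMap.add_apply] at a2
      by_cases a : Y w
      · exact one_ne_zero (by
          linear_combination hχ n hn x b hx e w a1 a + hχ n' hn' x' b' hx' e' w a1 a - a2)
      · exact one_ne_zero (by
          linear_combination h6 n hn n1 x b hx e w a1 a + h6 n' hn' n1' x' b' hx' e' w a1 a - a2 +
            h.two)
    have h8 := hR _ (mul_mem hn hn') (isE_RR (e.mul hu (h.swap hx) hx' e') h7)
    exact mul_right_cancel (h8.trans (h.sq_VW k.mx.ti (h3 hn')).symm)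
  have hs : ∀ w, B u w = 0 → ∃ s : E, s ≠ 0 ∧ Y (s • w) := fun w hw => by
    obtain ⟨s, hs⟩ := K2.exists_nf h
    rcases hY3 w (s • w) hw (by simp [hw]) with a | a | a
    · exact ⟨1, one_ne_zero, by rwa [one_smul]⟩
    · exact ⟨s, fun e => hs (by simp [e]), a⟩
    · refine ⟨1 + s, fun e => hs ?_, by rwa [add_smul, one_smul]⟩
      rw [eq_neg_of_add_eq_zero_right e]
      simp
  have hν : ∀ n ∈ N, ∀ w, B u w = 0 → ∃ s : E, s ≠ 0 ∧ ∃ g ∈ N, ∃ b,
      IsE B 1 u (s • (lin n w + w)) b g ∧ B u (s • (lin n w + w)) = 0 := fun n hn w hw => by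
    obtain ⟨s, s0, a⟩ := hs w hw
    obtain ⟨b, g, hb, hg, hg'⟩ := (hY _).1 a
    have e := comm_E h hu (by simp [hw]) hb hg (hN n hn)
    rw [map_smul, ← smul_add] at e
    refine ⟨s, s0, _, comm_mem hn (h4 hg'), _, e, ?_⟩
    rw [map_smul, map_add, hw, add_zero, ← hN n hn, lin_isom, hw, smul_zero]
  have hB : ∀ n ∈ N, ∀ n' ∈ N, n ∉ QW B (E ∙ u) → n' ∉ QW B (E ∙ u) → n * n' ∈ QW B (E ∙ u) := by
    intro n hn n' hn' hQ hQ'
    obtain ⟨w, hw, hw'⟩ := not_Q h (mem_Fx1.2 (hN n hn)) hQ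
    obtain ⟨s, s0, g, hg, b, e, hx⟩ := hν n hn w hw
    replace hw' : s • (lin n w + w) ∉ E ∙ u := by rwa [Submodule.smul_mem_iff _ s0]
    generalize s • (lin n w + w) = x at e hx hw'
    have g1 : g ≠ 1 := fun g1 => hw' (RR_isE h hu k.ne e (g1 ▸ one_mem _))
    obtain ⟨y, a1, a2⟩ := h.cls.exists_orth_eq_one hw'
    have h6 : ∀ n ∈ N, ∀ w, B u w = 0 → ∃ l m : E, lin n w - w = l • x + m • u := fun n hn w hw => by
      obtain ⟨s, s0, g', hg', b', e', hx'⟩ := hν n hn w hw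
      rw [h.vsub, ← inv_smul_smul₀ s0 (lin n w + w)]
      by_cases g1' : g' = 1
      · obtain ⟨m, hm⟩ := Submodule.mem_span_singleton.1 (RR_isE h hu k.ne e' (g1' ▸ one_mem _))
        exact ⟨0, s⁻¹ * m, by rw [← hm]; module⟩
      · rw [hA _ hg' _ hg (h.isE_mem_Q hu hx' e') (h.isE_mem_Q hu hx e) g1' g1] at e'
        obtain ⟨m, hm⟩ := Submodule.mem_span_singleton.1 (isE_sub h hu k.ne e' e)
        exact ⟨s⁻¹, s⁻¹ * m, by linear_combination (norm := module) (-s⁻¹) • hm⟩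
    have h7 : ∀ n ∈ N, n ∉ QW B (E ∙ u) → ∀ w, B u w = 0 → ∃ m : E,
        lin n w - w = B x w • x + m • u := fun n hn hQ => by
      obtain ⟨c, m₀, e0⟩ := h6 n hn y a1
      have h8 : ∀ w, B u w = 0 → ∀ l m : E, lin n w - w = l • x + m • u → l = σ c * B x w :=
        fun w hw l m e1 => by
          have := K2.sym h k.mx.ti (h3 hn) y w
          rw [e0, e1] at this
          simpa [hw, h.swap a1, h.cls.swap_one a2] using this.symm
      have hc : σ c = c := by simpa [a2] using (h8 y a1 c m₀ e0).symm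
      have c0 : c ≠ 0 := fun c0 => hQ ⟨mem_Fx1.2 (hN n hn), fun w hw => by
        obtain ⟨l, m, e1⟩ := h6 n hn w (mem_orth_span_singleton.1 hw)
        rw [e1, h8 w (mem_orth_span_singleton.1 hw) l m e1, c0]
        simpa using Submodule.smul_mem _ _ (Submodule.mem_span_singleton_self u)⟩
      have c1 : c = 1 := by
        obtain ⟨p, p1, p2⟩ := hon x hw' c hc
        obtain ⟨q, q1, q2⟩ := hon x hw' 1 (map_one σ)
        rcases hY3 p q p1 q1 with a | a | a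
        · exact absurd (p2.symm.trans (hχ g hg x b hx e p p1 a)) c0
        · exact absurd (q2.symm.trans (hχ g hg x b hx e q q1 a)) one_ne_zero
        · have := hχ g hg x b hx e _ (by simp [p1, q1]) a
          simp only [map_add] at this
          linear_combination this - p2 - q2 - h.two
      intro w hw
      obtain ⟨l, m, e1⟩ := h6 n hn w hw
      exact ⟨m, by rw [e1, h8 w hw l m e1, c1, map_one, one_mul]⟩
    refine ⟨mem_Fx1.2 (hN _ (mul_mem hn hn')), fun w hw => ?_⟩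
    obtain ⟨m, e1⟩ := h7 n hn hQ w (mem_orth_span_singleton.1 hw)
    obtain ⟨m', e2⟩ := h7 n' hn' hQ' w (mem_orth_span_singleton.1 hw)
    have e3 := (h.VW_le_QW k.mx.ti (h3 hn)).1 _ (mem_VW.1 (h3 hn') w)
    rw [map_sub] at e3
    exact Submodule.mem_span_singleton.2 ⟨m + m', by
      rw [lin_mul]
      linear_combination (norm := module) -e1 - e2 - e3 - h.vadd_self (B x w • x)⟩
  obtain ⟨n, hn, hn'⟩ : ∃ n ∈ N, (n ∈ QW B (E ∙ u) → n = 1) ∧
      ∀ g ∈ N, g ∉ QW B (E ∙ u) → n ∉ QW B (E ∙ u) := by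
    by_cases a : ∃ n ∈ N, n ∉ QW B (E ∙ u)
    · obtain ⟨n, hn, a⟩ := a
      exact ⟨n, hn, fun b => absurd b a, fun _ _ _ => a⟩
    · exact ⟨1, one_mem _, fun _ => rfl, fun g hg b => absurd ⟨g, hg, b⟩ a⟩
  refine (Nat.card_le_card_of_injective (fun g : N => (g.1 ∈ QW B (E ∙ u), g.1 = 1 ∨ g.1 = n))
    fun g g' e => Subtype.ext ?_).trans (by simp)
  obtain ⟨e1, e2⟩ := Prod.mk.inj e
  have n2 := h.sq_VW k.mx.ti (h3 hn)
  by_cases a : g.1 ∈ QW B (E ∙ u)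
  · have a' : g'.1 ∈ QW B (E ∙ u) := e1 ▸ a
    have h6 : ∀ g ∈ QW B (E ∙ u), g = 1 ∨ g = n ↔ g = 1 := fun g a =>
      or_iff_left_of_imp fun e => e.trans (hn'.1 (e ▸ a))
    rw [h6 _ a, h6 _ a'] at e2
    by_cases b : g.1 = 1
    · exact b.trans (e2 ▸ b).symm
    · exact hA _ g.2 _ g'.2 a a' b fun c => b (e2 ▸ c)
  · have a' : g'.1 ∉ QW B (E ∙ u) := e1 ▸ a
    have h6 : ∀ g ∉ QW B (E ∙ u), g = 1 ∨ g = n ↔ g = n := fun g a =>
      or_iff_right fun e => a (e ▸ one_mem _)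
    rw [h6 _ a, h6 _ a'] at e2
    by_cases b : g.1 = n
    · exact b.trans (e2 ▸ b).symm
    · have h7 := hn'.2 _ g.2 a
      exact mul_left_cancel (hA _ (mul_mem hn g.2) _ (mul_mem hn g'.2) (hB _ hn _ g.2 h7 a)
        (hB _ hn _ g'.2 h7 a') (fun e => b (mul_left_cancel (e.trans n2.symm)))
        fun e => (e2 ▸ b : ¬ g'.1 = n) (mul_left_cancel (e.trans n2.symm)))

end Cfsg.Lib.UM6
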