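import Cfsg.Agent.UM6.P1a
import Cfsg.Agent.UM6.OUT
import Cfsg.Agent.UM6.K4

/-!
# Standard subgroups of type `U_m(2ⁿ)`: `t` is fused to `t z`
-/

set_option autoImplicit false
set_option linter.unusedSectionVars false
set_option linter.unusedVariables false

namespace Cfsg.Lib.UM6

open Subgroup Module Cfsg.Lib.Trans Cfsg.Lib.Gold Cfsg.Lib.Class.Form Cfsg.Lib.Class.FAut
open Cfsg.Lib.SG2 (Uq Top Pp)
open Cfsg.Lib.Comp (Tw)
open scoped commutatorElement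

variable {G E M : Type*} [Group G] [Finite G] [Field E] [Finite E] [AddCommGroup M] [Module E M]
  [FiniteDimensional E M] {σ : E →+* E} {B : M →ₛₗ[σ] M →ₗ[E] E} {φ φ' : sIsom B →* G} {t : G}

namespace P1

open scoped IsMulCommutative in
/-- The product of a set with an odd number of elements outside `V`. -/
theorem odd_fix {W V : Subgroup G} (hW : ∀ a ∈ W, ∀ b ∈ W, a * b = b * a) (ht : t ∈ W)
    (t2 : t * t = 1) {Λ : Set G} (h1 : Λ ⊆ W) (h2 : ∀ w ∈ Λ, w ∉ V → t * w ∈ V)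
    (ho : Odd {w | w ∈ Λ ∧ w ∉ V}.ncard) :
    ∃ π, t * π ∈ V ∧ ∀ n ∈ Ns W, (∀ w ∈ Λ, n * w * n⁻¹ ∈ Λ) → n * π * n⁻¹ = π := by
  classical
  have : IsMulCommutative W := ⟨⟨fun a b => Subtype.ext (hW a a.2 b b.2)⟩⟩
  obtain ⟨s, hs⟩ : ∃ s : Finset W, ∀ w, w ∈ s ↔ (w : G) ∈ Λ :=
    ⟨(Set.toFinite (Subtype.val ⁻¹' Λ)).toFinset, fun w => Set.Finite.mem_toFinset _⟩
  obtain ⟨k, hk⟩ : Odd (s.filter fun w : W => ¬ (w : G) ∈ V).card := by
    rwa [← Set.ncard_coe_finset, ← Set.ncard_image_of_injective _ Subtype.val_injective,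
      show Subtype.val '' ((s.filter fun w : W => ¬ (w : G) ∈ V : Finset W) : Set W) =
        {w | w ∈ Λ ∧ w ∉ V} from Set.ext fun w => ⟨by
        rintro ⟨w, hw, rfl⟩
        exact ⟨(hs w).1 (Finset.mem_filter.1 hw).1, (Finset.mem_filter.1 hw).2⟩,
        fun hw => ⟨⟨w, h1 hw.1⟩, Finset.mem_filter.2 ⟨(hs _).2 hw.1, hw.2⟩, rfl⟩⟩]
  refine ⟨(∏ w ∈ s, w : W), ?_, fun n hn k => ?_⟩
  · have e1 := (V.subgroupOf W).prod_mem (t := s.filter fun w : W => ¬ (w : G) ∈ V)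
      (f := fun w => ⟨t, ht⟩ * w) fun w hw =>
        h2 w ((hs w).1 (Finset.mem_filter.1 hw).1) (Finset.mem_filter.1 hw).2
    have e2 := (V.subgroupOf W).prod_mem (t := s.filter fun w : W => (w : G) ∈ V)
      (f := fun w => w) fun w hw => (Finset.mem_filter.1 hw).2
    rw [Finset.prod_mul_distrib, Finset.prod_const, hk, pow_succ, pow_mul, pow_two,
      show (⟨t, ht⟩ * ⟨t, ht⟩ : W) = 1 from Subtype.ext t2, one_pow, one_mul] at e1
    have := mul_mem e1 e2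
    rwa [mul_assoc, mul_comm (∏ w ∈ _, w), Finset.prod_filter_mul_prod_filter_not] at this
  · have hf : ∀ w ∈ s, W.normalizerMonoidHom ⟨n, hn⟩ w ∈ s := fun w hw =>
      (hs _).2 (k _ ((hs w).1 hw))
    refine congrArg Subtype.val (show W.normalizerMonoidHom ⟨n, hn⟩ (∏ w ∈ s, w) = _ from ?_)
    rw [map_prod]
    exact Finset.prod_nbij _ hf (MulEquiv.injective _).injOn
      (Finset.surjOn_of_injOn_of_card_le _ hf (MulEquiv.injective _).injOn le_rfl) fun _ _ => rfl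

theorem odd_of_fix {P : Subgroup G} (hP : IsPGroup 2 P) {Λ : Set G}
    (h1 : ∀ p ∈ P, ∀ w ∈ Λ, p * w * p⁻¹ ∈ Λ) (ht : t ∈ Λ) (h2 : ∀ w ∈ Λ, w ∈ Cs P ↔ w = t) :
    Odd Λ.ncard := by
  let _ : MulAction P Λ :=
    { smul p w := ⟨p * w * (p : G)⁻¹, h1 p p.2 w w.2⟩
      one_smul w := Subtype.ext (by change ((1 : P) : G) * w * ((1 : P) : G)⁻¹ = w; simp)
      mul_smul p q w := Subtype.ext (by
        change ((p * q : P) : G) * w * ((p * q : P) : G)⁻¹ = p * (q * w * (q : G)⁻¹) * (p : G)⁻¹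
        rw [coe_mul]; group) }
  have e : MulAction.fixedPoints P Λ = {⟨t, ht⟩} := by
    ext w
    rw [Set.mem_singleton_iff, Subtype.ext_iff, ← h2 w w.2, mem_Cs]
    exact ⟨fun h p hp => Comp.comm_of_conj_eq (congrArg Subtype.val (h ⟨p, hp⟩)),
      fun h p => Subtype.ext (Comp.conj_eq_of_comm (h p p.2))⟩
  have := hP.card_modEq_card_fixedPoints Λ
  rw [e, Nat.card_coe_set_eq, Nat.card_coe_set_eq, Set.ncard_singleton] at this
  exact Nat.odd_iff.2 this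

theorem map_Ns {W : Submodule E M} {l : sIsom B} (hl : l ∈ St B W) : φ l ∈ Ns ((VW B W).map φ) :=
  le_normalizer_map φ ⟨l, (St_le_Ns hl).1.1, rfl⟩

variable (h : Hyp φ t)
  (hn : ∀ u c, u ≠ 0 → B u u = 0 → σ c = c → c ≠ 0 → ∀ k, k * t * k⁻¹ ≠ t * φ (tT B u c))
include h hn

theorem step1 {W : Submodule E M} (hW : Mx B W) {g : G}
    (hg : g * t * g⁻¹ ∈ zpowers t ⊔ (VW B W).map φ) : g * t * g⁻¹ = t := by
  have k3 := h.toMo.three_le
  have sq : ∀ v ∈ VW B W, φ v * φ v = 1 := fun v hv => by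
    rw [← map_mul, h.toMo.sq_VW hW.ti hv, map_one]
  have el : ∀ a ∈ zpowers t ⊔ (VW B W).map φ, a * a = 1 := fun a ha => by
    obtain ⟨v, hv, rfl | rfl⟩ := h.mem_A.1 ha
    · exact sq v hv
    · rw [(h.tc v).symm.mul_mul_mul_comm, h.t2, sq v hv, mul_one]
  have tA : t ∈ zpowers t ⊔ (VW B W).map φ := mem_sup_left (mem_zpowers t)
  have cz : ∀ l, cj (φ l) (zpowers t) = zpowers t := fun l => by
    rw [cj_zpowers, Comp.conj_eq_of_comm (h.tc l).symm]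
  have nA : ∀ l ∈ St B W, φ l ∈ Ns (zpowers t ⊔ (VW B W).map φ) := fun l hl =>
    mem_Ns_sup (mem_Ns_iff.2 (cz l)) (map_Ns hl)
  obtain ⟨u, hu, u0⟩ := (Submodule.ne_bot_iff W).1 fun e => by
    have := hW.dim
    rw [e, finrank_bot] at this
    omega
  have uu : B u u = 0 := hW.ti u hu u hu
  have inv : ∀ n ∈ Ns (zpowers t ⊔ (VW B W).map φ),
      ∀ w ∈ {w | w ∈ zpowers t ⊔ (VW B W).map φ ∧ ∃ g, g * t * g⁻¹ = w},
        n * w * n⁻¹ ∈ {w | w ∈ zpowers t ⊔ (VW B W).map φ ∧ ∃ g, g * t * g⁻¹ = w} := by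
    rintro n hn _ ⟨hw, g, rfl⟩
    exact ⟨mem_normalizer_conj hn hw, n * g, by group⟩
  obtain ⟨π, hπ, fx⟩ := odd_fix (V := (VW B W).map φ) (comm_of_sq el) tA h.t2
    (Λ := {w | w ∈ zpowers t ⊔ (VW B W).map φ ∧ ∃ g, g * t * g⁻¹ = w}) (fun w hw => hw.1)
    (fun w hw hv => by
      obtain ⟨v, hv', rfl | rfl⟩ := h.mem_A.1 hw.1
      · exact absurd ⟨v, hv', rfl⟩ hv
      · rw [← mul_assoc, h.t2, one_mul]
        exact ⟨v, hv', rfl⟩)
    (odd_of_fix (t := t) ((h.toMo.two_QW (ti1 uu)).map φ) (by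
      rintro _ ⟨p, hp, rfl⟩ w hw
      have hp' := h.toMo.QW_le_St hW.ti ((Submodule.span_singleton_le_iff_mem u W).2 hu) hp
      exact ⟨inv _ (nA p hp') w hw.1, fun e => hw.2 ((mem_normalizer_iff.1 (map_Ns hp') w).2 e)⟩)
      ⟨⟨tA, 1, by simp⟩, fun e => h.t_not (map_le_range _ _ e)⟩ (by
      rintro w ⟨⟨hw, k, e⟩, hv⟩
      refine ⟨fun hc => ?_, fun e => e ▸ Cs_anti (map_le_range _ _) h.tC⟩
      obtain ⟨v, hv', rfl | rfl⟩ := h.mem_A.1 hw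
      · exact absurd ⟨v, hv', rfl⟩ hv
      · have h1 := (mul_mem_cancel_left (Cs_anti (map_le_range _ _) h.tC)).1 hc
        obtain ⟨c, hc', rfl⟩ := (h.toMo.mem_RR uu).1 (h.toMo.cVQ hW.ti hu u0 hv'
          (mem_Cs.2 fun p hp => (h.toMod.comm2 (.of_sq (h.toMo.sq_VW hW.ti hv'))
            (mem_Cs.1 h1 _ ⟨p, hp, rfl⟩).symm).symm))
        by_cases c0 : c = 0
        · rw [c0, h.toMo.tT_zero, map_one, mul_one]
        · exact absurd e (hn u c u0 uu hc' c0 k)))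
  replace fx := fun n hn => fx n hn (inv n hn)
  obtain rfl : π = t := by
    obtain ⟨v, hv, e⟩ := hπ
    have e' : π = t * φ v := by rw [e, ← mul_assoc, h.t2, one_mul]
    rw [e', h.toMo.cVSt hW.ti (by rw [hW.dim]; omega) hv fun y hy _ => ?_, map_one, mul_one]
    have h1 := fx _ (nA y hy)
    rw [e', ← conj_mul', Comp.conj_eq_of_comm (h.tc y).symm, mul_right_inj] at h1
    exact h.toMod.comm2 (.of_sq (h.toMo.sq_VW hW.ti hv)) (Comp.comm_of_conj_eq h1).symm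
  obtain ⟨W', hW', e⟩ := (h.jl (A := cj g⁻¹ (zpowers π ⊔ (VW B W).map φ))
    (fun a ha => by simpa [mul_assoc] using Comp.conj_sq (el _ (mem_cj.1 ha)) g⁻¹)
    (cj_inv_le_iff_le_cj.2 fun w hw => by
      rw [cj_C1]; exact mem_C1.2 (comm_of_sq el w hw _ hg))).2
    (by rw [card_cj, h.card_A hW.ti, hW.dim])
  obtain ⟨l, hl⟩ := h.toMo.trW hW hW'
  have := fx (g * φ l) (mem_Ns_iff.2 (by
    rw [cj_mul, cj_sup (φ l), cz, ← map_cj, (cj_sub hl).1, ← e, cj_cj_inv]))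
  rwa [show g * φ l * π * (g * φ l)⁻¹ = g * (φ l * π * (φ l)⁻¹) * g⁻¹ by group,
    Comp.conj_eq_of_comm (h.tc l).symm] at this

theorem outer {g : G} (h1 : g * t * g⁻¹ ≠ t) (h2 : Commute (g * t * g⁻¹) t)
    {α : MulAut (sIsom B)} (k : Mp φ φ (g * t * g⁻¹) α) : fa α = sg σ := by
  refine (h.inn h2 (Comp.conj_sq h.t2 g) k).resolve_right ?_
  rintro ⟨l, l2, e⟩
  obtain ⟨W, hW, hl⟩ := h.toMo.inv l2
  exact h1 (step1 h hn hW (h.mem_A.2 ⟨l, hl, e⟩))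

end P1

open P1

theorem Hyp.stepA (h : Hyp φ t) {g : G} (h1 : g * t * g⁻¹ ≠ t) (h2 : Commute t (g * t * g⁻¹)) :
    ∃ u, u ≠ 0 ∧ B u u = 0 ∧ ∃ k, k * t * k⁻¹ = t * φ (tT B u 1) := by
  by_contra hn0
  have hn : ∀ u c, u ≠ 0 → B u u = 0 → σ c = c → c ≠ 0 →
      ∀ k, k * t * k⁻¹ ≠ t * φ (tT B u c) := fun u c u0 hu hc c0 k e => by
    obtain ⟨a, rfl⟩ := h.toMo.exists_nm hc
    refine hn0 ⟨a • u, smul_ne_zero (fun a0 => c0 (by rw [a0, mul_zero])) u0, by simp [hu], k, ?_⟩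
    rw [h.toMo.tT_smul hu a (map_one σ), mul_one, e]
  obtain ⟨α, k⟩ := h.toMod.ind (h.cn (mem_C1.2 h2.symm))
  have α2 := P1a.sq h.toMod (Comp.conj_sq h.t2 g) k
  obtain ⟨W, hW, e1, e2⟩ := h.toMo.out α2 (outer h hn h1 h2.symm k)
  have el := fun v => h.toMo.sq_VW (v := v) hW.ti
  have hα : ∀ v ∈ VW B W, α v ∈ VW B W := fun v hv => e1.le ⟨v, hv, rfl⟩
  have key : ∀ v ∈ VW B W, v ∉ Cf α →
      ∃ β, Mp φ φ (g⁻¹ * φ (v * α v) * g) β ∧ fa β = sg σ := fun v hv hc => by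
    have c1 : Commute (g * t * g⁻¹) (φ (v * α v)) := by
      refine Comp.comm_of_conj_eq ?_
      rw [k, map_mul α, ← MulAut.mul_apply, α2, MulAut.one_apply, comm_of_sq el v hv _ (hα v hv)]
    have c2 : Commute (g⁻¹ * φ (v * α v) * g) t := by
      simpa [mul_assoc] using c1.symm.map (MulAut.conj g⁻¹)
    obtain ⟨β, k'⟩ := h.toMod.ind (h.cn (mem_C1.2 c2))
    have e : g⁻¹ * φ v * g * t * (g⁻¹ * φ v * g)⁻¹ = g⁻¹ * φ (v * α v) * g * t := by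
      have := k v
      rw [map_mul, ← this]
      conv_lhs => rw [← inv_eq_of_sq h.t2, mul_inv_rev, mul_inv_rev, ← map_inv,
        inv_eq_of_sq (el v hv)]
      conv_lhs => rw [inv_eq_of_sq h.t2]
      group
    refine ⟨β, k', ?_⟩
    rw [← mul_one β]
    refine outer h hn (g := g⁻¹ * φ v * g) ?_ ?_ ?_ <;> rw [e]
    · intro e'
      rw [mul_eq_right, mul_assoc, inv_mul_eq_one, eq_comm, mul_eq_right] at e'
      have := h.toMod.inj2 (.of_sq (el _ (mul_mem hv (hα v hv)))) e'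
      exact hc (mem_Cf.2 (by rw [eq_inv_of_mul_eq_one_right this, inv_eq_of_sq (el v hv)]))
    · exact c2.mul_left (Commute.refl t)
    · exact k'.mul (Mp.of_Cs h.tC)
  have big : ∀ a, ¬ ∀ v ∈ VW B W, v ∈ Cf α ∨ a⁻¹ * v ∈ Cf α := fun a hc => by
    have : Finite (sIsom B) := finL
    have h3 := P1a.cover a hc
    rw [e2, h.toMo.card_VW hW.ti, hW.dim] at h3
    have q2 := h.toMo.two_le
    have k3 := h.toMo.three_le
    have h8 : qn σ ^ (kk E M * (kk E M + 1) / 2 + 2) ≤ qn σ ^ (kk E M ^ 2) :=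
      Nat.pow_le_pow_right (by omega) (by
        have : kk E M * (kk E M + 1) + 4 ≤ 2 * kk E M ^ 2 := by nlinarith
        omega)
    rw [pow_add] at h8
    have h9 : 4 ≤ qn σ ^ 2 := by nlinarith
    have h10 : 0 < qn σ ^ (kk E M * (kk E M + 1) / 2) := Nat.pow_pos (by omega)
    nlinarith
  obtain ⟨a, ha, a1⟩ : ∃ a ∈ VW B W, a ∉ Cf α := by
    by_contra! hc
    exact big 1 fun v hv => .inl (hc v hv)
  obtain ⟨b, hb, b1, b2⟩ : ∃ b ∈ VW B W, b ∉ Cf α ∧ a⁻¹ * b ∉ Cf α := by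
    by_contra! hc
    exact big a fun v hv => or_iff_not_imp_left.2 (hc v hv)
  rw [inv_eq_of_sq (el a ha)] at b2
  obtain ⟨β₁, k1, f1⟩ := key a ha a1
  obtain ⟨β₂, k2, f2⟩ := key b hb b1
  obtain ⟨β₃, k3, f3⟩ := key _ (mul_mem ha hb) b2
  have k4 := k1.mul k2
  rw [show g⁻¹ * φ (a * α a) * g * (g⁻¹ * φ (b * α b) * g) =
      g⁻¹ * (φ (a * α a) * φ (b * α b)) * g by group, ← map_mul,
    Commute.mul_mul_mul_comm (comm_of_sq el _ (hα a ha) b hb), ← map_mul α] at k4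
  rw [← Mp.uniq h.toMod k4 k3, h.toMo.fa_mul, f1, f2, h.toMo.sg_sq] at f3
  exact h.toMo.sg_ne f3.symm

end Cfsg.Lib.UM6
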