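import Cfsg.Agent.UM6.P1a
import Cfsg.Agent.UM6.K2
import Cfsg.Agent.UM6.KIT

/-!
# Standard subgroups of type `U_m(2ⁿ)`: calculus of `Ew`
-/

set_option autoImplicit false
set_option linter.unusedSectionVars false

namespace Cfsg.Lib.UM6

open Subgroup Module Cfsg.Lib.Trans Cfsg.Lib.Gold Cfsg.Lib.Class.Form Cfsg.Lib.Class.FAut
open Cfsg.Lib.Comp (Tw)
open scoped commutatorElement

namespace P4a

section Grp
variable {G : Type*} [Group G]

theorem okill {a o g : G} (ha : a ^ 4 = 1) (h1 : Commute a o) (h2 : Commute g o)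
    (h : g * (a * o) * g⁻¹ = (a * o)⁻¹) (ho : Odd (orderOf o)) : o = 1 := by
  have e := congrArg (· ^ 4) h
  simp only [conj_pow, inv_pow, h1.mul_pow, ha, one_mul] at e
  rw [(h2.pow_right 4).eq, mul_inv_cancel_right, eq_inv_iff_mul_eq_one, ← pow_add] at e
  exact orderOf_eq_one_iff.1 (((Nat.coprime_two_right.2 ho).pow_right 3).eq_one_of_dvd
    (orderOf_dvd_of_pow_eq_one e))

theorem flip {a t z : G} (t2 : t * t = 1) (e : a * t * a⁻¹ = t * z) (hc : Commute z a) :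
    t * a * t⁻¹ = a * z := by
  have e1 : t⁻¹ = t := inv_eq_of_mul_eq_one_right t2
  rw [mul_inv_eq_iff_eq_mul] at e
  rw [e1, mul_assoc, e, ← mul_assoc, ← mul_assoc, t2, one_mul, hc.eq]

theorem cmo {a b : G} (e : a * b * a⁻¹ = b) : Commute a b := mul_inv_eq_iff_eq_mul.1 e

theorem comm_mul {a b p q : G} (h2 : Commute p b) (h3 : Commute q a) (h5 : Commute p q) :
    ⁅a * p, b * q⁆ = ⁅a, b⁆ := by
  have e1 : p * (b * q) * p⁻¹ = b * q := (h2.mul_right h5).mul_inv_cancel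
  have e2 : q * a⁻¹ * q⁻¹ = a⁻¹ := h3.inv_right.mul_inv_cancel
  calc ⁅a * p, b * q⁆ = a * (p * (b * q) * p⁻¹) * a⁻¹ * (b * q)⁻¹ := by
        rw [commutatorElement_def]; group
    _ = a * b * (q * a⁻¹ * q⁻¹) * b⁻¹ := by rw [e1]; group
    _ = ⁅a, b⁆ := by rw [e2, commutatorElement_def]

theorem comm_tw {a b e A C Z : G} (h1 : A * b * A⁻¹ = b * e) (h2 : A * C * A⁻¹ = C * Z)
    (h3 : C * a * C⁻¹ = a * e) (Za : Commute Z a)
    (Zb : Commute Z b) (ZC : Commute Z C) (eZ : Commute e Z) : ⁅a * A, b * C⁆ = ⁅a, b⁆ * Z := by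
  have e1 : C * a⁻¹ * C⁻¹ = e⁻¹ * a⁻¹ := by rw [← mul_inv_rev, ← h3]; group
  calc ⁅a * A, b * C⁆ = a * (A * b * A⁻¹) * (A * C * A⁻¹) * a⁻¹ * C⁻¹ * b⁻¹ := by
        rw [commutatorElement_def]; group
    _ = a * b * e * (C * Z) * a⁻¹ * C⁻¹ * b⁻¹ := by rw [h1, h2]; group
    _ = a * b * e * Z * (C * a⁻¹ * C⁻¹) * b⁻¹ := by rw [← ZC.eq]; group
    _ = a * b * (e * Z * e⁻¹) * a⁻¹ * b⁻¹ := by rw [e1]; group
    _ = a * b * (Z * (a⁻¹ * b⁻¹)) := by rw [eZ.mul_inv_cancel]; group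
    _ = ⁅a, b⁆ * Z := by rw [(Za.inv_right.mul_right Zb.inv_right).eq, commutatorElement_def]; group

theorem inv_comm {a b : G} (a2 : a * a = 1) : a * ⁅a, b⁆ * a⁻¹ = ⁅a, b⁆⁻¹ := by
  have e1 : a⁻¹ = a := inv_eq_of_mul_eq_one_right a2
  rw [commutatorElement_inv, commutatorElement_def, commutatorElement_def, ← mul_assoc, ← mul_assoc,
    ← mul_assoc, a2, one_mul, e1]

end Grp

section
variable {E M : Type*} [Field E] [Finite E] [AddCommGroup M] [Module E M] [FiniteDimensional E M]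
  {σ : E →+* E} {B : M →ₛₗ[σ] M →ₗ[E] E}

theorem i3l (h : Mo B) {u w x : M} (k : I3 B u w x) : I2 B (u + w) x :=
  ⟨k.toI2.add h, k.xx, by simp [k.ux, k.wx]⟩

theorem tEfix (h : Mo B) {u w r : M} (k : I2 B u w) (h1 : B u r = 0) (h2 : B w r = 0) :
    lin (tE B u w) r = r := by rw [h.lin_tE k, h1, h2]; simp

theorem tTfix (h : Mo B) {u r : M} (k : B u u = 0) (h1 : B u r = 0) : lin (tT B u 1) r = r := by
  rw [h.lin_tT k (map_one σ), h1]; simp

end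

end P4a

open P4a

variable {G E M : Type*} [Group G] [Finite G] [Field E] [Finite E] [AddCommGroup M] [Module E M]
  [FiniteDimensional E M] {σ : E →+* E} {B : M →ₛₗ[σ] M →ₗ[E] E} {φ φ' : sIsom B →* G} {t : G}
  {f : M → G}

theorem H3.unit (h : H3 φ t f) {a : E} (ha : σ a * a = 1) (u : M) : f (a • u) = f u := by
  by_cases hu : B u u = 0
  · have := h.addN a 0 1 u hu (by simp [ha])
    rwa [zero_smul, h.f0, mul_one, one_smul] at this
  · rw [h.junk u hu, h.junk]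
    have : B (a • u) (a • u) = σ a * a * B u u := by simp [mul_left_comm, mul_assoc]
    rwa [this, ha, one_mul]

theorem H3.f_fix (h : H3 φ t f) {g : sIsom B} {u : M} (e : lin g u = u) : Commute (φ g) (f u) :=
  cmo (by rw [h.feqv, e])

theorem H3.Ew_comm (h : H3 φ t f) {u w : M} (k : I2 B u w) : Ew f u w = Ew f w u := by
  rw [Ew, Ew, add_comm w, mul_assoc, mul_assoc, (h.com u w k).eq]

theorem H3.Ew_zero (h : H3 φ t f) (u : M) : Ew f u 0 = 1 := by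
  rw [Ew, add_zero, h.f0, mul_one, h.sq]

theorem H3.Ew_zero' (h : H3 φ t f) (u : M) : Ew f 0 u = 1 := by
  rw [Ew, zero_add, h.f0, mul_one, h.sq]

theorem H3.Ew_f (h : H3 φ t f) {u w x : M} (k : I3 B u w x) : Commute (Ew f u w) (f x) :=
  ((h.com _ _ (i3l h.toMo k)).mul_left (h.com _ _ ⟨k.uu, k.xx, k.ux⟩)).mul_left
    (h.com _ _ ⟨k.ww, k.xx, k.wx⟩)

theorem H3.Ew_sq (h : H3 φ t f) {u w : M} (k : I2 B u w) : Ew f u w * Ew f u w = 1 := by
  have h1 := h.com _ _ (i3l h.toMo (⟨k, k.uu, k.uu, h.swap k.uw⟩ : I3 B u w u))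
  have h2 := h.com _ _ (i3l h.toMo (⟨k, k.ww, k.uw, k.ww⟩ : I3 B u w w))
  rw [Ew, ← pow_two, (h2.mul_left (h.com _ _ k)).mul_pow, h1.mul_pow, pow_two, pow_two, pow_two,
    h.sq, h.sq, h.sq, mul_one, mul_one]

theorem H3.bi' (h : H3 φ t f) {u w x : M} (k : I3 B w u x) :
    Ew f (u + x) w = Ew f u w * Ew f x w := by
  have k1 : I2 B w (u + x) := ⟨k.uu, I2.add h.toMo ⟨k.ww, k.xx, k.wx⟩, by simp [k.uw, k.ux]⟩
  rw [← h.Ew_comm k1, h.bi _ _ _ k, h.Ew_comm k.toI2, h.Ew_comm ⟨k.uu, k.xx, k.ux⟩]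

theorem H3.Ew_eqv (h : H3 φ t f) (g : sIsom B) (u w : M) :
    φ g * Ew f u w * (φ g)⁻¹ = Ew f (lin g u) (lin g w) := by
  rw [Ew, Ew, ← map_add, ← h.feqv, ← h.feqv, ← h.feqv]; group

theorem H3.Ew_t (h : H3 φ t f) {u w : M} (k : I2 B u w) :
    Ew f u w * t * (Ew f u w)⁻¹ = t * φ (tE B u w) := by
  have c1 := h.f_fix (tTfix h.toMo k.ww (h.swap k.uw))
  have c2 := h.f_fix (tTfix h.toMo (r := u + w) k.ww (by simp [k.ww, h.swap k.uw]))
  have c3 := h.f_fix (tTfix h.toMo (r := u + w) k.uu (by simp [k.uu, k.uw]))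
  calc Ew f u w * t * (Ew f u w)⁻¹
      = f (u + w) * (f u * (f w * t * (f w)⁻¹) * (f u)⁻¹) * (f (u + w))⁻¹ := by rw [Ew]; group
    _ = f (u + w) * (f u * t * (φ (tT B w 1) * (f u)⁻¹)) * (f (u + w))⁻¹ := by
        rw [h.tf w k.ww]; group
    _ = f (u + w) * (f u * t * (f u)⁻¹) * (φ (tT B w 1) * (f (u + w))⁻¹) := by
        rw [c1.inv_right.eq]; group
    _ = f (u + w) * t * (φ (tT B u 1) * (f (u + w))⁻¹) * φ (tT B w 1) := by
        rw [h.tf u k.uu, c2.inv_right.eq]; group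
    _ = f (u + w) * t * (f (u + w))⁻¹ * φ (tT B u 1) * φ (tT B w 1) := by
        rw [c3.inv_right.eq]; group
    _ = _ := by rw [h.tf _ (k.add h.toMo), h.tE_eq k, map_mul, map_mul]; group

theorem H3.t_f (h : H3 φ t f) {u : M} (hu : B u u = 0) :
    t * f u * t⁻¹ = f u * φ (tT B u 1) :=
  flip h.t2 (h.tf u hu) (h.f_fix (tTfix h.toMo hu hu))

theorem H3.Ew_fix (h : H3 φ t f) {g : sIsom B} {u w : M} (e : lin g u = u) (e' : lin g w = w) :
    Commute (φ g) (Ew f u w) := cmo (by rw [h.Ew_eqv, e, e'])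

theorem H3.t_Ew (h : H3 φ t f) {u w : M} (k : I2 B u w) :
    t * Ew f u w * t⁻¹ = Ew f u w * φ (tE B u w) :=
  flip h.t2 (h.Ew_t k)
    (h.Ew_fix (tEfix h.toMo k k.uu (h.swap k.uw)) (tEfix h.toMo k k.uw k.ww))

theorem H3.Ew_self (h : H3 φ t f) {u : M} (hu : B u u = 0) {a b : E} (e : σ b * b = a + σ a) :
    Ew f (a • u) u = f (b • u) := by
  obtain ⟨c, hc⟩ := h.exists_nm (c := σ (a + 1) * (a + 1) + σ a * a)
    (by simp only [map_add, map_mul, map_one, h.ss]; ring)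
  have e1 := h.addN (a + 1) a c u hu hc.symm
  have e2 := h.addN c 1 b u hu (by
    rw [hc, e, map_add, map_one]; linear_combination (σ a * a + 1) * h.two)
  rw [one_smul] at e2
  rw [add_smul, one_smul] at e1
  rw [Ew, e1, e2]

theorem H3.Ew_cO (h : H3 φ t f) (u w : M) : Ew f u w ∈ Cs (Ot φ t) :=
  mul_mem (mul_mem (h.cO _) (h.cO _)) (h.cO _)

theorem H3.Ew_Ew (h : H3 φ t f) {u w x y : M} (k : I3 B u w x) (k' : I3 B u w y) (e : B x y = 0) :
    Commute (Ew f u w) (Ew f x y) :=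
  ((h.Ew_f ⟨k.toI2, I2.add h.toMo ⟨k.xx, k'.xx, e⟩, by simp [k.ux, k'.ux],
    by simp [k.wx, k'.wx]⟩).mul_right (h.Ew_f k)).mul_right (h.Ew_f k')

theorem H3.w0 (h : H3 φ t f) {u w x y : M} (k : Gen B u w x y) :
    ∃ v ∈ VW B (Submodule.span E {u, w}), ⁅Ew f u x, Ew f y w⁆ = Ew f (B x y • u) w * φ v := by
  have m := h.toMo
  have uu := k.uu; have ww := k.ww; have uw := k.uw; have xx := k.xx; have ux := k.ux
  have wx := k.wx; have yy := k.yy; have uy := k.uy; have wy := k.wy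
  have wu := m.swap uw; have xu := m.swap ux; have xw := m.swap wx; have yu := m.swap uy
  have yw := m.swap wy
  by_cases c0 : B x y = 0
  · refine ⟨1, one_mem _, ?_⟩
    rw [c0, zero_smul, h.Ew_zero', map_one, mul_one, commutatorElement_eq_one_iff_commute]
    exact h.Ew_Ew ⟨⟨uu, xx, ux⟩, yy, uy, c0⟩ ⟨⟨uu, xx, ux⟩, ww, uw, xw⟩ yw
  set W := Submodule.span E {u, w} with hWd
  have hW : TotIso B W := k.toI2.ti m
  have uW : u ∈ W := Submodule.subset_span (by simp)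
  have wW : w ∈ W := Submodule.subset_span (by simp)
  have u0 : u ≠ 0 := k.li.ne_zero 0
  have W0 : W ≠ ⊥ := fun e => u0 (by rw [e] at uW; exact uW)
  have xo : x ∈ orth B W := mem_orth_span.2 (by simp [ux, wx])
  have yo : y ∈ orth B W := mem_orth_span.2 (by simp [uy, wy])
  have cW : ∀ s ∈ W, ∀ s' ∈ W, ∀ p ∈ orth B W, ∀ q ∈ orth B W, I2 B p q →
      Commute (Ew f s s') (Ew f p q) := fun s hs s' hs' p hp q hq k' =>
    h.Ew_Ew ⟨I2.of_ti hW hs hs', k'.uu, hp s hs, hp s' hs'⟩ ⟨I2.of_ti hW hs hs', k'.ww, hq s hs,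
      hq s' hs'⟩ k'.uw
  have Wo : ∀ s ∈ W, s ∈ orth B W := fun s hs r hr => hW r hr s hs
  have kx : I2 B u x := ⟨uu, xx, ux⟩
  have ky : I2 B y w := ⟨yy, ww, yw⟩
  have cuW : B x y • u ∈ W := W.smul_mem _ uW
  have kz : I2 B (B x y • u) w := I2.of_ti hW cuW wW
  set a := Ew f u x with ha
  set b := Ew f y w with hb
  set e := Ew f (B x y • u) w with he
  have ea : Commute e a := cW _ cuW _ wW _ (Wo _ uW) _ xo kx
  have a2 : a * a = 1 := h.Ew_sq kx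
  have e2 : e * e = 1 := h.Ew_sq kz
  -- the commutator centralises `Q_W`
  have hQ : e * ⁅a, b⁆ ∈ Cs ((QW B W).map φ) := by
    refine Gold.mem_Cs.2 ?_
    rintro _ ⟨g, hg, rfl⟩
    have gu := hg.1 u uW
    have gw := hg.1 w wW
    have hx := hg.2 x xo
    have hy := hg.2 y yo
    have e1 : φ g * a * (φ g)⁻¹ = a * Ew f u (lin g x - x) := by
      rw [ha, h.Ew_eqv, gu, ← h.bi _ _ _ ⟨kx, hW _ hx _ hx, hW _ uW _ hx, m.swap (xo _ hx)⟩,
        add_sub_cancel]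
    have e2 : φ g * b * (φ g)⁻¹ = b * Ew f (lin g y - y) w := by
      rw [hb, h.Ew_eqv, gw, ← h.bi' ⟨ky.symm m, hW _ hy _ hy, hW _ wW _ hy, m.swap (yo _ hy)⟩,
        add_sub_cancel]
    refine ((h.Ew_fix (hg.1 _ cuW) gw).mul_right (cmo ?_)).eq
    rw [conjugate_commutatorElement, e1, e2]
    exact comm_mul (cW _ uW _ hx _ yo _ (Wo _ wW) ky) (cW _ hy _ wW _ (Wo _ uW) _ xo kx)
      (cW _ uW _ hx _ (Wo _ hy) _ (Wo _ wW) (I2.of_ti hW hy wW))
  -- the action of `t`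
  set A := φ (tE B u x) with hA
  set C := φ (tE B y w) with hC
  set Z := φ (tE B (B x y • u) w) with hZ
  have Ay : lin (tE B u x) y = y + B x y • u := by rw [m.lin_tE kx, uy]; simp
  have Aw : lin (tE B u x) w = w := tEfix m kx uw xw
  have Cu : lin (tE B y w) u = u := tEfix m ky yu wu
  have Cx : lin (tE B y w) x = x + σ (B x y) • w := by
    rw [m.lin_tE ky, wx, m.sym y x]; simp
  have Zo : ∀ r ∈ orth B W, lin (tE B (B x y • u) w) r = r := fun r hr =>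
    tEfix m kz (hr _ cuW) (hr _ wW)
  have k1 : I3 B w y (B x y • u) := ⟨ky.symm m, kz.uu, hW _ wW _ cuW, m.swap (yo _ cuW)⟩
  have h1 : A * b * A⁻¹ = b * e := by rw [hA, hb, h.Ew_eqv, Ay, Aw, h.bi' k1]
  have h2 : A * C * A⁻¹ = C * Z := by
    rw [hA, hC, ← map_inv, ← map_mul, ← map_mul, m.tE_conj _ ky, Ay, Aw, m.tE_add' k1, map_mul]
  have h3 : C * a * C⁻¹ = a * e := by
    rw [hC, ha, h.Ew_eqv, Cu, Cx, h.bi _ _ _ ⟨kx, by simp [ww], by simp [uw], by simp [xw]⟩,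
      ← h.sw _ _ _ k.toI2]
  have Za : Commute Z a := h.Ew_fix (Zo _ (Wo _ uW)) (Zo _ xo)
  have Zb : Commute Z b := h.Ew_fix (Zo _ yo) (Zo _ (Wo _ wW))
  have Ze : Commute Z e := h.Ew_fix (Zo _ (Wo _ cuW)) (Zo _ (Wo _ wW))
  have ZC : Commute Z C := cmo (by
    rw [hZ, hC, ← map_inv, ← map_mul, ← map_mul, m.tE_conj _ ky, Zo _ yo, Zo _ (Wo _ wW)])
  have Z2 : Z * Z = 1 := by rw [hZ, ← map_mul, m.tE_sq kz, map_one]
  have te : t * e * t⁻¹ = e * Z := h.t_Ew kz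
  have tw : t * ⁅a, b⁆ * t⁻¹ = ⁅a, b⁆ * Z := by
    rw [conjugate_commutatorElement, h.t_Ew kx, h.t_Ew ky]
    exact comm_tw h1 h2 h3 Za Zb ZC Ze.symm
  have Zw : Commute Z ⁅a, b⁆ :=
    ((Za.mul_right Zb).mul_right Za.inv_right).mul_right Zb.inv_right
  have ht : Commute (e * ⁅a, b⁆) t := (cmo (by
    calc t * (e * ⁅a, b⁆) * t⁻¹ = (t * e * t⁻¹) * (t * ⁅a, b⁆ * t⁻¹) := by group
      _ = e * (Z * ⁅a, b⁆) * Z := by rw [te, tw]; group
      _ = e * ⁅a, b⁆ := by rw [Zw.eq, mul_assoc, mul_assoc, Z2, mul_one])).symm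
  obtain ⟨v, hv, o, ho, hd⟩ := h.toH1.cQ hW W0 ht hQ
  have oL : ∀ g, Commute (φ g) o := fun g => Gold.mem_Cs.1 (Ot_le ho).2 _ ⟨g, rfl⟩
  have oE : ∀ p q, Commute (Ew f p q) o := fun p q => (Gold.mem_Cs.1 (h.Ew_cO p q) _ ho).symm
  have ot : Commute t o := (Gold.mem_C1.1 (Ot_le ho).1).symm
  have ve : Commute (φ v) e := h.Ew_fix (m.VW_fix hv (Wo _ cuW)) (m.VW_fix hv (Wo _ wW))
  have va : Commute (φ v) a := h.Ew_fix (m.VW_fix hv (Wo _ uW)) (m.VW_fix hv xo)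
  have v2 : φ v * φ v = 1 := by rw [← map_mul, m.sq_VW hW hv, map_one]
  have hi := inv_comm (b := b) a2
  have hw : ⁅a, b⁆ = e * (e * ⁅a, b⁆) := by rw [← mul_assoc, e2, one_mul]
  rcases hd with hd | hd
  · rw [hd, ← mul_assoc] at hw
    refine ⟨v, hv, ?_⟩
    have e4 : (e * φ v) ^ 4 = 1 := by
      rw [show 4 = 2 * 2 from rfl, pow_mul, ve.symm.mul_pow, pow_two e, pow_two (φ v), e2, v2,
        mul_one, one_pow]
    rw [hw, okill e4 ((oE _ _).mul_left (oL _)) (oE _ _) (hw ▸ hi) (odd_Ot ho), mul_one]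
  · exfalso
    rw [hd, ← mul_assoc, ← mul_assoc] at hw
    have ti : t⁻¹ = t := inv_eq_of_mul_eq_one_right h.t2
    have et : (e * t) ^ 2 = Z := by
      rw [pow_two, show e * t * (e * t) = e * (t * e * t⁻¹) by rw [ti]; group, te, ← mul_assoc, e2,
        one_mul]
    have e4 : (e * t * φ v) ^ 4 = 1 := by
      rw [(ve.symm.mul_left (h.tc v)).mul_pow, show 4 = 2 * 2 from rfl, pow_mul, pow_mul, et,
        pow_two (φ v), v2, one_pow, pow_two, Z2, mul_one]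
    have o1 := okill e4 (((oE _ _).mul_left ot).mul_left (oL _)) (oE _ _) (hw ▸ hi) (odd_Ot ho)
    rw [o1, mul_one] at hw
    rw [hw] at hi
    have l : a * (e * t * φ v) * a⁻¹ = e * t * φ v * A := by
      have Av : Commute A (φ v) := (cmo (by
        rw [hA, ← map_inv, ← map_mul, ← map_mul, m.tE_conj _ kx, m.VW_fix hv (Wo _ uW),
          m.VW_fix hv xo])).symm
      calc a * (e * t * φ v) * a⁻¹ = (a * e * a⁻¹) * (a * t * a⁻¹) * (a * φ v * a⁻¹) := by group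
        _ = e * t * (A * φ v) := by
            rw [ea.symm.mul_inv_cancel, va.symm.mul_inv_cancel, ha, h.Ew_t kx, ← hA]; group
        _ = _ := by rw [Av.eq]; group
    have r : (e * t * φ v)⁻¹ = e * t * φ v * Z := by
      have Zv : Commute (φ v) Z := cmo (by
        rw [hZ, ← map_inv, ← map_mul, ← map_mul, m.tE_conj _ kz, m.VW_fix hv (Wo _ cuW),
          m.VW_fix hv (Wo _ wW)])
      refine inv_eq_of_mul_eq_one_right ?_
      rw [← mul_assoc, ← pow_two, (ve.symm.mul_left (h.tc v)).mul_pow, et, pow_two, v2, mul_one, Z2]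
    rw [l, r, mul_right_inj] at hi
    have := h.toMod.eq2 (Tw.of_sq (m.tE_sq kx)) (Tw.of_sq (m.tE_sq kz)) hi
    rw [this, Zo _ yo, left_eq_add] at Ay
    exact c0 ((smul_eq_zero.1 Ay).resolve_right u0)

end Cfsg.Lib.UM6
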