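import Cfsg.Agent.UM6.K0
import Cfsg.Agent.SLA.K2
import Cfsg.Agent.SLA.Md
import Cfsg.Agent.SLA.K1b
import Cfsg.Agent.FT.BG4.Glue
import Cfsg.Agent.Trans.StrongClosedFusion
import Cfsg.Agent.S1769

/-!
# Automorphisms of central quotients of `SL_m`
-/

set_option autoImplicit false
set_option linter.unusedSectionVars false

namespace Cfsg.Lib.UM6

open Subgroup Module Cfsg.Lib.Trans Cfsg.Lib.Gold Cfsg.Lib.Class.Form Cfsg.Lib.Class.FAut
open Cfsg.Lib.Comp (Tw)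
open scoped commutatorElement MatrixGroups

variable {G E : Type*} [Group G] [Finite G] [Field E] [Finite E] {σ : E →+* E} {m : ℕ}
  {ψ : SL(m, E) →* G}

namespace S1

open Cfsg.Lib.Known

/-- `gm` as an automorphism. -/
def gA (m : ℕ) (τ : E ≃+* E) (b : Bool) : MulAut SL(m, E) :=
  fieldSL (Fin m) E τ * if b then graphSL (Fin m) E else 1

theorem gA_eq_1' : type_of% @gA.eq_1 := @gA.eq_1

theorem gA_false (τ : E ≃+* E) : gA m τ false = fieldSL (Fin m) E τ := mul_one _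
theorem gA_true (τ : E ≃+* E) : gA m τ true = fieldSL (Fin m) E τ * graphSL (Fin m) E := rfl

theorem gm_eq (τ : E ≃+* E) (b : Bool) (g : SL(m, E)) : gm τ b g = gA m τ b g := by
  cases b
  · rw [gA_false]; rfl
  · refine Subtype.ext ?_
    rw [gA_true, MulAut.mul_apply, coe_fieldSL, coe_graphSL, gm_true, coe_it]
    rfl

theorem slCj_eq (δ : GL (Fin m) E) (g : SL(m, E)) : Chev.slCj δ g = conjSL (Fin m) E δ g := rfl

theorem th_iff {c : G} {τ : E ≃+* E} {b : Bool} :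
    Th ψ c τ b ↔ ∃ δ, SLA.Ind ψ c (conjSL (Fin m) E δ * gA m τ b) := by
  refine exists_congr fun δ => forall_congr' fun g => ?_
  rw [gm_eq, slCj_eq]; rfl

theorem gA_mul (τ τ' : E ≃+* E) (b b' : Bool) :
    gA m τ b * gA m τ' b' = gA m (τ * τ') (xor b b') := by
  have e : fieldSL (Fin m) E (τ * τ') = fieldSL (Fin m) E τ * fieldSL (Fin m) E τ' := map_mul _ _ _
  cases b <;> cases b' <;>
    simp only [gA_true, gA_false, Bool.xor_true, Bool.xor_false, Bool.not_true, Bool.not_false, e,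
      mul_assoc]
  · rw [graphSL_mul_fieldSL]
  · rw [← mul_assoc (graphSL _ _), graphSL_mul_fieldSL, mul_assoc, graphSL_mul_self, mul_one]

theorem gA_one : gA m (1 : E ≃+* E) false = 1 := (gA_false _).trans (map_one _)

theorem gA_conjSL (τ : E ≃+* E) (b : Bool) (g : GL (Fin m) E) :
    ∃ g', gA m τ b * conjSL (Fin m) E g = conjSL (Fin m) E g' * gA m τ b := by
  cases b
  · exact ⟨_, by rw [gA_false, fieldSL_mul_conjSL]⟩
  · exact ⟨_, by rw [gA_true, mul_assoc, graphSL_mul_conjSL, ← mul_assoc, fieldSL_mul_conjSL,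
      mul_assoc]⟩

section D
variable {d : ℕ} {ψ : SLA.SLd d E →* G}

theorem par (h : MS σ ψ) : SLA.Par d E := ⟨h.two, fun k => by have := h.six; omega⟩

theorem md (h : MS σ ψ) : SLA.Md ψ :=
  ⟨par h, fun e => SLA.z0_ne ((par h).center_sq (h.ker e) (par h).z0_sq)⟩

theorem ty_iff {β : MulAut (SLA.SLd d E)} {τ : E ≃+* E} {b : Bool} :
    SLA.Ty β τ b ↔ ∃ δ, β = conjSL _ E δ * gA (d + 3) τ b := by
  cases b
  · rw [gA_false, ← SLA.au_false]; rfl
  · obtain ⟨J, h1, -, h3⟩ := SLA.exists_J (d := d) (F := E)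
    have e : SLA.au τ true = conjSL _ E (fieldGL _ E τ J) * gA (d + 3) τ true := by
      rw [SLA.au_true, h3, ← mul_assoc, fieldSL_mul_conjSL, mul_assoc, gA_true]
    constructor
    · rintro ⟨g, rfl⟩
      exact ⟨g * fieldGL _ E τ J, by rw [e, map_mul, mul_assoc]⟩
    · rintro ⟨g, rfl⟩
      exact ⟨g * (fieldGL _ E τ J)⁻¹, by
        rw [e, ← mul_assoc, ← map_mul, inv_mul_cancel_right]⟩

theorem th_ty (h : MS σ ψ) {c : G} {τ : E ≃+* E} {b : Bool} :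
    Th ψ c τ b ↔ c ∈ Ns ψ.range ∧ SLA.Ty (SLA.ac ψ c) τ b := by
  rw [th_iff, ty_iff]
  constructor
  · rintro ⟨δ, k⟩
    exact ⟨k.mem_Ns, δ, (md h).ac_eq k⟩
  · rintro ⟨k, δ, e⟩
    exact ⟨δ, e ▸ (md h).ind_ac k⟩

end D

theorem cases (h : MS σ ψ) : ∃ d, m = d + 3 := ⟨m - 3, by have := h.six; omega⟩

theorem equiv_map {A C : Type*} [Group A] [Group C] (f : A →* C) (D : Subgroup A)
    (k : ∀ x ∈ D, f x = 1 → x = 1) : Nonempty (D ≃* D.map f) := by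
  have hi : Function.Injective (f.comp D.subtype) :=
    (injective_iff_map_eq_one _).2 fun x e => Subtype.ext (k x x.2 e)
  exact ⟨(MonoidHom.ofInjective hi).trans (MulEquiv.subgroupCongr (by
    rw [MonoidHom.range_comp, range_subtype]))⟩

end S1

open S1

theorem MS.mo (h : MS σ ψ) : ∃ B : (Fin 7 → E) →ₛₗ[σ] (Fin 7 → E) →ₗ[E] E, Mo B := by
  let B := Matrix.toLinearMapₛₗ₂' E σ (RingHom.id E) (1 : Matrix (Fin 7) (Fin 7) E)
  have e : ∀ x y, B x y = ∑ i, σ (x i) * y i := fun x y => by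
    simp [B, Matrix.toLinearMapₛₗ₂'_apply, Matrix.one_apply]
  refine ⟨B, herm_of_isSymm h.ne h.ss ⟨fun x y => ?_⟩ fun u hu => ?_, h.two, by simp, by simp⟩
  · rw [e, e, map_sum]
    exact Finset.sum_congr rfl fun i _ => by rw [map_mul, h.ss, mul_comm]
  · funext i
    have := hu (Pi.single i 1)
    rw [e, Finset.sum_eq_single i (fun j _ hj => by simp [hj]) (by simp)] at this
    simpa using this

theorem gm_slE (h2 : (2 : E) = 0) (τ : E ≃+* E) {i j : Fin m} (hij : i ≠ j) (s : E) :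
    gm τ true (Chev.slE i j s) = Chev.slE j i (τ s) := by
  have e : gm τ true (Chev.slE i j s) =
      Matrix.SpecialLinearGroup.map (τ : E →+* E) (Chev.slIT (Chev.slE i j s)) := rfl
  rw [e, Chev.slIT_slE hij, Chev.map_slE _ hij.symm,
    show -s = s by linear_combination (-s) * h2]
  rfl

theorem MS.exists_Th (h : MS σ ψ) {c : G} (hc : c ∈ Ns ψ.range) : ∃ τ b, Th ψ c τ b := by
  obtain ⟨d, rfl⟩ := cases h
  obtain ⟨τ, b, k⟩ := (par h).ty (SLA.ac ψ c)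
  exact ⟨τ, b, (th_ty h).2 ⟨hc, k⟩⟩

theorem Th.uniq (h : MS σ ψ) {c : G} {τ τ' : E ≃+* E} {b b' : Bool} (k : Th ψ c τ b)
    (k' : Th ψ c τ' b') : τ = τ' ∧ b = b' := by
  obtain ⟨d, rfl⟩ := cases h
  exact ((th_ty h).1 k).2.uniq (par h) ((th_ty h).1 k').2

theorem Th.mul {c c' : G} {τ τ' : E ≃+* E} {b b' : Bool} (k : Th ψ c τ b) (k' : Th ψ c' τ' b') :
    Th ψ (c * c') (τ * τ') (xor b b') := by
  obtain ⟨δ, k⟩ := th_iff.1 k
  obtain ⟨δ', k'⟩ := th_iff.1 k'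
  obtain ⟨g, e⟩ := gA_conjSL τ b δ'
  refine th_iff.2 ⟨δ * g, ?_⟩
  have := k.mul k'
  rwa [mul_assoc, ← mul_assoc (gA m τ b), e, mul_assoc, gA_mul, ← mul_assoc, ← map_mul] at this

theorem Th.mem {c : G} {τ : E ≃+* E} {b : Bool} (k : Th ψ c τ b) : c ∈ Ns ψ.range := by
  obtain ⟨δ, k⟩ := th_iff.1 k
  refine mem_normalizer_iff.2 fun x => ⟨?_, fun ⟨g, e⟩ => ?_⟩
  · rintro ⟨g, rfl⟩
    exact ⟨_, (k g).symm⟩
  · exact ⟨_, by rw [← k.inv g, e]; group⟩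

theorem Th.of_mem {c : G} (hc : c ∈ ψ.range ⊔ Cs ψ.range) : Th ψ c 1 false := by
  obtain ⟨a, ⟨l, rfl⟩, z, hz, rfl⟩ := (SG2.mem_sup_Cs (le_Cs_comm.1 le_rfl)).1 hc
  refine th_iff.2 ⟨Matrix.SpecialLinearGroup.toGL l, fun g => ?_⟩
  rw [gA_one, mul_one, Known.conjSL_toGL, MulAut.conj_apply, map_mul, map_mul, map_inv,
    mul_assoc (ψ l) z, ← mem_Cs.1 hz _ ⟨g, rfl⟩]
  group

theorem MS.exists_θ (h : MS σ ψ) :
    ∃ θ : Ns ψ.range →* (E ≃+* E) × Multiplicative (ZMod 2), ∀ c τ b,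
      Th ψ c.1 τ b ↔ θ c = (τ, Multiplicative.ofAdd (if b then 1 else 0)) := by
  obtain ⟨d, rfl⟩ := cases h
  obtain ⟨θ, hθ⟩ := (par h).exists_tyH
  obtain ⟨a, ha⟩ := (md h).exists_acH
  refine ⟨θ.comp a, fun c τ b => ?_⟩
  rw [th_ty h, and_iff_right c.2, hθ, MonoidHom.comp_apply, ha]

theorem Th.two (h : MS σ ψ) (ho : Odd (Nat.card (Cs ψ.range))) {c : G} (k : Th ψ c 1 false)
    (hc : Tw c) : c ∈ ψ.range := by
  obtain ⟨d, rfl⟩ := cases h
  obtain ⟨hn, k⟩ := (th_ty h).1 k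
  have h2 := (md h).ac_two hn hc
  obtain ⟨l, hl, e⟩ := (k.inr (par h) h2).lift (par h) h2
  have hl' : ψ l ∈ Ns ψ.range := le_normalizer ⟨l, rfl⟩
  have k1 : (ψ l)⁻¹ * c ∈ Cs ψ.range := by
    rw [← (md h).ac_eq_one (mul_mem (inv_mem hl') hn), (md h).ac_mul (inv_mem hl') hn,
      (md h).ac_inv hl', (md h).ac_psi, e, inv_mul_cancel]
  have k2 : Commute (ψ l)⁻¹ c := by
    have := mem_Cs.1 k1 _ ⟨l, rfl⟩
    refine Commute.inv_left ?_
    rw [mul_inv_cancel_left] at this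
    rw [Commute, SemiconjBy]
    calc ψ l * c = ψ l * ((ψ l)⁻¹ * c * ψ l) := by rw [← this]
      _ = _ := by group
  obtain ⟨a, ha⟩ := SLA.Md_tw_map ψ hl
  obtain ⟨b, hb⟩ := hc
  have k3 : ((ψ l)⁻¹ * c) ^ 2 ^ (a + b) = 1 := by
    rw [k2.mul_pow, inv_pow, pow_add, pow_mul, ha, pow_mul', hb]; simp
  have k4 : (ψ l)⁻¹ * c = 1 := by
    have o := Odd.of_dvd_nat ho (Subgroup.orderOf_dvd_natCard _ k1)
    exact orderOf_eq_one_iff.1 (Nat.Coprime.eq_one_of_dvd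
      ((Nat.coprime_two_right.2 o).pow_right _) (orderOf_dvd_of_pow_eq_one k3))
  exact ⟨l, inv_mul_eq_one.1 k4⟩

theorem MS.perf (h : MS σ ψ) : ⁅ψ.range, ψ.range⁆ = ψ.range := by
  obtain ⟨d, rfl⟩ := cases h
  exact (md h).perf

theorem MS.ident (h : MS σ ψ) {X S : Subgroup G} (hX : IsSimpleGroup X)
    (h1 : IsSylowIn 2 S ψ.range) (h2 : IsSylowIn 2 S X) :
    Nonempty (X ≃* Matrix.ProjectiveSpecialLinearGroup (Fin m) E) := by
  classical
  have := Fintype.ofFinite E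
  obtain ⟨B, hB⟩ := h.mo
  obtain ⟨n, hn, e⟩ := hB.q_pow
  have hc : Fintype.card E = 2 ^ (n * 2) := by
    rw [← Nat.card_eq_fintype_card, hB.card_E, e, pow_mul]
  obtain ⟨d, rfl⟩ := cases h
  have hp := par h
  have hU := hp.U_syl
  have tw : ∀ x ∈ SLA.U0 d E, Tw x := fun x hx => Tw.of_mem hU.isPGroup hx
  obtain ⟨x, -, hx⟩ := h1.exists_cj_eq (md h).syl
  obtain ⟨e1⟩ := equiv_map ψ _ fun x hx => (md h).eq_one (tw x hx)
  obtain ⟨e2⟩ := equiv_map (QuotientGroup.mk' (center (SLA.SLd d E))) _ fun x hx k =>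
    hp.center_two ((QuotientGroup.eq_one_iff _).1 k) (tw x hx)
  obtain ⟨P, hP⟩ := (hU.map_mk' (center _)).exists_sylow_eq
  have e3 : SLA.U0 d E ≃* S := (e1.trans (equivMapOfInjective _ (MulAut.conj x).toMonoidHom
    (MulAut.conj x).injective)).trans (MulEquiv.subgroupCongr hx)
  refine Cfsg.Agent.S1769.result (G := X) (fun k => ?_) (n * 2) (by omega) hc (d + 3) (by omega)
    h2.toSylow P ⟨((subgroupOfEquivOfLe h2.le).trans e3.symm).trans
      (e2.trans (MulEquiv.subgroupCongr hP.symm))⟩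
  have k1 := (FT.BG4.pRankLE_congr e3).2 (FT.BG4.pRankLE_of_le k h2.le)
  have el := hp.el_AW (SLA.Wj d E (SLA.kk d))
  have k2 := FT.BG4.pRankLE_subgroup_iff.1 k1 _ (SLA.Aj_le_U (SLA.kk d))
    ⟨⟨⟨fun a b => Subtype.ext (el.comm a.2 b.2)⟩⟩, fun a ha => by rw [sq]; exact el a ha⟩
  have k3 := hp.mx_ge
  rw [← SLA.mx_A0.card] at k3
  exact absurd (k3.trans k2) (by norm_num)

end Cfsg.Lib.UM6
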