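import Cfsg.Agent.UM6.S1
import Cfsg.Agent.SLA.NF
import Cfsg.Agent.S0242

/-!
# Field and graph-field involutions
-/

set_option autoImplicit false
set_option linter.unusedSectionVars false

namespace Cfsg.Lib.UM6

open Subgroup Module Cfsg.Lib.Trans Cfsg.Lib.Gold Cfsg.Lib.Class.Form Cfsg.Lib.Class.FAut
open Cfsg.Lib.Comp (Tw)
open scoped commutatorElement MatrixGroups

variable {G E : Type*} [Group G] [Finite G] [Field E] [Finite E] {σ : E →+* E} {m : ℕ}
  {ψ : SL(m, E) →* G}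

namespace S3

theorem dvd_range {K : Type*} [Field K] [Finite K] {χ : SL(m, K) →* G} (hχ : χ.ker ≤ center _)
    {r j : ℕ} (hr : r.Prime) (h2 : 2 < j) (hj : j ≤ m) (ho : orderOf (Nat.card K : ZMod r) = j) :
    r ∣ Nat.card χ.range := by
  classical
  have := Fintype.ofFinite K
  have := Fact.mk hr
  rw [Nat.card_eq_fintype_card] at ho
  have h1 : 1 ≤ Fintype.card K := Fintype.card_pos
  have n1 : ¬ r ∣ Fintype.card K - 1 := fun k => by
    have := (ZMod.natCast_eq_zero_iff _ _).2 k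
    rw [Nat.cast_sub h1, Nat.cast_one, sub_eq_zero] at this
    rw [this, orderOf_one] at ho
    omega
  have d1 : r ∣ Nat.card SL(m, K) := by
    refine ((Nat.Prime.dvd_mul hr).1 ?_).resolve_left n1
    rw [Agent.S0242.result rfl m (by omega)]
    refine Dvd.dvd.trans ?_ (Finset.dvd_prod_of_mem _ (Finset.mem_univ (⟨m - j, by omega⟩ : Fin m)))
    refine (ZMod.natCast_eq_zero_iff _ _).1 ?_
    rw [Nat.cast_sub (Nat.pow_le_pow_right h1 (Nat.sub_le _ _))]
    push_cast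
    have : (Fintype.card K : ZMod r) ^ m = (Fintype.card K : ZMod r) ^ (m - j) * 1 := by
      rw [← pow_orderOf_eq_one (Fintype.card K : ZMod r), ho, ← pow_add, Nat.sub_add_cancel hj]
    rw [this, mul_one, sub_self]
  obtain ⟨y, hy⟩ := exists_prime_orderOf_dvd_card' r d1
  have n2 : χ y ≠ 1 := fun e => by
    obtain ⟨a, ha, e⟩ := Matrix.SpecialLinearGroup.mem_center_iff.1 (hχ e)
    have a0 : a ≠ 0 := by
      rintro rfl
      rw [Fintype.card_fin, zero_pow (by omega)] at ha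
      exact zero_ne_one ha
    refine n1 (hy ▸ orderOf_dvd_of_pow_eq_one (Subtype.ext ?_))
    rw [Matrix.SpecialLinearGroup.coe_pow, ← e, ← map_pow, FiniteField.pow_card_sub_one_eq_one a a0,
      map_one]
    rfl
  have e : orderOf (χ y) = r :=
    orderOf_eq_prime (by rw [← map_pow, ← hy, pow_orderOf_eq_one, map_one]) n2
  exact e ▸ Subgroup.orderOf_dvd_natCard _ ⟨y, rfl⟩

theorem th_pow {c : G} (k : Th ψ c 1 false) (n : ℕ) : Th ψ (c ^ n) 1 false := by
  induction n with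
  | zero => rw [pow_zero]; exact Th.of_mem (one_mem _)
  | succ n ih => rw [pow_succ]; simpa using ih.mul k

theorem congr (h : MS σ ψ) {l : SL(m, E)} (e : gm (sg σ) true l = l⁻¹) :
    ∃ p : SL(m, E), gm (sg σ) true p⁻¹ * l⁻¹ * p = 1 := by
  obtain ⟨B, hB⟩ := h.mo
  have h6 := h.six
  have : Fact (Nat.Prime 2) := ⟨Nat.prime_two⟩
  have ho : orderOf (sg σ) = 2 := orderOf_eq_prime (by rw [sq, hB.sg_sq]) hB.sg_ne
  have ss : ∀ a, sg σ (sg σ a) = a := fun a => by rw [hB.sg_apply, hB.sg_apply, h.ss]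
  obtain ⟨M, hM⟩ := Known.exists_congr_of_hermitian (σ := sg σ) ho
    (Matrix.SpecialLinearGroup.toGL l⁻¹) (congrArg Subtype.val e)
  have hM' : (M.1.map (sg σ)).transpose * (l⁻¹).1 * M.1 = 1 := hM
  have hd : sg σ M.1.det * M.1.det = 1 := by
    have := congrArg Matrix.det hM'
    rwa [Matrix.det_mul, Matrix.det_mul, Matrix.det_transpose, (l⁻¹).2, mul_one, Matrix.det_one,
      show M.1.map (sg σ) = (sg σ : E →+* E).mapMatrix M.1 from rfl, ← RingHom.map_det] at this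
  let i0 : Fin m := ⟨0, by omega⟩
  let D : Matrix (Fin m) (Fin m) E := Matrix.diagonal fun i => if i = i0 then sg σ M.1.det else 1
  obtain ⟨p, hp⟩ : ∃ p : SL(m, E), p.1 = M.1 * D := ⟨⟨M.1 * D, by
    rw [Matrix.det_mul, Matrix.det_diagonal, Finset.prod_ite_eq', if_pos (Finset.mem_univ _),
      mul_comm, hd]⟩, rfl⟩
  refine ⟨p, Subtype.ext ?_⟩
  rw [Matrix.SpecialLinearGroup.coe_mul, Matrix.SpecialLinearGroup.coe_mul, gm_true, coe_it, inv_inv,
    hp]
  change ((M.1 * D).map (sg σ : E →+* E)).transpose * (l⁻¹).1 * (M.1 * D) = 1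
  rw [Matrix.map_mul, Matrix.transpose_mul]
  calc _ = (D.map (sg σ : E →+* E)).transpose * ((M.1.map (sg σ)).transpose * (l⁻¹).1 * M.1) * D := by
        simp only [mul_assoc]; rfl
    _ = 1 := by
      rw [hM', mul_one, Matrix.diagonal_map (map_zero _), Matrix.diagonal_transpose,
        Matrix.diagonal_mul_diagonal, ← Matrix.diagonal_one]
      congr 1
      funext i
      split_ifs
      · exact (congrArg (· * _) (ss _)).trans ((mul_comm _ _).trans hd)
      · simp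

end S3

theorem Th.field (h : MS σ ψ) {c : G} (k : Th ψ c (sg σ) false) (c2 : c * c = 1) :
    ∃ Y : Subgroup G, Y ≤ C1 c ∧ ⁅Y, Y⁆ = Y ∧ ∀ r j : ℕ, r.Prime → 2 < j → j ≤ m →
      orderOf (qn σ : ZMod r) = j → r ∣ Nat.card Y := by
  obtain ⟨B, hB⟩ := h.mo
  obtain ⟨d, rfl⟩ := S1.cases h
  obtain ⟨hn, k⟩ := (S1.th_ty h).1 k
  have hm := S1.md h
  obtain ⟨g, e⟩ := (S1.par h).nf_semi (by rw [← hm.ac_mul hn hn, c2, hm.ac_one]) k hB.sg_ne
  let K := σ.eqLocusField (RingHom.id E)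
  let ι : SL(d + 3, K) →* SL(d + 3, E) :=
    (Known.conjSL _ E g).toMonoidHom.comp (Matrix.SpecialLinearGroup.map K.subtype)
  have hι : Function.Injective ι := fun a b k => by
    have := congrArg Subtype.val ((Known.conjSL _ E g).injective k)
    exact Subtype.ext (Matrix.map_injective K.subtype_injective this)
  have hc : Nat.card K = qn σ := Nat.card_congr (Equiv.refl _)
  refine ⟨(ψ.comp ι).range, ?_, ?_, fun r j hr h2 hj ho => S3.dvd_range (fun y hy => ?_) hr h2 hj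
    (hc ▸ ho)⟩
  · rintro _ ⟨y, rfl⟩
    refine hm.map_Fx hn ⟨ι y, ?_, rfl⟩
    change SLA.ac ψ c (Known.conjSL _ E g _) = Known.conjSL _ E g _
    rw [e, MulAut.mul_apply, MulAut.mul_apply, MulAut.inv_apply_self, SLA.au_false]
    congr 1
    ext a b
    exact (hB.sg_apply _).trans (y.1 a b).2
  · rw [MonoidHom.range_eq_map, ← map_commutator, ← commutator_def,
      Class.SL_commutator_eq_top (by simp)]
  · exact mem_center_iff.2 fun z => hι (by
      rw [map_mul, map_mul]; exact mem_center_iff.1 (h.ker hy) _)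

theorem Th.herm (h : MS σ ψ) (ho : Odd (Nat.card (Cs ψ.range))) {t c : G} (t2 : t * t = 1)
    (ht : ∀ g, t * ψ g * t⁻¹ = ψ (gm (sg σ) true g)) (k : Th ψ c (sg σ) true) (c2 : c * c = 1) :
    ∃ a ∈ zpowers (t * c) ⊔ ψ.range, a * c * a⁻¹ = t := by
  obtain ⟨B, hB⟩ := h.mo
  have k0 : Th ψ t (sg σ) true := ⟨1, fun g => by
    rw [ht, S1.slCj_eq, map_one]; rfl⟩
  have k1 : Th ψ (t * c) 1 false := by
    have := k0.mul k
    rwa [hB.sg_sq] at this
  obtain ⟨n, o, ⟨i, rfl⟩, e⟩ := Nat.exists_eq_two_pow_mul_odd (orderOf_pos (t * c)).ne'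
  have h2 : Tw ((t * c) ^ (2 * i + 1)) :=
    ⟨n, by rw [← pow_mul, mul_comm, ← e, pow_orderOf_eq_one]⟩
  have ti : t⁻¹ = t := inv_eq_of_mul_eq_one_right t2
  have e1 : (t * c)⁻¹ * t = t * (t * c) := by
    rw [mul_inv_rev, ti, inv_eq_of_mul_eq_one_right c2, mul_assoc, t2, ← mul_assoc, t2, mul_one,
      one_mul]
  have e2 : ((t * c) ^ i)⁻¹ * t = t * (t * c) ^ i := by
    rw [← inv_pow]; exact (SemiconjBy.pow_right (a := t) e1.symm i).symm
  have e3 : ((t * c) ^ i)⁻¹ * c * (t * c) ^ i = t * (t * c) ^ (2 * i + 1) := by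
    calc _ = ((t * c) ^ i)⁻¹ * t * (t * c) * (t * c) ^ i := by
          rw [mul_assoc _ t, ← mul_assoc t, t2, one_mul]
      _ = _ := by
        rw [e2, mul_assoc, mul_assoc, ← pow_succ', ← pow_add, two_mul, add_assoc]
  have h3 := (S3.th_pow k1 _).two h ho h2
  obtain ⟨d, rfl⟩ := S1.cases h
  have hm := S1.md h
  obtain ⟨l, hl, e4⟩ := hm.lift h3 h2
  rw [← e4] at e3
  have e5 : gm (sg σ) true l = l⁻¹ := by
    refine hm.inj2 (SLA.Md_tw_map _ hl) (by obtain ⟨s, hs⟩ := hl; exact ⟨s, by rw [inv_pow, hs, inv_one]⟩) ?_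
    rw [← ht, map_inv, eq_inv_iff_mul_eq_one, ti, mul_assoc, ← e3]
    calc _ = ((t * c) ^ i)⁻¹ * (c * c) * (t * c) ^ i := by group
      _ = 1 := by rw [c2]; group
  obtain ⟨p, hp⟩ := S3.congr h e5
  refine ⟨ψ (gm (sg σ) true p⁻¹) * ((t * c) ^ i)⁻¹, mul_mem (mem_sup_right ⟨_, rfl⟩)
    (mem_sup_left (inv_mem (npow_mem_zpowers _ _))), ?_⟩
  have e6 : l = p * gm (sg σ) true p⁻¹ := by
    calc l = p * (gm (sg σ) true p⁻¹ * l⁻¹ * p)⁻¹ * gm (sg σ) true p⁻¹ := by group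
      _ = _ := by rw [hp]; group
  calc _ = ψ (gm (sg σ) true p⁻¹) * (((t * c) ^ i)⁻¹ * c * (t * c) ^ i) *
        (ψ (gm (sg σ) true p⁻¹))⁻¹ := by group
    _ = t := by
      rw [e3, e6, map_mul, ← ht, map_inv]
      group

end Cfsg.Lib.UM6
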