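import Cfsg.Agent.UM6.SYLA
import Cfsg.Agent.UM6.J1

/-!
# Standard subgroups of type `U_m(2ⁿ)`: the Thompson subgroup of the Sylow subgroup
-/

set_option autoImplicit false
set_option linter.unusedSectionVars false

namespace Cfsg.Lib.UM6

open Subgroup Module Cfsg.Lib.Trans Cfsg.Lib.Gold Cfsg.Lib.Class.Form Cfsg.Lib.Class.FAut

variable {E M : Type*} [Field E] [Finite E] [AddCommGroup M] [Module E M] [FiniteDimensional E M]
  {σ : E →+* E} {B : M →ₛₗ[σ] M →ₗ[E] E}
  {U : Subgroup (sIsom B)} {W : Submodule E M} {u : M} {γ : (E ≃+* E) →* MulAut (sIsom B)}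

theorem Fr.jU (h : Mo B) (k : Fr B U W u γ) {A : Subgroup (sIsom B)} (hA : ∀ a ∈ A, a * a = 1)
    (hle : A ≤ U) (hc : qn σ ^ (kk E M ^ 2) ≤ Nat.card A) : A = VW B W := by
  obtain ⟨W', hW', rfl⟩ := (h.j1 hA).2 hc
  refine congrArg _ (Submodule.eq_of_le_of_finrank_eq (fun x hx => by_contra fun hn => hn ?_)
    (hW'.dim.trans k.mx.dim.symm))
  have hxx := hW'.ti x hx x hx
  refine k.mx.mem h hxx fun w hw => h.swap (by_contra fun e => hn ?_)
  have := sub_mem ((k.st (hle (h.tT_mem hxx hx (map_one σ))) w).1 hw) hw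
  rwa [h.lin_tT hxx (map_one σ), add_sub_cancel_left, one_mul, W.smul_mem_iff e] at this

end Cfsg.Lib.UM6
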